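import Cfsg.Agent.Lib.Blocks.Central
import Cfsg.Agent.Lib.Characters.Basic
import Mathlib.LinearAlgebra.Matrix.StdBasis

/-!
# Blocks and their idempotents

Blocks are the classes of `Cfsg.SameBlock M`; the idempotent of a block has coefficients in the
local ring (Osima), and a set of irreducible characters with locally integral idempotent is a
union of blocks.  Every algebra homomorphism from the centre of the group algebra over the residue
field is a reduced central character.
-/

namespace Cfsg.Agent.Lib.Blocks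

open MonoidAlgebra Cfsg.Agent.Lib.BrauerMap.Basic Cfsg.Agent.Lib.BrauerMap.ClassSum
open Cfsg.Agent.Lib.Characters.Basic Cfsg.Agent.Lib.Induced.Basic
open scoped ComplexConjugate

universe u

variable {G : Type u} [Group G]

/-! ## The regular character and separation of the centre -/

/-- The regular representation on functions. -/
def regRep : Representation ℂ G (G → ℂ) where
  toFun g := LinearMap.funLeft ℂ ℂ (fun x => g⁻¹ * x)
  map_one' := by ext f x; simp
  map_mul' g g' := by ext f x; simp [mul_assoc]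

open scoped Classical in
theorem regRep_character [Fintype G] (g : G) :
    (regRep (G := G)).character g = if g = 1 then (Fintype.card G : ℂ) else 0 := by
  rw [Representation.character, LinearMap.trace_eq_matrix_trace ℂ (Pi.basisFun ℂ G), Matrix.trace]
  simp only [Matrix.diag, LinearMap.toMatrix_apply, Pi.basisFun_apply, Pi.basisFun_repr]
  have h : ∀ x : G, (regRep g (Pi.single x (1 : ℂ) : G → ℂ)) x = if g = 1 then 1 else 0 := by
    intro x
    change (Pi.single x (1 : ℂ) : G → ℂ) (g⁻¹ * x) = _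
    rw [Pi.single_apply]
    exact if_congr ⟨fun e => inv_eq_one.mp (mul_eq_right.mp e), fun e => by simp [e]⟩ rfl rfl
  simp only [h]
  split_ifs <;> simp

variable [Finite G]

open scoped Classical in
/-- The regular character: the sum of `χ 1 * χ g` is `|G|` at the identity and `0` elsewhere. -/
theorem sum_degree_mul_char [Fintype (Cfsg.IrrCharacter G)] (g : G) :
    ∑ χ : Cfsg.IrrCharacter G, (χ : G → ℂ) 1 * (χ : G → ℂ) g =
      if g = 1 then (Nat.card G : ℂ) else 0 := by
  haveI := Fintype.ofFinite G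
  have h := congrFun (character_eq_finsum (isCharacter_character (regRep (G := G)))) g
  rw [regRep_character, finsum_eq_sum_of_fintype, Finset.sum_apply] at h
  rw [Nat.card_eq_fintype_card, h]
  refine Finset.sum_congr rfl fun χ _ => ?_
  have : Cfsg.classInner (regRep (G := G)).character (χ : G → ℂ) = (χ : G → ℂ) 1 := by
    rw [Cfsg.classInner, Finset.sum_eq_single 1]
    · rw [regRep_character, if_pos rfl, conj_apply_one (isCharacter_irr χ),
        Nat.card_eq_fintype_card, ← mul_assoc, inv_mul_cancel₀, one_mul]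
      exact_mod_cast Fintype.card_ne_zero
    · intro x _ hx
      rw [regRep_character, if_neg hx, zero_mul]
    · exact fun h => absurd (Finset.mem_univ _) h
  rw [Pi.smul_apply, this, smul_eq_mul]

/-- A central element killed by every central character is zero. -/
theorem eq_zero_of_omega_eq_zero {z : Subalgebra.center ℂ (MonoidAlgebra ℂ G)}
    (h : ∀ χ : Cfsg.IrrCharacter G, omega χ z = 0) : z = 0 := by
  classical
  haveI := Fintype.ofFinite G
  haveI := Fintype.ofFinite (Cfsg.IrrCharacter G)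
  apply Subtype.ext
  ext x
  set w : MonoidAlgebra ℂ G := z.1 * single x⁻¹ 1 with hw
  have h0 : ∀ χ : Cfsg.IrrCharacter G, lin (χ : G → ℂ) w = 0 := by
    intro χ
    rw [hw, lin_center_mul χ z.2, ← omega_apply, h χ, zero_mul]
  have key : ∑ χ : Cfsg.IrrCharacter G, (χ : G → ℂ) 1 * lin (χ : G → ℂ) w =
      (Nat.card G : ℂ) * z.1.coeff x := by
    simp only [lin_apply, Finset.mul_sum]
    rw [Finset.sum_comm]
    simp only [mul_left_comm _ (w.coeff _)]
    simp only [← Finset.mul_sum, sum_degree_mul_char, mul_ite, mul_zero]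
    rw [Finset.sum_ite_eq' Finset.univ (1 : G), if_pos (Finset.mem_univ _), mul_comm, hw,
      coeff_mul_single_apply]
    simp
  simp only [h0, mul_zero, Finset.sum_const_zero] at key
  have hc : (Nat.card G : ℂ) ≠ 0 := Nat.cast_ne_zero.mpr Nat.card_pos.ne'
  simpa using (mul_eq_zero.mp key.symm).resolve_left hc

theorem eq_of_omega_eq {z w : Subalgebra.center ℂ (MonoidAlgebra ℂ G)}
    (h : ∀ χ : Cfsg.IrrCharacter G, omega χ z = omega χ w) : z = w :=
  sub_eq_zero.mp (eq_zero_of_omega_eq_zero fun χ => by rw [map_sub, h, sub_self])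

/-! ## Idempotents of sets of characters -/

theorem blockCoeff_eq_sum [Fintype (Cfsg.IrrCharacter G)] (A : Set (Cfsg.IrrCharacter G))
    [DecidablePred (· ∈ A)] (g : G) :
    Cfsg.blockCoeff A g = (Nat.card G : ℂ)⁻¹ *
      ∑ χ : Cfsg.IrrCharacter G with χ ∈ A, (χ : G → ℂ) 1 * conj ((χ : G → ℂ) g) := by
  rw [Cfsg.blockCoeff, finsum_mem_eq_finite_toFinset_sum _ (Set.toFinite A)]
  congr 1
  refine Finset.sum_congr ?_ fun _ _ => rfl
  ext χ
  simp

theorem blockCoeff_conj_apply (A : Set (Cfsg.IrrCharacter G)) (u g : G) :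
    Cfsg.blockCoeff A (u * g * u⁻¹) = Cfsg.blockCoeff A g := by
  simp only [Cfsg.blockCoeff, char_conj_apply]

theorem blockCoeff_eq_of_isConj (A : Set (Cfsg.IrrCharacter G)) {g h : G} (e : IsConj g h) :
    Cfsg.blockCoeff A g = Cfsg.blockCoeff A h := by
  obtain ⟨c, rfl⟩ := isConj_iff.mp e
  exact (blockCoeff_conj_apply A c g).symm

/-- The sum of the central idempotents of a set of irreducible characters. -/
noncomputable def idem (A : Set (Cfsg.IrrCharacter G)) :
    Subalgebra.center ℂ (MonoidAlgebra ℂ G) :=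
  ofClassFun (Cfsg.blockCoeff A) (blockCoeff_conj_apply A)

theorem coeff_idem (A : Set (Cfsg.IrrCharacter G)) (g : G) :
    (idem A : MonoidAlgebra ℂ G).coeff g = Cfsg.blockCoeff A g := rfl

open scoped Classical in
theorem omega_idem (A : Set (Cfsg.IrrCharacter G)) (χ : Cfsg.IrrCharacter G) :
    omega χ (idem A) = if χ ∈ A then 1 else 0 := by
  haveI := Fintype.ofFinite G
  haveI := Fintype.ofFinite (Cfsg.IrrCharacter G)
  rw [omega_apply, lin_apply]
  simp only [coeff_idem, blockCoeff_eq_sum]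
  have key : ∑ g : G, (Nat.card G : ℂ)⁻¹ *
      (∑ ψ : Cfsg.IrrCharacter G with ψ ∈ A, (ψ : G → ℂ) 1 * conj ((ψ : G → ℂ) g)) *
        (χ : G → ℂ) g =
      ∑ ψ : Cfsg.IrrCharacter G with ψ ∈ A,
        (ψ : G → ℂ) 1 * Cfsg.classInner (χ : G → ℂ) ψ := by
    simp only [Cfsg.classInner, Finset.mul_sum, Finset.sum_mul]
    rw [Finset.sum_comm]
    exact Finset.sum_congr rfl fun ψ _ => Finset.sum_congr rfl fun g _ => by ring
  rw [key]
  simp only [classInner_irr, mul_ite, mul_one, mul_zero, Finset.sum_ite_eq, Finset.mem_filter,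
    Finset.mem_univ, true_and]
  split_ifs
  · exact div_self (char_one_ne_zero χ)
  · exact zero_div _

theorem idem_mul_idem (A B : Set (Cfsg.IrrCharacter G)) : idem A * idem B = idem (A ∩ B) := by
  classical
  refine eq_of_omega_eq fun χ => ?_
  simp only [map_mul, omega_idem, Set.mem_inter_iff]
  split_ifs <;> simp_all

theorem idem_univ : idem (Set.univ : Set (Cfsg.IrrCharacter G)) = 1 := by
  classical
  exact eq_of_omega_eq fun χ => by rw [omega_idem, if_pos (Set.mem_univ χ), map_one]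

theorem idem_union {A B : Set (Cfsg.IrrCharacter G)} (h : Disjoint A B) :
    idem (A ∪ B) = idem A + idem B := by
  classical
  refine eq_of_omega_eq fun χ => ?_
  simp only [map_add, omega_idem, Set.mem_union]
  by_cases hA : χ ∈ A
  · simp [hA, Set.disjoint_left.mp h hA]
  · simp [hA]

/-! ## Blocks -/

variable {M : Ideal Cfsg.AlgInt} [M.IsMaximal]

theorem sameBlock_refl (χ : Cfsg.IrrCharacter G) :
    Cfsg.SameBlock M (χ : G → ℂ) (χ : G → ℂ) := sameBlock_iff_omegaBar.mpr rfl

theorem sameBlock_symm {χ ψ : Cfsg.IrrCharacter G}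
    (h : Cfsg.SameBlock M (χ : G → ℂ) (ψ : G → ℂ)) : Cfsg.SameBlock M (ψ : G → ℂ) (χ : G → ℂ) :=
  sameBlock_iff_omegaBar.mpr (sameBlock_iff_omegaBar.mp h).symm

theorem sameBlock_trans {χ ψ θ : Cfsg.IrrCharacter G}
    (h : Cfsg.SameBlock M (χ : G → ℂ) (ψ : G → ℂ))
    (h' : Cfsg.SameBlock M (ψ : G → ℂ) (θ : G → ℂ)) : Cfsg.SameBlock M (χ : G → ℂ) (θ : G → ℂ) :=
  sameBlock_iff_omegaBar.mpr ((sameBlock_iff_omegaBar.mp h).trans (sameBlock_iff_omegaBar.mp h'))

theorem mem_blockOf_iff {χ ψ : Cfsg.IrrCharacter G} :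
    ψ ∈ Cfsg.blockOf M (χ : G → ℂ) ↔ omegaBar M χ = omegaBar M ψ := sameBlock_iff_omegaBar

theorem mem_blockOf_self (χ : Cfsg.IrrCharacter G) : χ ∈ Cfsg.blockOf M (χ : G → ℂ) :=
  sameBlock_refl χ

theorem blockOf_eq_of_mem {χ ψ : Cfsg.IrrCharacter G} (h : ψ ∈ Cfsg.blockOf M (χ : G → ℂ)) :
    Cfsg.blockOf M (ψ : G → ℂ) = Cfsg.blockOf M (χ : G → ℂ) := by
  ext θ
  rw [mem_blockOf_iff, mem_blockOf_iff, mem_blockOf_iff.mp h]

theorem blockOf_eq_iff {χ ψ : Cfsg.IrrCharacter G} :
    Cfsg.blockOf M (χ : G → ℂ) = Cfsg.blockOf M (ψ : G → ℂ) ↔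
      omegaBar M χ = omegaBar M ψ :=
  ⟨fun h => mem_blockOf_iff.mp (h ▸ mem_blockOf_self ψ),
    fun h => (blockOf_eq_of_mem (mem_blockOf_iff.mpr h)).symm⟩

theorem isPBlock_blockOf (χ : Cfsg.IrrCharacter G) :
    Cfsg.IsPBlock M (Cfsg.blockOf M (χ : G → ℂ)) := ⟨χ, rfl⟩

theorem isPBlock_eq_blockOf {B : Set (Cfsg.IrrCharacter G)} (hB : Cfsg.IsPBlock M B)
    {χ : Cfsg.IrrCharacter G} (hχ : χ ∈ B) : B = Cfsg.blockOf M (χ : G → ℂ) := by
  obtain ⟨θ, rfl⟩ := hB
  exact (blockOf_eq_of_mem hχ).symm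

theorem isPBlock_nonempty {B : Set (Cfsg.IrrCharacter G)} (hB : Cfsg.IsPBlock M B) :
    B.Nonempty := by
  obtain ⟨θ, rfl⟩ := hB
  exact ⟨θ, mem_blockOf_self θ⟩

theorem omegaBar_eq_of_mem {B : Set (Cfsg.IrrCharacter G)} (hB : Cfsg.IsPBlock M B)
    {χ ψ : Cfsg.IrrCharacter G} (hχ : χ ∈ B) (hψ : ψ ∈ B) : omegaBar M χ = omegaBar M ψ := by
  rw [isPBlock_eq_blockOf hB hχ] at hψ
  exact mem_blockOf_iff.mp hψ

theorem residue_ccR_eq_of_mem {B : Set (Cfsg.IrrCharacter G)} (hB : Cfsg.IsPBlock M B)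
    {χ ψ : Cfsg.IrrCharacter G} (hχ : χ ∈ B) (hψ : ψ ∈ B) (g : G) :
    residue M (ccR M χ g) = residue M (ccR M ψ g) := by
  rw [← omegaBar_classSumC, ← omegaBar_classSumC, omegaBar_eq_of_mem hB hχ hψ]

theorem memLocalIdeal_centralChar_iff (χ : Cfsg.IrrCharacter G) (g : G) :
    Cfsg.MemLocalIdeal M (Cfsg.centralChar (χ : G → ℂ) g) ↔ residue M (ccR M χ g) = 0 :=
  (residue_eq_zero_iff (z := ccR M χ g)).symm

theorem isPBlock_disjoint {B B' : Set (Cfsg.IrrCharacter G)} (hB : Cfsg.IsPBlock M B)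
    (hB' : Cfsg.IsPBlock M B') (hne : B ≠ B') : Disjoint B B' :=
  Set.disjoint_left.mpr fun χ h h' =>
    hne ((isPBlock_eq_blockOf hB h).trans (isPBlock_eq_blockOf hB' h').symm)

theorem principalBlock_eq : Cfsg.principalBlock M G = Cfsg.blockOf M (oneChar G : G → ℂ) := rfl

theorem isPBlock_principalBlock : Cfsg.IsPBlock M (Cfsg.principalBlock M G) := ⟨oneChar G, rfl⟩

theorem oneChar_mem_principalBlock : oneChar G ∈ Cfsg.principalBlock M G :=
  mem_blockOf_self (oneChar G)

theorem centralChar_one (χ : Cfsg.IrrCharacter G) : Cfsg.centralChar (χ : G → ℂ) 1 = 1 := by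
  rw [Cfsg.centralChar]
  have : Subgroup.centralizer ({1} : Set G) = ⊤ :=
    eq_top_iff.mpr fun x _ => by simp [Subgroup.mem_centralizer_singleton_iff]
  rw [this, Subgroup.index_top, Nat.cast_one, one_mul, div_self (char_one_ne_zero χ)]

/-! ## Osima's theorem -/

/-- The idempotent of a set of characters whose coefficients are local integers, over the local
ring. -/
noncomputable def idemR (A : Set (Cfsg.IrrCharacter G))
    (h : ∀ g : G, Cfsg.MemLocalRing M (Cfsg.blockCoeff A g)) :
    Subalgebra.center (localRing M) (MonoidAlgebra (localRing M) G) :=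
  ofClassFun (fun g => (⟨Cfsg.blockCoeff A g, h g⟩ : localRing M))
    (fun u g => Subtype.ext (blockCoeff_conj_apply A u g))

theorem coe_coeff_idemR (A : Set (Cfsg.IrrCharacter G))
    (h : ∀ g : G, Cfsg.MemLocalRing M (Cfsg.blockCoeff A g)) (g : G) :
    (((idemR A h).1.coeff g : localRing M) : ℂ) = Cfsg.blockCoeff A g := rfl

theorem mapCenter_idemR (A : Set (Cfsg.IrrCharacter G))
    (h : ∀ g : G, Cfsg.MemLocalRing M (Cfsg.blockCoeff A g)) :
    mapCenter (localRing M).subtype (idemR A h) = idem A := by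
  apply Subtype.ext
  ext g
  rw [coeff_mapCenter]
  rfl

theorem eq_of_omegaR_eq {z w : Subalgebra.center (localRing M) (MonoidAlgebra (localRing M) G)}
    (h : ∀ χ : Cfsg.IrrCharacter G, omegaR M χ z = omegaR M χ w) : z = w := by
  have h' : mapCenter (localRing M).subtype z = mapCenter (localRing M).subtype w :=
    eq_of_omega_eq fun χ => by rw [← coe_omegaR, ← coe_omegaR, h χ]
  apply Subtype.ext
  ext g
  have h'' := congrArg
    (fun t : Subalgebra.center ℂ (MonoidAlgebra ℂ G) => t.1.coeff g) h'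
  simp only [coeff_mapCenter] at h''
  exact h''

open scoped Classical in
theorem omegaR_idemR (A : Set (Cfsg.IrrCharacter G))
    (h : ∀ g : G, Cfsg.MemLocalRing M (Cfsg.blockCoeff A g)) (χ : Cfsg.IrrCharacter G) :
    omegaR M χ (idemR A h) = if χ ∈ A then 1 else 0 := by
  apply Subtype.ext
  rw [coe_omegaR, mapCenter_idemR, omega_idem]
  split_ifs <;> simp

theorem omegaR_algebraMap (χ : Cfsg.IrrCharacter G) (r : localRing M) :
    omegaR M χ (algebraMap _ _ r) = r := by
  apply Subtype.ext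
  rw [coe_omegaR, Algebra.algebraMap_eq_smul_one, mapCenter_smul, map_one, map_smul, map_one,
    smul_eq_mul, mul_one]
  rfl

theorem omegaR_sub (χ : Cfsg.IrrCharacter G)
    (x y : Subalgebra.center (localRing M) (MonoidAlgebra (localRing M) G)) :
    omegaR M χ (x - y) = omegaR M χ x - omegaR M χ y :=
  RingHom.map_sub _ x y

theorem mapCenter_residue_sub
    (x y : Subalgebra.center (localRing M) (MonoidAlgebra (localRing M) G)) :
    mapCenter (residue M) (x - y) = mapCenter (residue M) x - mapCenter (residue M) y :=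
  RingHom.map_sub _ x y

open scoped Classical in
/-- For each block there is an element of the centre over the local ring with central character
`1` on the block and `0` outside. -/
theorem exists_omegaR_indicator {B : Set (Cfsg.IrrCharacter G)} (hB : Cfsg.IsPBlock M B) :
    ∃ e : Subalgebra.center (localRing M) (MonoidAlgebra (localRing M) G),
      ∀ χ : Cfsg.IrrCharacter G, omegaR M χ e = if χ ∈ B then 1 else 0 := by
  haveI := Fintype.ofFinite (Cfsg.IrrCharacter G)
  obtain ⟨χ₀, hχ₀⟩ := isPBlock_nonempty hB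
  have hsep : ∀ ψ : Cfsg.IrrCharacter G, ψ ∉ B →
      ∃ g : G, residue M (ccR M χ₀ g) ≠ residue M (ccR M ψ g) := by
    intro ψ hψ
    by_contra hh
    rw [not_exists] at hh
    refine hψ ?_
    rw [isPBlock_eq_blockOf hB hχ₀]
    exact sameBlock_iff_residue.mpr fun g => not_ne_iff.mp (hh g)
  choose gsep hgsep using hsep
  obtain ⟨z, homega⟩ : ∃ z : Subalgebra.center (localRing M) (MonoidAlgebra (localRing M) G),
      ∀ χ, omegaR M χ z = ∏ ψ : {ψ : Cfsg.IrrCharacter G // ψ ∉ B},
        (ccR M χ (gsep ψ.1 ψ.2) - ccR M ψ.1 (gsep ψ.1 ψ.2)) :=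
    ⟨∏ ψ : {ψ : Cfsg.IrrCharacter G // ψ ∉ B},
      (classSumC (localRing M) (gsep ψ.1 ψ.2) - algebraMap _ _ (ccR M ψ.1 (gsep ψ.1 ψ.2))),
      fun χ => by
        rw [map_prod]
        refine Finset.prod_congr rfl fun ψ _ => ?_
        rw [omegaR_sub, omegaR_classSumC, omegaR_algebraMap]⟩
  have hz0 : ∀ ψ, ψ ∉ B → omegaR M ψ z = 0 := fun ψ hψ => by
    rw [homega]
    exact Finset.prod_eq_zero (Finset.mem_univ (⟨ψ, hψ⟩ : {ψ : Cfsg.IrrCharacter G // ψ ∉ B}))
      (sub_self (ccR M ψ (gsep ψ hψ)))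
  have hzu : ∀ χ ∈ B, IsUnit (omegaR M χ z) := by
    intro χ hχ
    rw [homega, IsUnit.prod_iff]
    intro ψ _
    rw [isUnit_localRing_iff, map_sub, sub_ne_zero, residue_ccR_eq_of_mem hB hχ hχ₀]
    exact hgsep ψ.1 ψ.2
  set S := Finset.univ.filter fun χ : Cfsg.IrrCharacter G => χ ∈ B with hS
  have hc : IsUnit (∏ χ ∈ S, -omegaR M χ z) :=
    IsUnit.prod_iff.mpr fun χ hχ => (hzu χ (Finset.mem_filter.mp hχ).2).neg
  obtain ⟨c', hc'⟩ := hc.exists_left_inv
  refine ⟨1 - c' • ∏ χ ∈ S, (z - algebraMap _ _ (omegaR M χ z)), fun θ => ?_⟩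
  rw [omegaR_sub, map_one, Algebra.smul_def, map_mul, map_prod, omegaR_algebraMap]
  simp only [omegaR_sub, omegaR_algebraMap]
  split_ifs with hθ
  · rw [Finset.prod_eq_zero (Finset.mem_filter.mpr ⟨Finset.mem_univ θ, hθ⟩) (sub_self _),
      mul_zero, sub_zero]
  · simp only [hz0 θ hθ, zero_sub]
    rw [hc', sub_self]

/-- **Osima's theorem**: the block idempotent has coefficients in the local ring. -/
theorem memLocalRing_blockCoeff {B : Set (Cfsg.IrrCharacter G)} (hB : Cfsg.IsPBlock M B)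
    (g : G) : Cfsg.MemLocalRing M (Cfsg.blockCoeff B g) := by
  classical
  obtain ⟨e, he⟩ := exists_omegaR_indicator hB
  have h : mapCenter (localRing M).subtype e = idem B := eq_of_omega_eq fun χ => by
    rw [← coe_omegaR, he, omega_idem]
    split_ifs <;> simp
  rw [← coeff_idem, ← h, coeff_mapCenter]
  exact (e.1.coeff g).2

/-- The block idempotent over the local ring. -/
noncomputable def blockIdemR {B : Set (Cfsg.IrrCharacter G)} (hB : Cfsg.IsPBlock M B) :
    Subalgebra.center (localRing M) (MonoidAlgebra (localRing M) G) :=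
  idemR B (memLocalRing_blockCoeff hB)

/-- The block idempotent over the residue field. -/
noncomputable def blockIdemBar {B : Set (Cfsg.IrrCharacter G)} (hB : Cfsg.IsPBlock M B) :
    Subalgebra.center (Cfsg.AlgInt ⧸ M) (MonoidAlgebra (Cfsg.AlgInt ⧸ M) G) :=
  mapCenter (residue M) (blockIdemR hB)

theorem coe_coeff_blockIdemR {B : Set (Cfsg.IrrCharacter G)} (hB : Cfsg.IsPBlock M B) (g : G) :
    (((blockIdemR hB).1.coeff g : localRing M) : ℂ) = Cfsg.blockCoeff B g := rfl

theorem mapCenter_blockIdemR {B : Set (Cfsg.IrrCharacter G)} (hB : Cfsg.IsPBlock M B) :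
    mapCenter (localRing M).subtype (blockIdemR hB) = idem B :=
  mapCenter_idemR B _

open scoped Classical in
theorem omegaR_blockIdemR {B : Set (Cfsg.IrrCharacter G)} (hB : Cfsg.IsPBlock M B)
    (χ : Cfsg.IrrCharacter G) : omegaR M χ (blockIdemR hB) = if χ ∈ B then 1 else 0 :=
  omegaR_idemR B _ χ

theorem blockIdemR_mul_self {B : Set (Cfsg.IrrCharacter G)} (hB : Cfsg.IsPBlock M B) :
    blockIdemR hB * blockIdemR hB = blockIdemR hB := by
  classical
  exact eq_of_omegaR_eq fun χ => by rw [map_mul, omegaR_blockIdemR]; split_ifs <;> simp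

open scoped Classical in
theorem omegaBar_blockIdemBar {B : Set (Cfsg.IrrCharacter G)} (hB : Cfsg.IsPBlock M B)
    (χ : Cfsg.IrrCharacter G) : omegaBar M χ (blockIdemBar hB) = if χ ∈ B then 1 else 0 := by
  rw [blockIdemBar, omegaBar_mapCenter, omegaR_blockIdemR]
  split_ifs <;> simp

theorem blockIdemBar_mul_self {B : Set (Cfsg.IrrCharacter G)} (hB : Cfsg.IsPBlock M B) :
    blockIdemBar hB * blockIdemBar hB = blockIdemBar hB := by
  rw [blockIdemBar, ← map_mul, blockIdemR_mul_self]

theorem blockIdemBar_ne_zero {B : Set (Cfsg.IrrCharacter G)} (hB : Cfsg.IsPBlock M B) :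
    blockIdemBar hB ≠ 0 := by
  classical
  obtain ⟨χ, hχ⟩ := isPBlock_nonempty hB
  intro h
  have := omegaBar_blockIdemBar hB χ
  rw [h, map_zero, if_pos hχ] at this
  exact zero_ne_one this

theorem blockIdemBar_mul_of_ne {B B' : Set (Cfsg.IrrCharacter G)} (hB : Cfsg.IsPBlock M B)
    (hB' : Cfsg.IsPBlock M B') (hne : B ≠ B') : blockIdemBar hB * blockIdemBar hB' = 0 := by
  classical
  rw [blockIdemBar, blockIdemBar, ← map_mul]
  convert map_zero (mapCenter (G := G) (residue M))
  refine eq_of_omegaR_eq fun χ => ?_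
  rw [map_mul, map_zero, omegaR_blockIdemR, omegaR_blockIdemR]
  by_cases h : χ ∈ B
  · rw [if_neg (Set.disjoint_left.mp (isPBlock_disjoint hB hB' hne) h), mul_zero]
  · rw [if_neg h, zero_mul]

/-- A set of characters with locally integral idempotent is a union of blocks. -/
theorem blockOf_subset_of_memLocalRing {A : Set (Cfsg.IrrCharacter G)}
    (hA : ∀ g : G, Cfsg.MemLocalRing M (Cfsg.blockCoeff A g)) {χ : Cfsg.IrrCharacter G}
    (hχ : χ ∈ A) : Cfsg.blockOf M (χ : G → ℂ) ⊆ A := by
  classical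
  intro ψ hψ
  have h := congrArg (fun f => f (mapCenter (residue M) (idemR A hA))) (mem_blockOf_iff.mp hψ)
  simp only [omegaBar_mapCenter, omegaR_idemR, if_pos hχ] at h
  by_contra hn
  rw [if_neg hn, map_one, map_zero] at h
  exact one_ne_zero h

/-- The element `∏ (z - omegaR χ z)` vanishes. -/
theorem prod_sub_omegaR_eq_zero [Fintype (Cfsg.IrrCharacter G)]
    (z : Subalgebra.center (localRing M) (MonoidAlgebra (localRing M) G)) :
    ∏ χ : Cfsg.IrrCharacter G, (z - algebraMap _ _ (omegaR M χ z)) = 0 := by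
  refine eq_of_omegaR_eq fun θ => ?_
  rw [map_zero, map_prod]
  refine Finset.prod_eq_zero (Finset.mem_univ θ) ?_
  rw [omegaR_sub, omegaR_algebraMap, sub_self]

theorem mapCenter_algebraMap (r : localRing M) :
    mapCenter (G := G) (residue M) (algebraMap _ _ r) = algebraMap _ _ (residue M r) := by
  rw [Algebra.algebraMap_eq_smul_one, Algebra.algebraMap_eq_smul_one, mapCenter_smul, map_one]

/-- Every algebra homomorphism from the centre over the residue field to the residue field is a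
reduced central character. -/
theorem exists_omegaBar_eq
    (f : Subalgebra.center (Cfsg.AlgInt ⧸ M) (MonoidAlgebra (Cfsg.AlgInt ⧸ M) G) →ₐ[Cfsg.AlgInt ⧸ M]
      Cfsg.AlgInt ⧸ M) : ∃ χ : Cfsg.IrrCharacter G, f = omegaBar M χ := by
  classical
  letI := Ideal.Quotient.field M
  haveI := Fintype.ofFinite (Cfsg.IrrCharacter G)
  obtain ⟨χ, -, hχ⟩ : ∃ χ ∈ (Finset.univ : Finset (Cfsg.IrrCharacter G)),
      f (blockIdemBar (isPBlock_blockOf (M := M) χ)) ≠ 0 := by
    by_contra h
    push Not at h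
    have h1 : ∏ χ : Cfsg.IrrCharacter G, (1 - blockIdemR (isPBlock_blockOf (M := M) χ)) = 0 := by
      refine eq_of_omegaR_eq fun θ => ?_
      rw [map_zero, map_prod]
      refine Finset.prod_eq_zero (Finset.mem_univ θ) ?_
      rw [omegaR_sub, map_one, omegaR_blockIdemR, if_pos (mem_blockOf_self θ), sub_self]
    have h2 := congrArg (fun z => f (mapCenter (residue M) z)) h1
    simp only [map_prod, mapCenter_residue_sub, map_sub, map_one, map_zero] at h2
    rw [Finset.prod_eq_one fun χ hχ => by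
      change 1 - f (blockIdemBar (isPBlock_blockOf (M := M) χ)) = 1
      rw [h χ hχ, sub_zero]] at h2
    exact one_ne_zero h2
  refine ⟨χ, AlgHom.ext fun z => ?_⟩
  obtain ⟨w, rfl⟩ := mapCenter_surjective residue_surjective z
  rw [omegaBar_mapCenter]
  set hB := isPBlock_blockOf (M := M) χ
  set B := Cfsg.blockOf M (χ : G → ℂ)
  have hprod : blockIdemR hB * ∏ ψ ∈ Finset.univ.filter (fun ψ => ψ ∈ B),
      (w - algebraMap _ _ (omegaR M ψ w)) = 0 := by
    refine eq_of_omegaR_eq fun θ => ?_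
    rw [map_mul, map_zero, omegaR_blockIdemR, map_prod]
    by_cases hθ : θ ∈ B
    · rw [Finset.prod_eq_zero (Finset.mem_filter.mpr ⟨Finset.mem_univ θ, hθ⟩), mul_zero]
      rw [omegaR_sub, omegaR_algebraMap, sub_self]
    · rw [if_neg hθ, zero_mul]
  have h2 := congrArg (fun z => f (mapCenter (residue M) z)) hprod
  simp only [map_mul, map_prod, mapCenter_residue_sub, map_sub, map_zero, mapCenter_algebraMap, AlgHom.commutes,
    Algebra.algebraMap_self, RingHom.id_apply] at h2
  rw [mul_eq_zero, Finset.prod_eq_zero_iff] at h2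
  rcases h2 with h2 | ⟨ψ, hψ, h2⟩
  · exact absurd h2 hχ
  · rw [sub_eq_zero.mp h2, ← omegaBar_mapCenter, ← omegaBar_mapCenter,
      ← omegaBar_eq_of_mem hB (mem_blockOf_self χ) (Finset.mem_filter.mp hψ).2]

end Cfsg.Agent.Lib.Blocks
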