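import Cfsg.Prelude.Def_Blocks
import Mathlib.RingTheory.IntegralClosure.IsIntegralClosure.Basic
import Mathlib.RingTheory.Valuation.ValuationRing
import Mathlib.RingTheory.Polynomial.ScaleRoots
import Mathlib.RingTheory.RootsOfUnity.Complex
import Mathlib.RingTheory.RootsOfUnity.PrimitiveRoots
import Mathlib.FieldTheory.IsAlgClosed.Basic
import Mathlib.FieldTheory.Finite.Basic
import Mathlib.RingTheory.Ideal.Quotient.Basic
import Mathlib.Algebra.CharP.Lemmas
import Mathlib.Algebra.Algebra.ZMod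
import Mathlib.RingTheory.RootsOfUnity.Minpoly
import Mathlib.RingTheory.IntegralClosure.IntegrallyClosed
import Mathlib.Analysis.Complex.Polynomial.Basic

/-!
# The local ring at a maximal ideal of the ring of all algebraic integers

`localRing M` is the subring of `ℂ` of the numbers `a / b` with `b ∉ M`; membership is
`Cfsg.MemLocalRing M` by definition.  It is an integrally closed valuation ring, its maximal
ideal is `Cfsg.MemLocalIdeal M`, and `residue M` maps it onto the field `AlgInt ⧸ M`, which is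
algebraically closed and algebraic over the prime field.
-/

namespace Cfsg.Agent.Lib.Blocks

open Polynomial

variable {M : Ideal Cfsg.AlgInt} [M.IsMaximal]

theorem algInt_ne_zero_of_notMem {b : Cfsg.AlgInt} (hb : b ∉ M) : (b : ℂ) ≠ 0 := by
  intro h
  exact hb (by rw [show b = 0 from Subtype.ext (by simpa using h)]; exact M.zero_mem)

theorem one_notMem_ideal : (1 : Cfsg.AlgInt) ∉ M :=
  (Ideal.ne_top_iff_one M).mp (Ideal.IsMaximal.ne_top inferInstance)

theorem mul_notMem_ideal {a b : Cfsg.AlgInt} (ha : a ∉ M) (hb : b ∉ M) : a * b ∉ M := fun h =>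
  ((Ideal.IsMaximal.isPrime (inferInstance : M.IsMaximal)).mem_or_mem h).elim ha hb

variable (M) in
/-- The local ring at `M`: the numbers `a / b` with `a`, `b` algebraic integers, `b ∉ M`. -/
noncomputable def localRing : Subring ℂ where
  carrier := {z | Cfsg.MemLocalRing M z}
  zero_mem' := ⟨0, 1, one_notMem_ideal, by simp⟩
  one_mem' := ⟨1, 1, one_notMem_ideal, by simp⟩
  add_mem' := by
    rintro x y ⟨a, b, hb, rfl⟩ ⟨c, d, hd, rfl⟩
    refine ⟨a * d + b * c, b * d, mul_notMem_ideal hb hd, ?_⟩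
    push_cast
    rw [div_add_div _ _ (algInt_ne_zero_of_notMem hb) (algInt_ne_zero_of_notMem hd)]
  mul_mem' := by
    rintro x y ⟨a, b, hb, rfl⟩ ⟨c, d, hd, rfl⟩
    refine ⟨a * c, b * d, mul_notMem_ideal hb hd, ?_⟩
    push_cast
    rw [div_mul_div_comm]
  neg_mem' := by
    rintro x ⟨a, b, hb, rfl⟩
    exact ⟨-a, b, hb, by push_cast; rw [neg_div]⟩

theorem mem_localRing_iff {z : ℂ} : z ∈ localRing M ↔ Cfsg.MemLocalRing M z := Iff.rfl

theorem mem_localRing_of_isIntegral {z : ℂ} (h : IsIntegral ℤ z) : z ∈ localRing M :=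
  ⟨⟨z, h⟩, 1, one_notMem_ideal, by simp⟩

theorem algInt_mem_localRing (a : Cfsg.AlgInt) : (a : ℂ) ∈ localRing M :=
  mem_localRing_of_isIntegral a.2

variable (M) in
/-- The inclusion of the algebraic integers in the local ring. -/
noncomputable def ofAlgInt : Cfsg.AlgInt →+* localRing M where
  toFun a := ⟨a, algInt_mem_localRing a⟩
  map_one' := Subtype.ext (by simp)
  map_mul' _ _ := Subtype.ext (by simp)
  map_zero' := Subtype.ext (by simp)
  map_add' _ _ := Subtype.ext (by simp)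

@[simp] theorem coe_ofAlgInt (a : Cfsg.AlgInt) : ((ofAlgInt M a : localRing M) : ℂ) = (a : ℂ) := rfl

/-- The fraction used to compute the residue map. -/
theorem exists_fraction (z : localRing M) :
    ∃ a b : Cfsg.AlgInt, b ∉ M ∧ (z : ℂ) * (b : ℂ) = (a : ℂ) := by
  obtain ⟨a, b, hb, h⟩ := z.2
  exact ⟨a, b, hb, by rw [← h, div_mul_cancel₀ _ (algInt_ne_zero_of_notMem hb)]⟩

/-- The residue of an element of the local ring, as a bare function. -/
noncomputable def residueFun (z : localRing M) : Cfsg.AlgInt ⧸ M :=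
  letI := Ideal.Quotient.field M
  Ideal.Quotient.mk M (exists_fraction z).choose /
    Ideal.Quotient.mk M (exists_fraction z).choose_spec.choose

theorem residueFun_mul_eq {z : localRing M} {a b : Cfsg.AlgInt}
    (h : (z : ℂ) * (b : ℂ) = (a : ℂ)) :
    residueFun z * Ideal.Quotient.mk M b = Ideal.Quotient.mk M a := by
  letI := Ideal.Quotient.field M
  obtain ⟨hb, e⟩ := (exists_fraction z).choose_spec.choose_spec
  set a₀ := (exists_fraction z).choose
  set b₀ := (exists_fraction z).choose_spec.choose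
  have hb' : Ideal.Quotient.mk M b₀ ≠ 0 := fun hh => hb (Ideal.Quotient.eq_zero_iff_mem.mp hh)
  have key : a₀ * b = a * b₀ := by
    apply Subtype.ext
    push_cast
    rw [← e, ← h]
    ring
  rw [residueFun, div_mul_eq_mul_div, div_eq_iff hb', ← map_mul, ← map_mul, key]

theorem eq_residueFun {z : localRing M} {a b : Cfsg.AlgInt} (hb : b ∉ M)
    (h : (z : ℂ) * (b : ℂ) = (a : ℂ)) {r : Cfsg.AlgInt ⧸ M}
    (hr : r * Ideal.Quotient.mk M b = Ideal.Quotient.mk M a) : residueFun z = r := by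
  letI := Ideal.Quotient.field M
  have hb' : Ideal.Quotient.mk M b ≠ 0 := fun hh => hb (Ideal.Quotient.eq_zero_iff_mem.mp hh)
  exact mul_right_cancel₀ hb' ((residueFun_mul_eq h).trans hr.symm)

variable (M) in
/-- The residue map of the local ring onto the residue field `AlgInt ⧸ M`. -/
noncomputable def residue : localRing M →+* Cfsg.AlgInt ⧸ M where
  toFun := residueFun
  map_one' := eq_residueFun (a := 1) (b := 1) one_notMem_ideal (by simp) (by simp)
  map_zero' := eq_residueFun (a := 0) (b := 1) one_notMem_ideal (by simp) (by simp)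
  map_mul' x y := by
    obtain ⟨a, b, hb, ha⟩ := exists_fraction x
    obtain ⟨c, d, hd, hc⟩ := exists_fraction y
    refine eq_residueFun (a := a * c) (b := b * d) (mul_notMem_ideal hb hd)
      (by push_cast; rw [← ha, ← hc]; ring) ?_
    rw [map_mul, map_mul, ← residueFun_mul_eq ha, ← residueFun_mul_eq hc]
    ring
  map_add' x y := by
    obtain ⟨a, b, hb, ha⟩ := exists_fraction x
    obtain ⟨c, d, hd, hc⟩ := exists_fraction y
    refine eq_residueFun (a := a * d + b * c) (b := b * d) (mul_notMem_ideal hb hd)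
      (by push_cast; rw [← ha, ← hc]; ring) ?_
    rw [map_mul, map_add, map_mul, map_mul, ← residueFun_mul_eq ha, ← residueFun_mul_eq hc]
    ring

theorem residue_ofAlgInt (a : Cfsg.AlgInt) :
    residue M (ofAlgInt M a) = Ideal.Quotient.mk M a :=
  eq_residueFun (a := a) (b := 1) one_notMem_ideal (by simp) (by simp)

theorem residue_surjective : Function.Surjective (residue M) := by
  intro r
  obtain ⟨a, rfl⟩ := Ideal.Quotient.mk_surjective r
  exact ⟨ofAlgInt M a, residue_ofAlgInt a⟩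

theorem residue_eq_zero_iff {z : localRing M} :
    residue M z = 0 ↔ Cfsg.MemLocalIdeal M (z : ℂ) := by
  letI := Ideal.Quotient.field M
  constructor
  · intro h
    obtain ⟨a, b, hb, ha⟩ := exists_fraction z
    refine ⟨a, b, ?_, hb, by rw [← ha, mul_div_cancel_right₀ _ (algInt_ne_zero_of_notMem hb)]⟩
    rw [← Ideal.Quotient.eq_zero_iff_mem, ← residueFun_mul_eq ha]
    show residue M z * _ = 0
    rw [h, zero_mul]
  · rintro ⟨a, b, ha, hb, h⟩
    refine eq_residueFun (a := a) (b := b) hb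
      (by rw [← h, div_mul_cancel₀ _ (algInt_ne_zero_of_notMem hb)]) ?_
    rw [zero_mul, Ideal.Quotient.eq_zero_iff_mem.mpr ha]

theorem memLocalRing_of_memLocalIdeal {z : ℂ} (h : Cfsg.MemLocalIdeal M z) :
    Cfsg.MemLocalRing M z := by
  obtain ⟨a, b, -, hb, h⟩ := h
  exact ⟨a, b, hb, h⟩

theorem memLocalIdeal_iff {z : ℂ} :
    Cfsg.MemLocalIdeal M z ↔ ∃ h : z ∈ localRing M, residue M ⟨z, h⟩ = 0 :=
  ⟨fun h => ⟨memLocalRing_of_memLocalIdeal h, residue_eq_zero_iff.mpr h⟩,
    fun ⟨h, e⟩ => residue_eq_zero_iff.mp e⟩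

theorem memLocalIdeal_sub_iff {x y : localRing M} :
    Cfsg.MemLocalIdeal M ((x : ℂ) - (y : ℂ)) ↔ residue M x = residue M y := by
  rw [show (x : ℂ) - (y : ℂ) = ((x - y : localRing M) : ℂ) by simp, ← residue_eq_zero_iff, map_sub,
    sub_eq_zero]

theorem memLocalIdeal_algInt_iff {a : Cfsg.AlgInt} :
    Cfsg.MemLocalIdeal M (a : ℂ) ↔ a ∈ M := by
  rw [← coe_ofAlgInt (M := M), ← residue_eq_zero_iff, residue_ofAlgInt,
    Ideal.Quotient.eq_zero_iff_mem]

theorem memLocalIdeal_zero : Cfsg.MemLocalIdeal M 0 :=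
  ⟨0, 1, M.zero_mem, one_notMem_ideal, by simp⟩

theorem not_memLocalIdeal_one : ¬ Cfsg.MemLocalIdeal M (1 : ℂ) := by
  rw [show (1 : ℂ) = ((1 : localRing M) : ℂ) by simp, ← residue_eq_zero_iff, map_one]
  exact one_ne_zero

theorem memLocalIdeal_add {x y : ℂ} (hx : Cfsg.MemLocalIdeal M x)
    (hy : Cfsg.MemLocalIdeal M y) : Cfsg.MemLocalIdeal M (x + y) := by
  obtain ⟨hx, ex⟩ := memLocalIdeal_iff.mp hx
  obtain ⟨hy, ey⟩ := memLocalIdeal_iff.mp hy
  exact memLocalIdeal_iff.mpr ⟨add_mem hx hy, by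
    rw [show (⟨x + y, _⟩ : localRing M) = ⟨x, hx⟩ + ⟨y, hy⟩ from rfl, map_add, ex, ey, add_zero]⟩

theorem memLocalIdeal_neg {x : ℂ} (hx : Cfsg.MemLocalIdeal M x) :
    Cfsg.MemLocalIdeal M (-x) := by
  obtain ⟨a, b, ha, hb, rfl⟩ := hx
  exact ⟨-a, b, M.neg_mem ha, hb, by push_cast; rw [neg_div]⟩

theorem memLocalIdeal_sub {x y : ℂ} (hx : Cfsg.MemLocalIdeal M x)
    (hy : Cfsg.MemLocalIdeal M y) : Cfsg.MemLocalIdeal M (x - y) :=
  sub_eq_add_neg x y ▸ memLocalIdeal_add hx (memLocalIdeal_neg hy)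

theorem memLocalIdeal_mul_left {x y : ℂ} (hx : x ∈ localRing M)
    (hy : Cfsg.MemLocalIdeal M y) : Cfsg.MemLocalIdeal M (x * y) := by
  obtain ⟨hy, ey⟩ := memLocalIdeal_iff.mp hy
  exact memLocalIdeal_iff.mpr ⟨mul_mem hx hy, by
    rw [show (⟨x * y, _⟩ : localRing M) = ⟨x, hx⟩ * ⟨y, hy⟩ from rfl, map_mul, ey, mul_zero]⟩

theorem memLocalIdeal_mul_right {x y : ℂ} (hx : Cfsg.MemLocalIdeal M x)
    (hy : y ∈ localRing M) : Cfsg.MemLocalIdeal M (x * y) :=
  mul_comm y x ▸ memLocalIdeal_mul_left hy hx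

theorem memLocalIdeal_sum {ι : Type*} (s : Finset ι) {f : ι → ℂ}
    (h : ∀ i ∈ s, Cfsg.MemLocalIdeal M (f i)) : Cfsg.MemLocalIdeal M (∑ i ∈ s, f i) := by
  induction s using Finset.cons_induction with
  | empty => simpa using memLocalIdeal_zero
  | cons a s has ih =>
    rw [Finset.sum_cons]
    exact memLocalIdeal_add (h a (Finset.mem_cons_self a s))
      (ih fun i hi => h i (Finset.mem_cons_of_mem hi))

/-- An element of the local ring is a unit exactly when it is outside the maximal ideal. -/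
theorem isUnit_localRing_iff {z : localRing M} : IsUnit z ↔ residue M z ≠ 0 := by
  letI := Ideal.Quotient.field M
  refine ⟨fun h => (h.map (residue M)).ne_zero, fun h => ?_⟩
  obtain ⟨a, b, hb, ha⟩ := exists_fraction z
  have haM : a ∉ M := by
    intro haM
    have hm := residueFun_mul_eq ha
    rw [Ideal.Quotient.eq_zero_iff_mem.mpr haM, mul_eq_zero] at hm
    exact hm.elim h fun hh => hb (Ideal.Quotient.eq_zero_iff_mem.mp hh)
  refine IsUnit.of_mul_eq_one (⟨(b : ℂ) / a, ⟨b, a, haM, rfl⟩⟩ : localRing M) ?_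
  apply Subtype.ext
  push_cast
  rw [mul_div_assoc', ha, div_self (algInt_ne_zero_of_notMem haM)]

theorem inv_mem_localRing {z : ℂ} (hz : z ∈ localRing M)
    (h : ¬ Cfsg.MemLocalIdeal M z) : z⁻¹ ∈ localRing M := by
  have hu : IsUnit (⟨z, hz⟩ : localRing M) :=
    isUnit_localRing_iff.mpr fun e => h (residue_eq_zero_iff.mp e)
  obtain ⟨w, hw⟩ := hu.exists_right_inv
  have hw' : z * (w : ℂ) = 1 := congrArg Subtype.val hw
  rw [inv_eq_of_mul_eq_one_right hw']
  exact w.2

theorem not_memLocalIdeal_mul {x y : ℂ} (hx : x ∈ localRing M) (hy : y ∈ localRing M)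
    (hx' : ¬ Cfsg.MemLocalIdeal M x) (hy' : ¬ Cfsg.MemLocalIdeal M y) :
    ¬ Cfsg.MemLocalIdeal M (x * y) := by
  intro h
  obtain ⟨hm, e⟩ := memLocalIdeal_iff.mp h
  rw [show (⟨x * y, hm⟩ : localRing M) = ⟨x, hx⟩ * ⟨y, hy⟩ from rfl, map_mul, mul_eq_zero] at e
  exact e.elim (fun e => hx' (residue_eq_zero_iff.mp e)) fun e => hy' (residue_eq_zero_iff.mp e)

/-! ## The prime below `M` -/

variable {p : ℕ}

theorem natCast_prime_mem_localIdeal (hM : Cfsg.IsPModular p M) :
    Cfsg.MemLocalIdeal M (p : ℂ) := by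
  simpa using (memLocalIdeal_algInt_iff (M := M) (a := (p : Cfsg.AlgInt))).mpr hM.2.2

theorem charP_residue (hM : Cfsg.IsPModular p M) : CharP (Cfsg.AlgInt ⧸ M) p := by
  letI := Ideal.Quotient.field M
  haveI := Fact.mk hM.1
  exact (CharP.charP_iff_prime_eq_zero hM.1).mpr
    (by simpa using Ideal.Quotient.eq_zero_iff_mem.mpr hM.2.2)

theorem natCast_mem_ideal_iff (hM : Cfsg.IsPModular p M) (n : ℕ) :
    (n : Cfsg.AlgInt) ∈ M ↔ p ∣ n := by
  haveI := charP_residue hM
  rw [← Ideal.Quotient.eq_zero_iff_mem, map_natCast, CharP.cast_eq_zero_iff _ p]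

theorem memLocalIdeal_natCast_iff (hM : Cfsg.IsPModular p M) (n : ℕ) :
    Cfsg.MemLocalIdeal M (n : ℂ) ↔ p ∣ n := by
  rw [← natCast_mem_ideal_iff hM, ← memLocalIdeal_algInt_iff (M := M)]
  simp

theorem memLocalIdeal_intCast_iff (hM : Cfsg.IsPModular p M) (n : ℤ) :
    Cfsg.MemLocalIdeal M (n : ℂ) ↔ (p : ℤ) ∣ n := by
  haveI := charP_residue hM
  have h := memLocalIdeal_algInt_iff (M := M) (a := (n : Cfsg.AlgInt))
  rw [show (((n : Cfsg.AlgInt)) : ℂ) = (n : ℂ) by simp] at h
  rw [h, ← Ideal.Quotient.eq_zero_iff_mem, map_intCast, CharP.intCast_eq_zero_iff _ p]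

theorem natCast_inv_mem_localRing (hM : Cfsg.IsPModular p M) {n : ℕ} (hn : ¬ p ∣ n) :
    (n : ℂ)⁻¹ ∈ localRing M :=
  inv_mem_localRing (natCast_mem _ n) fun h => hn ((memLocalIdeal_natCast_iff hM n).mp h)

/-- There is a modular maximal ideal for every prime. -/
theorem exists_isPModular (p : ℕ) (hp : p.Prime) :
    ∃ M : Ideal Cfsg.AlgInt, Cfsg.IsPModular p M := by
  have hnu : ¬ IsUnit (p : Cfsg.AlgInt) := by
    intro h
    obtain ⟨w, hw⟩ := h.exists_right_inv
    have hw' : (p : ℂ) * (w : ℂ) = 1 := by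
      have := congrArg Subtype.val hw
      simpa using this
    have hwq : (w : ℂ) = algebraMap ℚ ℂ ((p : ℚ)⁻¹) := by
      rw [← inv_eq_of_mul_eq_one_right hw']
      simp
    have hint : IsIntegral ℤ ((p : ℚ)⁻¹) := by
      have h2 : IsIntegral ℤ (algebraMap ℚ ℂ ((p : ℚ)⁻¹)) := hwq ▸ w.2
      exact (isIntegral_algebraMap_iff (FaithfulSMul.algebraMap_injective ℚ ℂ)).mp h2
    obtain ⟨z, hz⟩ := (IsIntegrallyClosed.isIntegral_iff (R := ℤ) (K := ℚ)).mp hint
    have h1 : ((z * p : ℤ) : ℚ) = ((1 : ℤ) : ℚ) := by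
      push_cast
      rw [show (z : ℚ) = (p : ℚ)⁻¹ from hz, inv_mul_cancel₀ (by exact_mod_cast hp.ne_zero)]
    have h2 : z * p = 1 := by exact_mod_cast h1
    have := Int.eq_one_of_mul_eq_one_left (Int.natCast_nonneg p) h2
    exact hp.one_lt.ne' (by exact_mod_cast this)
  obtain ⟨M, hmax, hle⟩ :=
    Ideal.exists_le_maximal (Ideal.span {(p : Cfsg.AlgInt)})
      (by rwa [Ne, Ideal.span_singleton_eq_top])
  exact ⟨M, hp, hmax, hle (Ideal.mem_span_singleton_self _)⟩

/-! ## Integral closedness and the valuation property -/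

theorem exists_common_denominator {ι : Type*} (s : Finset ι) {f : ι → ℂ}
    (hf : ∀ i ∈ s, f i ∈ localRing M) :
    ∃ b : Cfsg.AlgInt, b ∉ M ∧ ∀ i ∈ s, IsIntegral ℤ (f i * (b : ℂ)) := by
  induction s using Finset.cons_induction with
  | empty => exact ⟨1, one_notMem_ideal, by simp⟩
  | cons a s has ih =>
    obtain ⟨b, hb, h⟩ := ih fun i hi => hf i (Finset.mem_cons_of_mem hi)
    obtain ⟨c, d, hd, hc⟩ := exists_fraction (⟨f a, hf a (Finset.mem_cons_self a s)⟩ : localRing M)
    refine ⟨b * d, mul_notMem_ideal hb hd, fun i hi => ?_⟩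
    push_cast
    rcases Finset.mem_cons.mp hi with rfl | hi
    · rw [mul_comm (b : ℂ), ← mul_assoc]
      exact (hc ▸ c.2 : IsIntegral ℤ (f i * (d : ℂ))).mul b.2
    · rw [← mul_assoc]
      exact (h i hi).mul d.2

/-- A root in `ℂ` of a monic polynomial with coefficients in the local ring lies in it. -/
theorem mem_localRing_of_monic_root {q : ℂ[X]} (hq : q.Monic)
    (hc : ∀ i, q.coeff i ∈ localRing M) {z : ℂ} (hz : q.eval z = 0) : z ∈ localRing M := by
  obtain ⟨b, hb, h⟩ := exists_common_denominator (M := M) (Finset.range q.natDegree)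
    (f := q.coeff) fun i _ => hc i
  have hbz : IsIntegral ℤ (z * (b : ℂ)) := by
    have hlift : q.scaleRoots (b : ℂ) ∈ Polynomial.lifts (algebraMap Cfsg.AlgInt ℂ) := by
      rw [Polynomial.lifts_iff_coeff_lifts]
      intro i
      rw [coeff_scaleRoots]
      rcases lt_or_ge i q.natDegree with hi | hi
      · obtain ⟨m, hm⟩ : ∃ m, q.natDegree - i = m + 1 := ⟨q.natDegree - i - 1, by omega⟩
        rw [hm, pow_succ', ← mul_assoc]
        exact ⟨⟨_, (h i (Finset.mem_range.mpr hi)).mul (b.2.pow m)⟩, rfl⟩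
      · rw [Nat.sub_eq_zero_of_le hi, pow_zero, mul_one]
        rcases hi.eq_or_lt with hi | hi
        · exact ⟨1, by rw [map_one, ← hi, hq.coeff_natDegree]⟩
        · exact ⟨0, by rw [map_zero, coeff_eq_zero_of_natDegree_lt hi]⟩
    obtain ⟨q', hq', -, hmon⟩ :=
      Polynomial.lifts_and_natDegree_eq_and_monic hlift ((monic_scaleRoots_iff _).mpr hq)
    have : IsIntegral Cfsg.AlgInt (z * (b : ℂ)) := by
      refine ⟨q', hmon, ?_⟩
      rw [eval₂_eq_eval_map, hq', mul_comm]
      simp [scaleRoots_eval_mul, hz]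
    exact isIntegral_trans _ this
  refine ⟨⟨_, hbz⟩, b, hb, ?_⟩
  simp [mul_div_cancel_right₀ _ (algInt_ne_zero_of_notMem hb)]

theorem mem_localRing_or_inv_mem_localIdeal_aux :
    ∀ (n : ℕ) (c : ℕ → ℂ) (z : ℂ), (∀ i, c i ∈ localRing M) →
      (∑ i ∈ Finset.range (n + 1), c i * z ^ i = 0) →
      (∃ i ≤ n, ¬ Cfsg.MemLocalIdeal M (c i)) →
      z ∈ localRing M ∨ Cfsg.MemLocalIdeal M z⁻¹ := by
  intro n
  induction n with
  | zero =>
    rintro c z - hsum ⟨i, hi, hu⟩
    obtain rfl : i = 0 := by omega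
    simp at hsum
    exact absurd (hsum ▸ memLocalIdeal_zero) hu
  | succ n ih =>
    rintro c z hc hsum ⟨i, hi, hu⟩
    set w := c (n + 1) * z with hw
    have hwR : w ∈ localRing M := by
      set q : ℂ[X] := X ^ (n + 1) +
        ∑ j ∈ Finset.range (n + 1), C (c j * c (n + 1) ^ (n - j)) * X ^ j with hq
      have hdeg : (∑ j ∈ Finset.range (n + 1), C (c j * c (n + 1) ^ (n - j)) * X ^ j).degree <
          ((n + 1 : ℕ) : WithBot ℕ) := by
        refine lt_of_le_of_lt (degree_sum_le _ _) ?_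
        rw [Finset.sup_lt_iff (by exact_mod_cast WithBot.bot_lt_coe (n + 1))]
        intro j hj
        exact lt_of_le_of_lt (degree_C_mul_X_pow_le _ _)
          (by exact_mod_cast Finset.mem_range.mp hj)
      refine mem_localRing_of_monic_root (q := q) (monic_X_pow_add hdeg) (fun j => ?_) ?_
      · rw [hq, coeff_add, finset_sum_coeff]
        refine add_mem ?_ (sum_mem fun l _ => ?_)
        · rw [coeff_X_pow]; split_ifs
          · exact one_mem _
          · exact zero_mem _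
        · rw [coeff_C_mul, coeff_X_pow]; split_ifs
          · rw [mul_one]; exact mul_mem (hc l) (pow_mem (hc _) _)
          · rw [mul_zero]; exact zero_mem _
      · have h0 : c (n + 1) ^ n * (∑ j ∈ Finset.range (n + 1 + 1), c j * z ^ j) = 0 := by
          rw [hsum, mul_zero]
        rw [Finset.sum_range_succ, mul_add, Finset.mul_sum] at h0
        rw [hq, eval_add, eval_pow, eval_X, eval_finset_sum, ← h0, add_comm]
        congr 1
        · refine Finset.sum_congr rfl fun j hj => ?_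
          simp only [eval_mul, eval_C, eval_pow, eval_X, hw, mul_pow]
          rw [show n = n - j + j by have := Finset.mem_range.mp hj; omega, pow_add]
          rw [show n - j + j - j = n - j by omega]
          ring
        · rw [hw]; ring
    by_cases htop : Cfsg.MemLocalIdeal M (c (n + 1))
    swap
    · left
      have hne : c (n + 1) ≠ 0 := fun h => htop (h ▸ memLocalIdeal_zero)
      have : z = (c (n + 1))⁻¹ * w := by rw [hw, ← mul_assoc, inv_mul_cancel₀ hne, one_mul]
      rw [this]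
      exact mul_mem (inv_mem_localRing (hc _) htop) hwR
    set c' : ℕ → ℂ := fun j => if j = n then w + c n else c j with hc'
    have hc'R : ∀ j, c' j ∈ localRing M := fun j => by
      simp only [hc']; split_ifs
      · exact add_mem hwR (hc n)
      · exact hc j
    have hsum' : ∑ j ∈ Finset.range (n + 1), c' j * z ^ j = 0 := by
      rw [← hsum, Finset.sum_range_succ, Finset.sum_range_succ (f := fun j => c j * z ^ j),
        Finset.sum_range_succ (f := fun j => c j * z ^ j), add_assoc]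
      congr 1
      · exact Finset.sum_congr rfl fun j hj => by
          simp only [hc']; rw [if_neg (Finset.mem_range.mp hj).ne]
      · simp only [hc', if_pos, hw]; ring
    by_cases hex : ∃ j ≤ n, ¬ Cfsg.MemLocalIdeal M (c' j)
    · exact ih c' z hc'R hsum' hex
    push_neg at hex
    have hi' : i = n := by
      by_contra hne
      rcases lt_or_eq_of_le hi with hlt | rfl
      · exact hu (by simpa [hc', hne] using hex i (by omega))
      · exact hu htop
    subst hi'
    have hb : Cfsg.MemLocalIdeal M (w + c i) := by simpa [hc'] using hex i le_rfl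
    have hwu : ¬ Cfsg.MemLocalIdeal M w := fun h =>
      hu (by simpa using memLocalIdeal_sub hb h)
    have hw0 : w ≠ 0 := fun h => hwu (h ▸ memLocalIdeal_zero)
    right
    have : z⁻¹ = c (i + 1) * w⁻¹ := by
      rw [hw, mul_inv, ← mul_assoc, mul_inv_cancel₀ (left_ne_zero_of_mul (hw ▸ hw0)), one_mul]
    rw [this]
    exact memLocalIdeal_mul_right htop (inv_mem_localRing hwR hwu)

/-- The valuation property: an algebraic number or its inverse is a local integer. -/
theorem mem_localRing_or_inv (hM : Cfsg.IsPModular p M) {z : ℂ} (hz : IsAlgebraic ℤ z) :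
    z ∈ localRing M ∨ Cfsg.MemLocalIdeal M z⁻¹ := by
  obtain ⟨f, hf0, hf⟩ := hz
  set g := f.primPart
  have hg : Polynomial.aeval z g = 0 := (aeval_primPart_eq_zero hf0 hf)
  refine mem_localRing_or_inv_mem_localIdeal_aux g.natDegree (fun i => (g.coeff i : ℂ)) z
    (fun i => intCast_mem _ _) ?_ ?_
  · rw [← hg, aeval_eq_sum_range]
    exact Finset.sum_congr rfl fun i _ => by rw [zsmul_eq_mul]
  · by_contra h
    push_neg at h
    have hdvd : C (p : ℤ) ∣ g := by
      rw [C_dvd_iff_dvd_coeff]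
      intro i
      rcases le_or_gt i g.natDegree with hi | hi
      · exact (memLocalIdeal_intCast_iff hM _).mp (h i hi)
      · rw [coeff_eq_zero_of_natDegree_lt hi]; exact dvd_zero _
    have := (f.isPrimitive_primPart) (p : ℤ) hdvd
    exact hM.1.one_lt.ne' (by simpa [Int.isUnit_iff_natAbs_eq] using this)

theorem mem_localRing_or_inv_mem (hM : Cfsg.IsPModular p M) {z : ℂ} (hz : IsAlgebraic ℤ z) :
    z ∈ localRing M ∨ z⁻¹ ∈ localRing M :=
  (mem_localRing_or_inv hM hz).imp_right fun h => memLocalRing_of_memLocalIdeal h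

theorem isAlgebraic_of_mem_localRing {z : ℂ} (hz : z ∈ localRing M) : IsAlgebraic ℤ z := by
  obtain ⟨a, b, -, rfl⟩ := hz
  have ha : IsAlgebraic ℚ (a : ℂ) := (a.2.isAlgebraic).extendScalars (Int.cast_injective)
  have hb : IsAlgebraic ℚ (b : ℂ) := (b.2.isAlgebraic).extendScalars (Int.cast_injective)
  exact (IsFractionRing.isAlgebraic_iff ℤ ℚ ℂ).mpr (ha.mul hb.inv)

theorem isLocalRing_localRing : IsLocalRing (localRing M) := by
  refine IsLocalRing.of_nonunits_add fun a b ha hb => ?_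
  simp only [mem_nonunits_iff, isUnit_localRing_iff, not_not] at ha hb ⊢
  rw [map_add, ha, hb, add_zero]

theorem preValuationRing_localRing (hM : Cfsg.IsPModular p M) :
    PreValuationRing (localRing M) := by
  refine PreValuationRing.iff_dvd_total.mpr ⟨fun a b => ?_⟩
  by_cases ha : a = 0
  · exact Or.inr (ha ▸ dvd_zero b)
  by_cases hb : b = 0
  · exact Or.inl (hb ▸ dvd_zero a)
  have ha' : (a : ℂ) ≠ 0 := fun h => ha (Subtype.ext (by simpa using h))
  have hb' : (b : ℂ) ≠ 0 := fun h => hb (Subtype.ext (by simpa using h))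
  have halg : IsAlgebraic ℤ ((a : ℂ) / (b : ℂ)) := by
    have h1 : IsAlgebraic ℚ (a : ℂ) :=
      (isAlgebraic_of_mem_localRing a.2).extendScalars Int.cast_injective
    have h2 : IsAlgebraic ℚ (b : ℂ) :=
      (isAlgebraic_of_mem_localRing b.2).extendScalars Int.cast_injective
    exact (IsFractionRing.isAlgebraic_iff ℤ ℚ ℂ).mpr (h1.mul h2.inv)
  rcases mem_localRing_or_inv_mem hM halg with h | h
  · exact Or.inr ⟨⟨_, h⟩, Subtype.ext (by simp [mul_div_cancel₀, hb'])⟩
  · rw [inv_div] at h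
    exact Or.inl ⟨⟨_, h⟩, Subtype.ext (by simp [mul_div_cancel₀, ha'])⟩

theorem valuationRing_localRing (hM : Cfsg.IsPModular p M) : ValuationRing (localRing M) :=
  haveI := preValuationRing_localRing hM
  ValuationRing.mk

/-! ## The residue field -/

theorem isAlgClosed_residueField :
    letI := Ideal.Quotient.field M
    IsAlgClosed (Cfsg.AlgInt ⧸ M) := by
  letI := Ideal.Quotient.field M
  refine IsAlgClosed.of_exists_root _ fun q hq hirr => ?_
  have hlift : q ∈ Polynomial.lifts (Ideal.Quotient.mk M) :=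
    (Polynomial.lifts_iff_coeff_lifts q).mpr fun i => Ideal.Quotient.mk_surjective _
  obtain ⟨P, hP, hdeg, hmon⟩ := Polynomial.lifts_and_natDegree_eq_and_monic hlift hq
  have hd : (P.map (algebraMap Cfsg.AlgInt ℂ)).degree ≠ 0 := by
    rw [hmon.degree_map, degree_eq_natDegree hmon.ne_zero, hdeg]
    exact_mod_cast hirr.natDegree_pos.ne'
  obtain ⟨z, hz⟩ := IsAlgClosed.exists_root _ hd
  have hzint : IsIntegral ℤ z := by
    refine isIntegral_trans _ (⟨P, hmon, ?_⟩ : IsIntegral Cfsg.AlgInt z)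
    rwa [eval₂_eq_eval_map]
  refine ⟨Ideal.Quotient.mk M ⟨z, hzint⟩, ?_⟩
  rw [← hP, eval_map, eval₂_at_apply]
  have : P.eval (⟨z, hzint⟩ : Cfsg.AlgInt) = 0 := by
    apply FaithfulSMul.algebraMap_injective Cfsg.AlgInt ℂ
    rw [map_zero, ← eval₂_at_apply, ← eval_map]
    exact hz
  rw [this, map_zero]

/-- A root of unity of `p`-power order is congruent to `1`. -/
theorem mk_eq_one_of_pow_prime_pow (hM : Cfsg.IsPModular p M) {ε : Cfsg.AlgInt} {k : ℕ}
    (h : (ε : ℂ) ^ (p ^ k) = 1) : Ideal.Quotient.mk M ε = 1 := by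
  letI := Ideal.Quotient.field M
  haveI := Fact.mk hM.1
  haveI := charP_residue hM
  have h1 : ε ^ (p ^ k) = 1 := Subtype.ext (by push_cast; exact h)
  have h2 : (Ideal.Quotient.mk M ε - 1) ^ (p ^ k) = 0 := by
    rw [sub_pow_char_pow, ← map_pow, h1, map_one, one_pow, sub_self]
  exact sub_eq_zero.mp (pow_eq_zero_iff (pow_ne_zero _ hM.1.ne_zero) |>.mp h2)

/-- Roots of unity of order prime to `p` are distinct modulo `M`. -/
theorem rootOfUnity_eq_of_sub_mem (hM : Cfsg.IsPModular p M) {m : ℕ} (hm : ¬ p ∣ m)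
    {ε₁ ε₂ : Cfsg.AlgInt} (h₁ : (ε₁ : ℂ) ^ m = 1) (h₂ : (ε₂ : ℂ) ^ m = 1)
    (h : ε₁ - ε₂ ∈ M) : ε₁ = ε₂ := by
  have h₁' : ε₁ ^ m = 1 := Subtype.ext (by push_cast; exact h₁)
  have h₂' : ε₂ ^ m = 1 := Subtype.ext (by push_cast; exact h₂)
  by_contra hne
  set s := ∑ i ∈ Finset.range m, ε₁ ^ i * ε₂ ^ (m - 1 - i) with hs
  have hmul : s * (ε₁ - ε₂) = 0 := by rw [hs, geom_sum₂_mul, h₁', h₂', sub_self]
  have hs0 : s = 0 := (mul_eq_zero.mp hmul).resolve_right (sub_ne_zero.mpr hne)
  have e : Ideal.Quotient.mk M ε₁ = Ideal.Quotient.mk M ε₂ := Ideal.Quotient.eq.mpr h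
  have h3 := congrArg (Ideal.Quotient.mk M) hs0
  rw [hs, map_sum, map_zero] at h3
  simp only [map_mul, map_pow, e, ← pow_add] at h3
  rw [Finset.sum_congr rfl (fun i hi => show Ideal.Quotient.mk M ε₂ ^ (i + (m - 1 - i)) =
      Ideal.Quotient.mk M ε₂ ^ (m - 1) by
    congr 1; have := Finset.mem_range.mp hi; omega), Finset.sum_const, Finset.card_range,
    nsmul_eq_mul, mul_eq_zero] at h3
  haveI := charP_residue hM
  rcases h3 with h3 | h3
  · exact hm ((CharP.cast_eq_zero_iff _ p m).mp h3)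
  · have hm0 : m ≠ 0 := fun h0 => hm (h0 ▸ dvd_zero p)
    have h4 : Ideal.Quotient.mk M ε₂ ^ m = 1 := by rw [← map_pow, h₂', map_one]
    rw [show m = m - 1 + 1 by omega, pow_succ, h3, zero_mul] at h4
    exact zero_ne_one h4

theorem exists_pow_eq_one_residueField (hM : Cfsg.IsPModular p M) {x : Cfsg.AlgInt ⧸ M}
    (hx : x ≠ 0) : ∃ m, ¬ p ∣ m ∧ x ^ m = 1 := by
  letI := Ideal.Quotient.field M
  haveI := Fact.mk hM.1
  haveI := charP_residue hM
  letI : Algebra (ZMod p) (Cfsg.AlgInt ⧸ M) := ZMod.algebra _ p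
  obtain ⟨a, rfl⟩ := Ideal.Quotient.mk_surjective x
  have hzm : IsIntegral (ZMod p) (Ideal.Quotient.mk M a) := by
    have ha : IsIntegral ℤ a :=
      (isIntegral_algebraMap_iff (FaithfulSMul.algebraMap_injective Cfsg.AlgInt ℂ)).mp a.2
    have := ha.map (Ideal.Quotient.mkₐ ℤ M)
    exact this.tower_top
  set K := IntermediateField.adjoin (ZMod p) ({Ideal.Quotient.mk M a} : Set (Cfsg.AlgInt ⧸ M))
  haveI : FiniteDimensional (ZMod p) K := IntermediateField.adjoin.finiteDimensional hzm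
  haveI : Finite K := Module.finite_of_finite (ZMod p)
  letI := Fintype.ofFinite K
  set y : K := ⟨Ideal.Quotient.mk M a, IntermediateField.mem_adjoin_simple_self _ _⟩ with hy
  have hy0 : y ≠ 0 := fun h => hx (congrArg Subtype.val h)
  refine ⟨Fintype.card K - 1, ?_, ?_⟩
  · haveI : CharP K p := charP_of_injective_algebraMap (RingHom.injective (algebraMap (ZMod p) K)) p
    obtain ⟨n, -, hn⟩ := FiniteField.card K p
    rw [hn]
    intro hd
    have h1 : 1 ≤ p ^ (n : ℕ) := Nat.one_le_pow _ _ hM.1.pos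
    have h2 : p ∣ p ^ (n : ℕ) := dvd_pow_self _ n.pos.ne'
    have h3 : p ∣ 1 := (Nat.dvd_add_right hd).mp (by rwa [Nat.sub_add_cancel h1])
    exact hM.1.one_lt.ne' (Nat.dvd_one.mp h3)
  · have := congrArg Subtype.val (FiniteField.pow_card_sub_one_eq_one y hy0)
    simpa [hy] using this

/-- Every algebraic integer outside `M` is congruent to a root of unity of order prime to `p`. -/
theorem exists_rootOfUnity_lift (hM : Cfsg.IsPModular p M) {a : Cfsg.AlgInt} (ha : a ∉ M) :
    ∃ ε : Cfsg.AlgInt, (∃ m : ℕ, ¬ p ∣ m ∧ (ε : ℂ) ^ m = 1) ∧ a - ε ∈ M := by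
  classical
  letI := Ideal.Quotient.field M
  obtain ⟨m, hm, hx⟩ := exists_pow_eq_one_residueField hM
    (x := Ideal.Quotient.mk M a) fun h => ha (Ideal.Quotient.eq_zero_iff_mem.mp h)
  have hm0 : 0 < m := Nat.pos_of_ne_zero fun h => hm (h ▸ dvd_zero p)
  obtain ⟨ζ, hζ⟩ : ∃ ζ : ℂ, IsPrimitiveRoot ζ m := ⟨_, Complex.isPrimitiveRoot_exp m hm0.ne'⟩
  set z : Cfsg.AlgInt := ⟨ζ, hζ.isIntegral hm0⟩ with hz
  set S := (Finset.range m).image fun i => Ideal.Quotient.mk M (z ^ i) with hS
  have hzpow : ∀ i, ((z ^ i : Cfsg.AlgInt) : ℂ) ^ m = 1 := fun i => by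
    push_cast
    rw [← pow_mul, mul_comm, pow_mul]
    rw [show (z : ℂ) = ζ from rfl, hζ.pow_eq_one, one_pow]
  have hcard : S.card = m := by
    rw [hS, Finset.card_image_of_injOn, Finset.card_range]
    intro i hi j hj hij
    have := rootOfUnity_eq_of_sub_mem hM hm (hzpow i) (hzpow j) (Ideal.Quotient.eq.mp hij)
    exact hζ.pow_inj (Finset.mem_range.mp hi) (Finset.mem_range.mp hj)
      (by simpa [hz] using congrArg Subtype.val this)
  have hsub : S ⊆ (nthRoots m (1 : Cfsg.AlgInt ⧸ M)).toFinset := by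
    intro y hy
    obtain ⟨i, -, rfl⟩ := Finset.mem_image.mp hy
    rw [Multiset.mem_toFinset, mem_nthRoots hm0, ← map_pow,
      show (z ^ i) ^ m = 1 from Subtype.ext (by simpa using hzpow i), map_one]
  have heq := Finset.eq_of_subset_of_card_le hsub <| hcard ▸
    (Multiset.toFinset_card_le _).trans (hcard.symm ▸ card_nthRoots m _)
  have hmem : Ideal.Quotient.mk M a ∈ S := by
    rw [heq, Multiset.mem_toFinset, mem_nthRoots hm0]; exact hx
  obtain ⟨i, -, hi⟩ := Finset.mem_image.mp hmem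
  exact ⟨z ^ i, ⟨m, hm, hzpow i⟩, Ideal.Quotient.eq.mp hi.symm⟩

end Cfsg.Agent.Lib.Blocks
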