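import Cfsg.Agent.Lib.Blocks.LocalRing
import Mathlib.LinearAlgebra.Trace
import Mathlib.RingTheory.Flat.TorsionFree
import Mathlib.RingTheory.LocalRing.Module
import Mathlib.RingTheory.Finiteness.Projective
import Mathlib.LinearAlgebra.Determinant
import Mathlib.RingTheory.Polynomial.Cyclotomic.Basic

/-!
# A trace vanishing lemma over the local ring

If `σ` is an automorphism of `p`-power order of a finite free module over the local ring at `M`
whose identity is a relative trace from `σ ^ p` (Higman's criterion), then `trace (σ * E) = 0` for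
every idempotent `E` commuting with `σ`, also after twisting by an automorphism of order prime to
`p` commuting with both.  This stands in for Green's theorem on indecomposable modules.
-/

namespace Cfsg.Agent.Lib.Blocks

open Polynomial

universe v

/-- The hypotheses on `σ`: `σ'` is its inverse and `a` commutes with `σ ^ p` and has relative
trace `1`. -/
structure IsHigman {R : Type*} [CommRing R] {V : Type*} [AddCommGroup V] [Module R V] (p : ℕ)
    (σ σ' a : Module.End R V) : Prop where
  right_inv : σ * σ' = 1
  left_inv : σ' * σ = 1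
  comm : Commute a (σ ^ p)
  sum_eq : ∑ i ∈ Finset.range p, σ ^ i * a * σ' ^ i = 1

section general

variable {R : Type*} [CommRing R] {V : Type v} [AddCommGroup V] [Module R V]

theorem aeval_restrict_apply {f : Module.End R V} {W : Submodule R V}
    (h : ∀ x ∈ W, f x ∈ W) (q : R[X]) (x : W) :
    ((Polynomial.aeval (f.restrict h) q x : W) : V) = Polynomial.aeval f q (x : V) := by
  induction q using Polynomial.induction_on with
  | C r => simp [Module.algebraMap_end_apply]
  | add q₁ q₂ h₁ h₂ => simp [h₁, h₂]
  | monomial n r _ =>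
    rw [map_mul, map_mul, map_pow, map_pow, aeval_X, aeval_X, aeval_C, aeval_C,
      Module.End.mul_apply, Module.End.mul_apply, Module.algebraMap_end_apply,
      Module.algebraMap_end_apply, Module.End.pow_restrict (n + 1) h]
    rfl

/-- Additivity of the trace along kernel and range. -/
theorem trace_eq_trace_ker_add_trace_range (f g : Module.End R V) (hfg : Commute f g)
    [Module.Free R V] [Module.Finite R V]
    [Module.Free R (LinearMap.ker g)] [Module.Finite R (LinearMap.ker g)]
    [Module.Free R (LinearMap.range g)] [Module.Finite R (LinearMap.range g)]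
    (hk : ∀ x ∈ LinearMap.ker g, f x ∈ LinearMap.ker g)
    (hr : ∀ x ∈ LinearMap.range g, f x ∈ LinearMap.range g) :
    LinearMap.trace R V f =
      LinearMap.trace R _ (f.restrict hk) + LinearMap.trace R _ (f.restrict hr) := by
  obtain ⟨s, hs⟩ := Module.projective_lifting_property g.rangeRestrict
    (LinearMap.id : LinearMap.range g →ₗ[R] LinearMap.range g) g.surjective_rangeRestrict
  have hs' : ∀ y, g (s y) = (y : V) := fun y => congrArg Subtype.val (LinearMap.congr_fun hs y)
  let π : V →ₗ[R] LinearMap.ker g :=
    LinearMap.codRestrict _ (LinearMap.id - s ∘ₗ g.rangeRestrict) (fun x => by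
      simp [hs', LinearMap.rangeRestrict])
  have hsplit : f = (f ∘ₗ (LinearMap.ker g).subtype) ∘ₗ π + (f ∘ₗ s) ∘ₗ g.rangeRestrict := by
    ext x
    simp [π]
  conv_lhs => rw [hsplit]
  rw [map_add, LinearMap.trace_comp_comm' π, LinearMap.trace_comp_comm' g.rangeRestrict]
  refine congrArg₂ (· + ·) (congrArg _ ?_) (congrArg _ ?_)
  · ext x
    have : g (f x) = 0 := by simpa using hk x x.2
    simp only [π, LinearMap.comp_apply, LinearMap.codRestrict_apply, LinearMap.sub_apply,
      LinearMap.id_apply, Submodule.coe_subtype, LinearMap.coe_restrict_apply]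
    rw [show g.rangeRestrict (f (x : V)) = 0 from Subtype.ext this, map_zero, sub_zero]
  · ext y
    change g (f (s y)) = f y
    rw [← hs' y]
    exact (LinearMap.congr_fun hfg (s y)).symm

/-- The Higman hypotheses pass to invariant submodules. -/
theorem IsHigman.restrict {p : ℕ} {σ σ' a : Module.End R V} (h : IsHigman p σ σ' a)
    {W : Submodule R V} (hσ : ∀ x ∈ W, σ x ∈ W) (hσ' : ∀ x ∈ W, σ' x ∈ W)
    (ha : ∀ x ∈ W, a x ∈ W) :
    IsHigman p (σ.restrict hσ) (σ'.restrict hσ') (a.restrict ha) where
  right_inv := by ext x; simpa using LinearMap.congr_fun h.right_inv (x : V)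
  left_inv := by ext x; simpa using LinearMap.congr_fun h.left_inv (x : V)
  comm := by
    rw [Module.End.pow_restrict p hσ]
    ext x
    simpa using LinearMap.congr_fun h.comm (x : V)
  sum_eq := by
    ext x
    have := LinearMap.congr_fun h.sum_eq (x : V)
    simp only [LinearMap.sum_apply, Module.End.mul_apply, Module.End.one_apply] at this
    simp only [LinearMap.sum_apply, Module.End.mul_apply, Module.End.one_apply,
      Submodule.coe_sum]
    refine Eq.trans (Finset.sum_congr rfl fun i _ => ?_) this
    rw [Module.End.pow_restrict i hσ, Module.End.pow_restrict i hσ']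
    rfl

theorem mapsTo_ker_of_commute {f g : Module.End R V} (h : Commute f g) :
    ∀ x ∈ LinearMap.ker g, f x ∈ LinearMap.ker g := by
  intro x hx
  rw [LinearMap.mem_ker] at hx ⊢
  rw [show g (f x) = f (g x) from (LinearMap.congr_fun h x).symm, hx, map_zero]

theorem mapsTo_range_of_commute {f g : Module.End R V} (h : Commute f g) :
    ∀ x ∈ LinearMap.range g, f x ∈ LinearMap.range g := by
  rintro _ ⟨y, rfl⟩
  exact ⟨f y, (LinearMap.congr_fun h y).symm⟩

theorem commute_restrict {f g : Module.End R V} (h : Commute f g) {W : Submodule R V}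
    (hf : ∀ x ∈ W, f x ∈ W) (hg : ∀ x ∈ W, g x ∈ W) :
    Commute (f.restrict hf) (g.restrict hg) := by
  ext x
  simpa using LinearMap.congr_fun h (x : V)

end general

variable {p : ℕ} {M : Ideal Cfsg.AlgInt} [M.IsMaximal]

/-- A finitely generated torsion-free module over the local ring is free. -/
theorem free_of_isTorsionFree (hM : Cfsg.IsPModular p M) (V : Type v) [AddCommGroup V]
    [Module (localRing M) V] [Module.Finite (localRing M) V]
    [Module.IsTorsionFree (localRing M) V] : Module.Free (localRing M) V := by
  haveI := isLocalRing_localRing (M := M)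
  haveI := valuationRing_localRing hM
  haveI : Module.Flat (localRing M) V :=
    Module.Flat.flat_iff_torsion_eq_bot_of_isBezout.mpr
      (Submodule.isTorsionFree_iff_torsion_eq_bot.mp inferInstance)
  exact Module.free_of_flat_of_isLocalRing

theorem finite_ker_of_free (hM : Cfsg.IsPModular p M) {V : Type v} [AddCommGroup V]
    [Module (localRing M) V] [Module.Finite (localRing M) V] [Module.Free (localRing M) V]
    (g : Module.End (localRing M) V) : Module.Finite (localRing M) (LinearMap.ker g) := by
  haveI := free_of_isTorsionFree hM (LinearMap.range g)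
  obtain ⟨s, hs⟩ := Module.projective_lifting_property g.rangeRestrict
    (LinearMap.id : LinearMap.range g →ₗ[localRing M] LinearMap.range g)
    g.surjective_rangeRestrict
  have hs' : ∀ y, g (s y) = (y : V) := fun y => congrArg Subtype.val (LinearMap.congr_fun hs y)
  let π : V →ₗ[localRing M] LinearMap.ker g :=
    LinearMap.codRestrict _ (LinearMap.id - s ∘ₗ g.rangeRestrict) (fun x => by
      simp [hs', LinearMap.rangeRestrict])
  refine Module.Finite.of_surjective π fun x => ⟨x, ?_⟩
  ext
  simp only [π, LinearMap.codRestrict_apply, LinearMap.sub_apply, LinearMap.id_apply,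
    LinearMap.comp_apply]
  rw [show g.rangeRestrict (x : V) = 0 from Subtype.ext x.2, map_zero, sub_zero]

variable {V : Type v} [AddCommGroup V] [Module (localRing M) V]
  [Module.Free (localRing M) V] [Module.Finite (localRing M) V]

/-- The trace of an idempotent is the rank of its range. -/
theorem trace_idempotent (hM : Cfsg.IsPModular p M) {N : Module.End (localRing M) V}
    (hN : N * N = N) :
    LinearMap.trace (localRing M) V N =
      (Module.finrank (localRing M) (LinearMap.range N) : localRing M) := by
  haveI := free_of_isTorsionFree hM (LinearMap.range N)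
  haveI := finite_ker_of_free hM N
  haveI := free_of_isTorsionFree hM (LinearMap.ker N)
  exact LinearMap.IsProj.trace ⟨fun x => LinearMap.mem_range_self N x,
    fun x ⟨y, hy⟩ => by rw [← hy]; exact LinearMap.congr_fun hN y⟩

/-- A combination of endomorphisms with all scalars in the maximal ideal has no nonzero fixed
vector. -/
theorem eq_zero_of_fixed_of_residue_eq_zero {ι : Type*} (s : Finset ι) (d : ι → localRing M)
    (X : ι → Module.End (localRing M) V) (hd : ∀ i ∈ s, residue M (d i) = 0) {x : V}
    (hx : (∑ i ∈ s, d i • X i) x = x) : x = 0 := by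
  classical
  set b := Module.Free.chooseBasis (localRing M) V
  set A := LinearMap.toMatrix b b (1 - ∑ i ∈ s, d i • X i) with hA
  have hmap : (residue M).mapMatrix A = 1 := by
    rw [hA, map_sub, LinearMap.toMatrix_one, map_sub, map_one, map_sum, map_sum,
      Finset.sum_eq_zero, sub_zero]
    intro i hi
    ext j l
    rw [RingHom.mapMatrix_apply, Matrix.map_apply, map_smul, Matrix.smul_apply, smul_eq_mul,
      map_mul, hd i hi, zero_mul]
    rfl
  have hdet : IsUnit A.det := by
    rw [isUnit_localRing_iff, RingHom.map_det, hmap, Matrix.det_one]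
    exact one_ne_zero
  have h0 : A.mulVec (b.repr x) = 0 := by
    rw [hA, LinearMap.toMatrix_mulVec_repr, LinearMap.sub_apply, Module.End.one_apply, hx, sub_self,
      map_zero]
    rfl
  have := Matrix.mulVec_injective_of_isUnit ((Matrix.isUnit_iff_isUnit_det A).mpr hdet)
    (a₁ := b.repr x) (a₂ := 0) (by rw [h0, Matrix.mulVec_zero])
  exact b.repr.map_eq_zero_iff.mp (DFunLike.coe_injective this)

/-- Congruent idempotents have ranges of the same rank. -/
theorem finrank_range_le (hM : Cfsg.IsPModular p M) {ι : Type*} (s : Finset ι)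
    (d : ι → localRing M) (X : ι → Module.End (localRing M) V)
    (hd : ∀ i ∈ s, residue M (d i) = 0) {N N' : Module.End (localRing M) V} (hN : N * N = N)
    (hdiff : N - N' = ∑ i ∈ s, d i • X i) :
    Module.finrank (localRing M) (LinearMap.range N) ≤
      Module.finrank (localRing M) (LinearMap.range N') := by
  haveI := free_of_isTorsionFree hM (LinearMap.range N)
  haveI := free_of_isTorsionFree hM (LinearMap.range N')
  refine LinearMap.finrank_le_finrank_of_injective
    (f := N'.rangeRestrict ∘ₗ (LinearMap.range N).subtype) ?_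
  rw [← LinearMap.ker_eq_bot, LinearMap.ker_eq_bot']
  intro x hx
  have h2 : N' (x : V) = 0 := congrArg Subtype.val hx
  have h1 : N (x : V) = x := by
    obtain ⟨y, hy⟩ := x.2
    rw [← hy]
    exact LinearMap.congr_fun hN y
  exact Subtype.ext (eq_zero_of_fixed_of_residue_eq_zero s d X hd
    (by rw [← hdiff, LinearMap.sub_apply, h1, h2, sub_zero]))

theorem exists_primitiveRoot {m : ℕ} (hm : m ≠ 0) :
    ∃ z : localRing M, IsPrimitiveRoot z m := by
  refine ⟨⟨_, mem_localRing_of_isIntegral
    ((Complex.isPrimitiveRoot_exp m hm).isIntegral (Nat.pos_of_ne_zero hm))⟩, ?_⟩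
  exact IsPrimitiveRoot.of_map_of_injective (f := (localRing M).subtype)
    (Complex.isPrimitiveRoot_exp m hm) Subtype.val_injective

theorem residue_eq_one_of_pow_eq_one (hM : Cfsg.IsPModular p M) {z : localRing M} {k : ℕ}
    (hz : z ^ p ^ k = 1) : residue M z = 1 := by
  letI := Ideal.Quotient.field M
  haveI := Fact.mk hM.1
  haveI := charP_residue hM
  have h2 : (residue M z - 1) ^ (p ^ k) = 0 := by
    rw [sub_pow_char_pow, ← map_pow, hz, map_one, one_pow, sub_self]
  exact sub_eq_zero.mp (pow_eq_zero_iff (pow_ne_zero _ hM.1.ne_zero) |>.mp h2)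

/-- The case where `σ ^ p` is the identity. -/
theorem trace_eq_zero_of_pow_eq_one (hM : Cfsg.IsPModular p M)
    {τ τ' a E : Module.End (localRing M) V} (hτ : τ ^ p = 1) (h : IsHigman p τ τ' a)
    (hE : E * E = E) (hcE : Commute τ E) :
    LinearMap.trace (localRing M) V (τ * E) = 0 := by
  classical
  have hp0 : p ≠ 0 := hM.1.ne_zero
  have hτ'E : Commute τ' E := by
    change τ' * E = E * τ'
    calc τ' * E = τ' * E * (τ * τ') := by rw [h.right_inv, mul_one]
      _ = τ' * (E * τ) * τ' := by simp only [mul_assoc]
      _ = τ' * (τ * E) * τ' := by rw [hcE.eq]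
      _ = E * τ' := by rw [← mul_assoc τ', h.left_inv, one_mul]
  obtain ⟨z, hz⟩ := exists_primitiveRoot (M := M) hp0
  set S : ℕ → Module.End (localRing M) V :=
    fun j => ∑ i ∈ Finset.range p, (z ^ j) ^ i • τ ^ i with hS
  have hcycle : ∀ c : ℕ → Module.End (localRing M) V, c p = c 0 →
      ∑ i ∈ Finset.range p, c (i + 1) = ∑ i ∈ Finset.range p, c i := fun c hc => by
    have h1 := Finset.sum_range_succ c p
    rw [Finset.sum_range_succ' c p, hc] at h1
    exact add_right_cancel h1
  have hτS : ∀ j, (z ^ j) • (τ * S j) = S j := by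
    intro j
    simp only [hS]
    rw [Finset.mul_sum, Finset.smul_sum]
    simp only [mul_smul_comm, smul_smul, ← pow_succ']
    refine hcycle (fun i => (z ^ j) ^ i • τ ^ i) ?_
    simp only [hτ, pow_zero]
    rw [← pow_mul, mul_comm, pow_mul, hz.pow_eq_one, one_pow]
  have hτ'S : ∀ j i, τ' ^ i * S j = (z ^ j) ^ i • S j := by
    intro j i
    induction i with
    | zero => simp
    | succ i ih =>
      rw [pow_succ' τ', mul_assoc, ih, mul_smul_comm, pow_succ, mul_smul]
      congr 1
      conv_lhs => rw [← hτS j, mul_smul_comm, ← mul_assoc, h.left_inv, one_mul]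
  have hSaS : ∀ j, S j * a * S j = S j := by
    intro j
    conv_rhs => rw [← one_mul (S j), ← h.sum_eq, Finset.sum_mul]
    conv_lhs => rw [hS, Finset.sum_mul, Finset.sum_mul]
    refine Finset.sum_congr rfl fun i _ => ?_
    rw [mul_assoc _ (τ' ^ i), hτ'S, mul_smul_comm, smul_mul_assoc, smul_mul_assoc]
  have hSE : ∀ j, Commute (S j) E := fun j =>
    Commute.sum_left _ _ _ fun i _ => (hcE.pow_left i).smul_left _
  set N : ℕ → Module.End (localRing M) V := fun j => a * S j * E with hN
  have hNN : ∀ j, N j * N j = N j := by
    intro j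
    calc a * S j * E * (a * S j * E) = a * (S j * E) * a * (S j * E) := by simp only [mul_assoc]
      _ = a * (E * S j) * a * (S j * E) := by rw [(hSE j).eq]
      _ = a * E * (S j * a * S j) * E := by simp only [mul_assoc]
      _ = a * (E * S j) * E := by rw [hSaS]; simp only [mul_assoc]
      _ = a * (S j * E) * E := by rw [(hSE j).eq]
      _ = a * S j * E := by rw [mul_assoc, mul_assoc, hE, ← mul_assoc]
  have htr : ∀ j, LinearMap.trace (localRing M) V (S j * E) =
      (p : localRing M) * LinearMap.trace (localRing M) V (N j) := by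
    intro j
    conv_lhs => rw [← mul_one (S j * E), ← h.sum_eq, Finset.mul_sum, map_sum]
    rw [Finset.sum_congr rfl (g := fun _ => LinearMap.trace (localRing M) V (N j)) fun i _ => ?_,
      Finset.sum_const, Finset.card_range, nsmul_eq_mul]
    have hc : Commute (τ' ^ i) (S j * E) := by
      refine Commute.mul_right ?_ (hτ'E.pow_left i)
      refine Commute.sum_right _ _ _ fun l _ => Commute.smul_right (Commute.pow_pow ?_ i l) _
      exact h.left_inv.trans h.right_inv.symm
    have hinv : τ' ^ i * τ ^ i = 1 := by
      rw [← (show Commute τ' τ from h.left_inv.trans h.right_inv.symm).mul_pow, h.left_inv, one_pow]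
    rw [← mul_assoc (S j * E), LinearMap.trace_mul_comm, ← mul_assoc, ← mul_assoc, hc.eq,
      mul_assoc (S j * E), hinv, mul_one, LinearMap.trace_mul_comm]
    simp only [hN, mul_assoc]
  set r : ℕ → ℕ := fun j => Module.finrank (localRing M) (LinearMap.range (N j)) with hr
  have hres : ∀ j i, residue M ((z ^ j) ^ i) = 1 := fun j i => by
    rw [map_pow, map_pow, residue_eq_one_of_pow_eq_one hM (k := 1) (by rw [pow_one, hz.pow_eq_one]),
      one_pow, one_pow]
  have hle : ∀ j l, r j ≤ r l := fun j l =>
    finrank_range_le hM (Finset.range p) (fun i => (z ^ j) ^ i - (z ^ l) ^ i)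
      (fun i => a * τ ^ i * E) (fun i _ => by rw [map_sub, hres, hres, sub_self]) (hNN j) (by
        simp only [hN, hS, Finset.mul_sum, Finset.sum_mul, sub_smul, Finset.sum_sub_distrib,
          mul_smul_comm, smul_mul_assoc])
  -- Fourier inversion
  set u : ℕ → localRing M := fun j => z ^ (j * (p - 1)) with hu
  have hsum : (∑ j ∈ Finset.range p, u j • S j) = (p : localRing M) • τ := by
    simp only [hS, Finset.smul_sum, smul_smul]
    rw [Finset.sum_comm]
    rw [Finset.sum_eq_single 1]
    · rw [← Finset.sum_smul, pow_one]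
      congr 1
      rw [Finset.sum_congr rfl (g := fun _ => (1 : localRing M)) fun j _ => ?_]
      · simp
      · rw [pow_one, hu, ← pow_add, show j * (p - 1) + j = p * j by
          rw [← Nat.mul_succ, Nat.succ_eq_add_one, Nat.sub_add_cancel hM.1.one_le, mul_comm],
          pow_mul, hz.pow_eq_one, one_pow]
    · intro i hi hi1
      rw [← Finset.sum_smul]
      convert zero_smul (localRing M) (τ ^ i)
      have hlt := Finset.mem_range.mp hi
      rw [Finset.sum_congr rfl (g := fun j => (z ^ (p - 1 + i)) ^ j) fun j _ => by
        simp only [hu]; rw [← pow_mul, ← pow_mul, ← pow_add]; ring_nf]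
      have hne : z ^ (p - 1 + i) ≠ 1 := by
        intro e
        have hd := (hz.pow_eq_one_iff_dvd _).mp e
        rcases Nat.eq_zero_or_pos i with rfl | hi0
        · have := Nat.le_of_dvd (by have := hM.1.two_le; omega) hd; omega
        · have hd2 : p ∣ (p + (i - 1)) := by rwa [show p + (i - 1) = p - 1 + i by omega]
          have := Nat.le_of_dvd (by omega) ((Nat.dvd_add_right (dvd_refl p)).mp hd2)
          omega
      have := geom_sum_mul (z ^ (p - 1 + i)) p
      rw [← pow_mul, mul_comm _ p, pow_mul, hz.pow_eq_one, one_pow, sub_self, mul_eq_zero] at this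
      exact this.resolve_right (sub_ne_zero.mpr hne)
    · exact fun hh => absurd (Finset.mem_range.mpr hM.1.one_lt) hh
  have key : (p : localRing M) * LinearMap.trace (localRing M) V (τ * E) = 0 := by
    rw [← smul_eq_mul, ← map_smul, ← smul_mul_assoc, ← hsum, Finset.sum_mul, map_sum]
    have : ∀ j ∈ Finset.range p, LinearMap.trace (localRing M) V ((u j • S j) * E) =
        u j * ((p : localRing M) * (r 0 : localRing M)) := by
      intro j _
      rw [smul_mul_assoc, map_smul, htr, trace_idempotent hM (hNN j), smul_eq_mul]
      rw [show Module.finrank (localRing M) (LinearMap.range (N j)) = r 0 from le_antisymm (hle j 0) (hle 0 j)]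
    rw [Finset.sum_congr rfl this, ← Finset.sum_mul]
    convert zero_mul ((p : localRing M) * (r 0 : localRing M))
    have hp1 : z ^ (p - 1) ≠ 1 := fun e => by
      have := Nat.le_of_dvd (by have := hM.1.two_le; omega) ((hz.pow_eq_one_iff_dvd _).mp e)
      omega
    have := geom_sum_mul (z ^ (p - 1)) p
    rw [← pow_mul, mul_comm _ p, pow_mul, hz.pow_eq_one, one_pow, sub_self, mul_eq_zero] at this
    rw [← this.resolve_right (sub_ne_zero.mpr hp1)]
    exact Finset.sum_congr rfl fun j _ => by simp only [hu]; rw [mul_comm j, pow_mul]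
  refine (mul_eq_zero.mp key).resolve_left fun e => hp0 ?_
  have e' := congrArg Subtype.val e
  simpa using e'

/-- The case where `σ ^ p` is a scalar. -/
theorem trace_eq_zero_of_pow_eq_smul (hM : Cfsg.IsPModular p M)
    {σ σ' a E : Module.End (localRing M) V} {c : localRing M} (hc : IsUnit c)
    (hσ : σ ^ p = c • 1) (h : IsHigman p σ σ' a) (hE : E * E = E) (hcE : Commute σ E) :
    LinearMap.trace (localRing M) V (σ * E) = 0 := by
  have hp0 : p ≠ 0 := hM.1.ne_zero
  obtain ⟨w, hw⟩ := IsAlgClosed.exists_pow_nat_eq (c : ℂ) (Nat.pos_of_ne_zero hp0)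
  have hwR : w ∈ localRing M := by
    refine mem_localRing_of_monic_root (q := X ^ p - C (c : ℂ)) (monic_X_pow_sub_C _ hp0)
      (fun i => ?_) (by simp [hw])
    rw [coeff_sub, coeff_X_pow, coeff_C]
    split_ifs <;> first
      | exact sub_mem (one_mem _) c.2
      | exact sub_mem (one_mem _) (zero_mem _)
      | exact sub_mem (zero_mem _) c.2
      | exact sub_mem (zero_mem _) (zero_mem _)
  set η : localRing M := ⟨w, hwR⟩
  have hη : η ^ p = c := Subtype.ext (by simp [η, hw])
  obtain ⟨η', hη'⟩ := ((isUnit_pow_iff hp0).mp (hη ▸ hc)).exists_right_inv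
  have key := trace_eq_zero_of_pow_eq_one hM (τ := η' • σ) (τ' := η • σ') (a := a) (E := E)
    (by rw [smul_pow, hσ, smul_smul, ← hη, ← mul_pow, mul_comm, hη', one_pow, one_smul])
    { right_inv := by rw [smul_mul_smul_comm, mul_comm η', hη', h.right_inv, one_smul]
      left_inv := by rw [smul_mul_smul_comm, hη', h.left_inv, one_smul]
      comm := by rw [smul_pow]; exact h.comm.smul_right _
      sum_eq := by
        rw [← h.sum_eq]
        refine Finset.sum_congr rfl fun i _ => ?_
        rw [smul_pow, smul_pow, smul_mul_assoc, smul_mul_smul_comm, ← mul_pow, mul_comm η', hη',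
          one_pow, one_smul] }
    hE (hcE.smul_left _)
  rw [smul_mul_assoc, map_smul, smul_eq_mul] at key
  rcases mul_eq_zero.mp key with e | e
  · rw [e, mul_zero] at hη'
    exact absurd hη' zero_ne_one
  · exact e

/-- Splitting off one root of an annihilating polynomial of `σ ^ p` at a time. -/
theorem trace_eq_zero_of_annihilated (hM : Cfsg.IsPModular p M) :
    ∀ (l : List (localRing M)), (∀ c ∈ l, IsUnit c) →
      ∀ (V : Type v) [AddCommGroup V] [Module (localRing M) V] [Module.Free (localRing M) V]
        [Module.Finite (localRing M) V] (σ σ' a E : Module.End (localRing M) V),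
        IsHigman p σ σ' a → E * E = E → Commute σ E →
        Polynomial.aeval (σ ^ p) ((l.map fun c => X - C c).prod) = 0 →
        LinearMap.trace (localRing M) V (σ * E) = 0 := by
  intro l
  induction l with
  | nil =>
    intro _ V _ _ _ _ σ σ' a E _ _ _ h0
    rw [List.map_nil, List.prod_nil, map_one] at h0
    rw [← mul_one (σ * E), h0, mul_zero, map_zero]
  | cons c l ih =>
    intro hu V _ _ _ _ σ σ' a E h hE hcE h0
    set g : Module.End (localRing M) V := σ ^ p - c • 1 with hg
    haveI := free_of_isTorsionFree hM (LinearMap.range g)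
    haveI := finite_ker_of_free hM g
    haveI := free_of_isTorsionFree hM (LinearMap.ker g)
    have cσ : Commute σ g := (Commute.self_pow σ p).sub_right ((Commute.one_right σ).smul_right c)
    have cσ' : Commute σ' g :=
      ((show Commute σ' σ from h.left_inv.trans h.right_inv.symm).pow_right p).sub_right
        ((Commute.one_right σ').smul_right c)
    have ca : Commute a g := h.comm.sub_right ((Commute.one_right a).smul_right c)
    have cE : Commute E g :=
      (hcE.symm.pow_right p).sub_right ((Commute.one_right E).smul_right c)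
    rw [trace_eq_trace_ker_add_trace_range (σ * E) g (cσ.mul_left cE)
      (mapsTo_ker_of_commute (cσ.mul_left cE)) (mapsTo_range_of_commute (cσ.mul_left cE))]
    have hk := trace_eq_zero_of_pow_eq_smul hM
      (σ := σ.restrict (mapsTo_ker_of_commute cσ)) (E := E.restrict (mapsTo_ker_of_commute cE))
      (hu c List.mem_cons_self) ?_
      (h.restrict (mapsTo_ker_of_commute cσ) (mapsTo_ker_of_commute cσ')
        (mapsTo_ker_of_commute ca))
      (LinearMap.ext fun x => Subtype.ext (by simpa using LinearMap.congr_fun hE (x : V)))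
      (commute_restrict hcE _ _)
    · have hrg := ih (fun d hd => hu d (List.mem_cons_of_mem c hd)) (LinearMap.range g)
        (σ.restrict (mapsTo_range_of_commute cσ)) (σ'.restrict (mapsTo_range_of_commute cσ'))
        (a.restrict (mapsTo_range_of_commute ca)) (E.restrict (mapsTo_range_of_commute cE))
        (h.restrict _ _ _)
        (LinearMap.ext fun x => Subtype.ext (by simpa using LinearMap.congr_fun hE (x : V)))
        (commute_restrict hcE _ _) ?_
      · have e1 : σ.restrict (mapsTo_ker_of_commute cσ) * E.restrict (mapsTo_ker_of_commute cE) =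
            (σ * E).restrict (mapsTo_ker_of_commute (cσ.mul_left cE)) :=
          LinearMap.ext fun x => rfl
        have e2 : σ.restrict (mapsTo_range_of_commute cσ) *
            E.restrict (mapsTo_range_of_commute cE) =
            (σ * E).restrict (mapsTo_range_of_commute (cσ.mul_left cE)) :=
          LinearMap.ext fun x => rfl
        rw [e1] at hk
        rw [e2] at hrg
        rw [hk, hrg, add_zero]
      · refine LinearMap.ext fun x => Subtype.ext ?_
        rw [Module.End.pow_restrict p (mapsTo_range_of_commute cσ), aeval_restrict_apply]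
        obtain ⟨y, hy⟩ := x.2
        rw [← hy, LinearMap.zero_apply, Submodule.coe_zero]
        have := LinearMap.congr_fun h0 y
        rw [List.map_cons, List.prod_cons, mul_comm, map_mul, map_sub, aeval_X, aeval_C,
          Algebra.algebraMap_eq_smul_one, Module.End.mul_apply] at this
        exact this
    · refine LinearMap.ext fun x => Subtype.ext ?_
      rw [Module.End.pow_restrict p (mapsTo_ker_of_commute cσ)]
      have hx : (σ ^ p) (x : V) - c • (x : V) = 0 := x.2
      exact sub_eq_zero.mp hx

/-- **Trace vanishing (Higman, Green).** -/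
theorem trace_eq_zero_of_isHigman (hM : Cfsg.IsPModular p M)
    {σ σ' a E : Module.End (localRing M) V} {k : ℕ} (hσ : σ ^ p ^ k = 1)
    (h : IsHigman p σ σ' a) (hE : E * E = E) (hcE : Commute σ E) :
    LinearMap.trace (localRing M) V (σ * E) = 0 := by
  classical
  obtain ⟨z, hz⟩ := exists_primitiveRoot (M := M) (pow_ne_zero k hM.1.ne_zero)
  have hpos : 0 < p ^ k := Nat.pow_pos hM.1.pos
  refine trace_eq_zero_of_annihilated hM (nthRootsFinset (p ^ k) (1 : localRing M)).toList ?_ V
    σ σ' a E h hE hcE ?_
  · intro c hc
    rw [Finset.mem_toList, mem_nthRootsFinset hpos] at hc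
    exact IsUnit.of_pow_eq_one hc hpos.ne'
  · rw [Finset.prod_map_toList, ← X_pow_sub_one_eq_prod hpos hz, map_sub, map_pow, aeval_X,
      map_one, ← pow_mul, mul_comm, pow_mul, hσ, one_pow, sub_self]

/-- Trace vanishing with a twist of order prime to `p`. -/
theorem trace_eq_zero_of_isHigman_twist (hM : Cfsg.IsPModular p M)
    {σ σ' a E D : Module.End (localRing M) V} {k m : ℕ} (hσ : σ ^ p ^ k = 1)
    (h : IsHigman p σ σ' a) (hE : E * E = E) (hcE : Commute σ E) (hm : ¬ p ∣ m)
    (hD : D ^ m = 1) (hcD : Commute σ D) (hDE : Commute D E) :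
    LinearMap.trace (localRing M) V (σ * D * E) = 0 := by
  classical
  have hm0 : m ≠ 0 := fun e => hm (e ▸ dvd_zero p)
  have hm' : IsUnit ((m : ℕ) : localRing M) := by
    rw [isUnit_localRing_iff, Ne, residue_eq_zero_iff]
    simpa [memLocalIdeal_natCast_iff hM] using hm
  obtain ⟨mi, hmi⟩ := hm'.exists_left_inv
  obtain ⟨z, hz⟩ := exists_primitiveRoot (M := M) hm0
  have hgeo : ∀ n : ℕ,
      ∑ j ∈ Finset.range m, (z ^ n) ^ j = if m ∣ n then (m : localRing M) else 0 := by
    intro n
    split_ifs with hd
    · simp [(hz.pow_eq_one_iff_dvd n).mpr hd]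
    · have := geom_sum_mul (z ^ n) m
      rw [← pow_mul, mul_comm _ m, pow_mul, hz.pow_eq_one, one_pow, sub_self, mul_eq_zero] at this
      exact this.resolve_right (sub_ne_zero.mpr fun e => hd ((hz.pow_eq_one_iff_dvd n).mp e))
  set P : ℕ → Module.End (localRing M) V :=
    fun j => mi • ∑ i ∈ Finset.range m, (z ^ j) ^ i • D ^ i with hP
  have hcycle : ∀ c : ℕ → Module.End (localRing M) V, c m = c 0 →
      ∑ i ∈ Finset.range m, c (i + 1) = ∑ i ∈ Finset.range m, c i := fun c hc => by
    have h1 := Finset.sum_range_succ c m
    rw [Finset.sum_range_succ' c m, hc] at h1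
    exact add_right_cancel h1
  have hDP : ∀ j i, (z ^ j) ^ i • (D ^ i * P j) = P j := by
    intro j i
    induction i with
    | zero => simp
    | succ i ih =>
      conv_rhs => rw [← ih]
      rw [pow_succ (z ^ j), pow_succ D, mul_assoc, mul_smul, ← mul_smul_comm]
      congr 2
      simp only [hP, mul_smul_comm, smul_comm _ mi, Finset.mul_sum, Finset.smul_sum, smul_smul]
      simp only [← mul_assoc, mul_comm _ mi]
      simp only [mul_smul, ← Finset.smul_sum]
      congr 1
      rw [Finset.smul_sum]
      simp only [smul_smul, ← pow_succ']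
      refine hcycle (fun i => (z ^ j) ^ i • D ^ i) ?_
      rw [hD, ← pow_mul, mul_comm, pow_mul, hz.pow_eq_one, one_pow]
      simp
  have hPP : ∀ j, P j * P j = P j := by
    intro j
    conv_lhs => arg 1; rw [hP]
    rw [smul_mul_assoc, Finset.sum_mul]
    simp only [smul_mul_assoc, hDP]
    rw [Finset.sum_const, Finset.card_range, ← Nat.cast_smul_eq_nsmul (localRing M), smul_smul, hmi,
      one_smul]
  have hcP : ∀ j (Y : Module.End (localRing M) V), Commute Y D → Commute Y (P j) :=
    fun j Y hY => (Commute.sum_right _ _ _ fun i _ => (hY.pow_right i).smul_right _).smul_right _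
  set u : ℕ → localRing M := fun j => z ^ (j * (m - 1)) with hu
  have hsum : ∑ j ∈ Finset.range m, u j • P j = D := by
    simp only [hP, Finset.smul_sum, smul_smul]
    rw [Finset.sum_comm]
    simp only [← Finset.sum_smul]
    have hcoef : ∀ i, (∑ j ∈ Finset.range m, u j * (mi * (z ^ j) ^ i)) =
        if m ∣ (m - 1 + i) then 1 else 0 := by
      intro i
      rw [Finset.sum_congr rfl (g := fun j => mi * (z ^ (m - 1 + i)) ^ j) fun j _ => by
        rw [hu]; ring, ← Finset.mul_sum, hgeo]
      split_ifs
      · exact hmi
      · exact mul_zero _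
    simp only [hcoef]
    by_cases h1 : m = 1
    · subst h1
      rw [pow_one] at hD
      simp [hD]
    rw [Finset.sum_eq_single 1]
    · rw [if_pos (by rw [Nat.sub_add_cancel (Nat.pos_of_ne_zero hm0)]), pow_one, one_smul]
    · intro i hi hi1
      rw [if_neg, zero_smul]
      have hlt := Finset.mem_range.mp hi
      intro hd
      rcases Nat.eq_zero_or_pos i with rfl | hi0
      · have := Nat.le_of_dvd (by omega) hd; omega
      · have hd2 : m ∣ (m + (i - 1)) := by rwa [show m + (i - 1) = m - 1 + i by omega]
        have := Nat.le_of_dvd (by omega) ((Nat.dvd_add_right (dvd_refl m)).mp hd2)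
        omega
    · exact fun hh => absurd (Finset.mem_range.mpr (by omega)) hh
  rw [← hsum, Finset.mul_sum, Finset.sum_mul, map_sum]
  refine Finset.sum_eq_zero fun j _ => ?_
  rw [mul_smul_comm, smul_mul_assoc, map_smul, mul_assoc,
    trace_eq_zero_of_isHigman hM hσ h ?_ ((hcP j σ hcD).mul_right hcE), smul_zero]
  have c1 : Commute E (P j) := hcP j E hDE.symm
  rw [mul_assoc, ← mul_assoc E, c1.eq, mul_assoc, hE, ← mul_assoc, hPP]

end Cfsg.Agent.Lib.Blocks
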