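import Cfsg.Agent.Lib.Blocks.Basic
import Cfsg.Agent.Lib.Blocks.Trace
import Cfsg.Agent.Lib.Brauer.Induction
import Mathlib.GroupTheory.Perm.Cycle.Basic

/-!
# Block orthogonality

The trace of `v ↦ g * v * h⁻¹ * e_B` on the group algebra over the local ring is the sum over the
block of `χ g * χ h⁻¹`.  When the `p`-parts of `g` and `h` are not conjugate the trace lemma of
`Lib/Blocks/Trace` makes it vanish: this is block orthogonality.
-/

namespace Cfsg.Agent.Lib.Blocks

open MonoidAlgebra Cfsg.Agent.Lib.BrauerMap.Basic Cfsg.Agent.Lib.BrauerMap.ClassSum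
open Cfsg.Agent.Lib.Characters.Basic
open scoped ComplexConjugate

universe u v

variable {G : Type u} [Group G]

/-! ## p-parts -/

theorem exists_isPPart [Finite G] {p : ℕ} (hp : p.Prime) (g : G) : ∃ x : G, Cfsg.IsPPart p g x := by
  obtain ⟨u, v, huv, hc, hu, hv, -, -⟩ :=
    Cfsg.Agent.Lib.Brauer.Induction.exists_pParts p hp g
  exact ⟨u, v, huv, hc, hu, hv⟩

theorem isPPart_self {p : ℕ} (hp : p.Prime) {g : G} (hg : ∃ k : ℕ, orderOf g = p ^ k) :
    Cfsg.IsPPart p g g :=
  ⟨1, mul_one g, Commute.one_right g, hg, by simp [hp.ne_one]⟩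

theorem isPPart_one_of_regular {p : ℕ} {g : G} (hg : ¬ p ∣ orderOf g) : Cfsg.IsPPart p g 1 :=
  ⟨g, one_mul g, Commute.one_left g, ⟨0, by simp⟩, hg⟩

/-- The `p`-part of a `p`-singular element is not the identity. -/
theorem isPPart_ne_one {p : ℕ} {g x : G} (h : Cfsg.IsPPart p g x) (hg : p ∣ orderOf g) :
    x ≠ 1 := by
  obtain ⟨y, hxy, -, -, hy⟩ := h
  intro hx
  rw [hx, one_mul] at hxy
  exact hy (hxy ▸ hg)

/-! ## Two-sided translations -/

section perm

variable (R : Type v) [CommRing R]

/-- A permutation of the group as an endomorphism of the group algebra. -/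
noncomputable def permEnd (π : Equiv.Perm G) : Module.End R (MonoidAlgebra R G) :=
  (MonoidAlgebra.coeffLinearEquiv R).symm.toLinearMap ∘ₗ Finsupp.lmapDomain R R π ∘ₗ
    (MonoidAlgebra.coeffLinearEquiv R).toLinearMap

theorem permEnd_single (π : Equiv.Perm G) (v : G) (r : R) :
    permEnd R π (single v r) = single (π v) r := by
  apply MonoidAlgebra.coeff_injective
  simp [permEnd, Finsupp.mapDomain_single]

theorem endExt {f f' : Module.End R (MonoidAlgebra R G)}
    (h : ∀ (v : G) (r : R), f (single v r) = f' (single v r)) : f = f' := by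
  refine LinearMap.ext fun z => ?_
  induction z using MonoidAlgebra.induction_linear with
  | zero => rw [map_zero, map_zero]
  | add x y hx hy => rw [map_add, map_add, hx, hy]
  | single v r => exact h v r

theorem permEnd_mul (π π' : Equiv.Perm G) : permEnd R (π * π') = permEnd R π * permEnd R π' :=
  endExt R fun v r => by
    rw [Module.End.mul_apply, permEnd_single, permEnd_single, permEnd_single,
      Equiv.Perm.mul_apply]

theorem permEnd_one : permEnd R (1 : Equiv.Perm G) = 1 :=
  endExt R fun v r => by rw [permEnd_single, Equiv.Perm.one_apply, Module.End.one_apply]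

/-- `v ↦ g * v * h⁻¹` as a homomorphism from `G × G` to endomorphisms of the group algebra. -/
noncomputable def twoSided : G × G →* Module.End R (MonoidAlgebra R G) where
  toFun gh := permEnd R
    { toFun := fun v => gh.1 * v * gh.2⁻¹
      invFun := fun v => gh.1⁻¹ * v * gh.2
      left_inv := fun v => by simp [mul_assoc]
      right_inv := fun v => by simp [mul_assoc] }
  map_one' := endExt R fun v r => by simp [permEnd_single]
  map_mul' gh gh' := endExt R fun v r => by simp [permEnd_single, mul_assoc]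

theorem twoSided_single (g h v : G) (r : R) :
    twoSided R (g, h) (single v r) = single (g * v * h⁻¹) r := permEnd_single R _ v r

theorem twoSided_apply (g h : G) (z : MonoidAlgebra R G) :
    twoSided R (g, h) z = single g 1 * z * single h⁻¹ 1 := by
  induction z using MonoidAlgebra.induction_linear with
  | zero => simp
  | add x y hx hy => rw [map_add, hx, hy, mul_add, add_mul]
  | single v r => simp [twoSided_single, single_mul_single]

variable {R}

theorem commute_twoSided_mulLeft {e : MonoidAlgebra R G}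
    (he : e ∈ Subalgebra.center R (MonoidAlgebra R G)) (g h : G) :
    Commute (twoSided R (g, h)) (LinearMap.mulLeft R e) := by
  refine LinearMap.ext fun z => ?_
  simp only [Module.End.mul_apply, LinearMap.mulLeft_apply, twoSided_apply]
  rw [← mul_assoc (single g 1), Subalgebra.mem_center_iff.mp he (single g 1)]
  simp only [mul_assoc]

/-- The projection onto a set of group elements. -/
noncomputable def setProj (S : G → Prop) [DecidablePred S] :
    Module.End R (MonoidAlgebra R G) :=
  (MonoidAlgebra.coeffLinearEquiv R).symm.toLinearMap ∘ₗ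
    ((Finsupp.supported R R {v | S v}).subtype ∘ₗ Finsupp.restrictDom R R {v | S v}) ∘ₗ
    (MonoidAlgebra.coeffLinearEquiv R).toLinearMap

theorem setProj_single (S : G → Prop) [DecidablePred S] (v : G) (r : R) :
    setProj S (single v r) = if S v then single v r else 0 := by
  classical
  apply MonoidAlgebra.coeff_injective
  ext w
  simp only [setProj, LinearMap.coe_comp, LinearEquiv.coe_coe, Function.comp_apply,
    Submodule.coe_subtype, MonoidAlgebra.coeffLinearEquiv_apply, coeff_single,
    MonoidAlgebra.coeffLinearEquiv_symm_apply]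
  rw [Finsupp.restrictDom_apply]
  by_cases hS : S v
  · simp [hS, Finsupp.filter_single_of_pos]
  · simp [hS, Finsupp.filter_single_of_neg]

variable [Finite G]

/-- The trace of a two-sided translation composed with multiplication by a central element. -/
theorem trace_twoSided_mulLeft [Fintype G] {e : MonoidAlgebra R G}
    (he : e ∈ Subalgebra.center R (MonoidAlgebra R G)) (g h : G) :
    LinearMap.trace R (MonoidAlgebra R G) (twoSided R (g, h) * LinearMap.mulLeft R e) =
      ∑ v : G, e.coeff (g⁻¹ * (v * h * v⁻¹)) := by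
  classical
  set b : Module.Basis G R (MonoidAlgebra R G) :=
    Module.Basis.ofRepr (MonoidAlgebra.coeffLinearEquiv R) with hb
  rw [LinearMap.trace_eq_matrix_trace R b, Matrix.trace]
  refine Finset.sum_congr rfl fun v _ => ?_
  have hbv : b v = single v 1 := by
    apply MonoidAlgebra.coeff_injective
    simp [hb]
  rw [Matrix.diag, LinearMap.toMatrix_apply, hbv, Module.End.mul_apply, LinearMap.mulLeft_apply,
    twoSided_apply]
  change (single g 1 * (e * single v 1) * single h⁻¹ 1).coeff v = _
  rw [coeff_mul_single_apply, coeff_single_mul_apply, coeff_mul_single_apply]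
  simp only [one_mul, mul_one, inv_inv]
  simp only [mul_assoc]

end perm

/-! ## The character identity -/

variable [Finite G]

/-- `∑ v, χ (v b v⁻¹ a) = |G| χ b χ a / χ 1`. -/
theorem sum_char_conj_mul [Fintype G] (χ : Cfsg.IrrCharacter G) (a b : G) :
    ∑ v : G, (χ : G → ℂ) (v * b * v⁻¹ * a) =
      (Nat.card G : ℂ) * (χ : G → ℂ) b / (χ : G → ℂ) 1 * (χ : G → ℂ) a := by
  set z : MonoidAlgebra ℂ G := ∑ v : G, single (v * b * v⁻¹) 1 with hz
  have hzc : z ∈ Subalgebra.center ℂ (MonoidAlgebra ℂ G) := by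
    rw [Subalgebra.mem_center_iff]
    intro w
    induction w using MonoidAlgebra.induction_linear with
    | zero => simp
    | add x y hx hy => rw [add_mul, mul_add, hx, hy]
    | single g r =>
      simp only [hz, Finset.mul_sum, Finset.sum_mul, single_mul_single, one_mul, mul_one]
      refine Fintype.sum_equiv (Equiv.mulLeft g) _ _ fun v => ?_
      simp [mul_assoc]
  have h1 := lin_center_mul χ hzc (single a 1)
  simp only [hz, Finset.sum_mul, map_sum, single_mul_single, lin_single, one_mul] at h1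
  rw [h1]
  congr 2
  rw [Finset.sum_congr rfl (g := fun _ => (χ : G → ℂ) b) fun v _ => char_conj_apply χ b v]
  simp [Nat.card_eq_fintype_card]

theorem sum_blockCoeff_conj [Fintype G] (A : Set (Cfsg.IrrCharacter G)) (g h : G) :
    ∑ v : G, Cfsg.blockCoeff A (g⁻¹ * (v * h * v⁻¹)) =
      ∑ᶠ χ ∈ A, (χ : G → ℂ) g * (χ : G → ℂ) h⁻¹ := by
  classical
  haveI := Fintype.ofFinite (Cfsg.IrrCharacter G)
  simp only [blockCoeff_eq_sum]
  rw [finsum_mem_eq_finite_toFinset_sum _ (Set.toFinite A), ← Finset.mul_sum, Finset.sum_comm,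
    Finset.mul_sum]
  refine Finset.sum_congr (by ext χ; simp) fun χ _ => ?_
  have hinv : ∀ v : G, conj ((χ : G → ℂ) (g⁻¹ * (v * h * v⁻¹))) =
      (χ : G → ℂ) (v * h⁻¹ * v⁻¹ * g) := fun v => by
    rw [← apply_inv (isCharacter_irr χ)]
    simp [mul_assoc]
  simp only [hinv, ← Finset.mul_sum, sum_char_conj_mul]
  have h1 := char_one_ne_zero χ
  have hn : (Nat.card G : ℂ) ≠ 0 := Nat.cast_ne_zero.mpr Nat.card_pos.ne'
  field_simp

/-! ## Orthogonality -/

variable {M : Ideal Cfsg.AlgInt} [M.IsMaximal] {p : ℕ}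

theorem trace_twoSided_blockIdemR [Fintype G] {B : Set (Cfsg.IrrCharacter G)}
    (hB : Cfsg.IsPBlock M B) (g h : G) :
    ((LinearMap.trace (localRing M) (MonoidAlgebra (localRing M) G)
      (twoSided (localRing M) (g, h) * LinearMap.mulLeft (localRing M) (blockIdemR hB).1) :
        localRing M) : ℂ) = ∑ᶠ χ ∈ B, (χ : G → ℂ) g * (χ : G → ℂ) h⁻¹ := by
  rw [trace_twoSided_mulLeft (blockIdemR hB).2, ← sum_blockCoeff_conj]
  push_cast
  exact Finset.sum_congr rfl fun v _ => coe_coeff_blockIdemR hB _

/-- For a permutation of `p`-power order without fixed points there is a set meeting every orbit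
in one class of exponents modulo `p`. -/
theorem exists_orbit_class {X : Type v} [Finite X] (hp : p.Prime) (π : Equiv.Perm X) {k : ℕ}
    (hk : π ^ p ^ k = 1) (hfix : ∀ x, π x ≠ x) :
    ∃ S : X → Prop, (∀ x, S ((π ^ p) x) ↔ S x) ∧ ∀ x, ∃! i : ℕ, i < p ∧ S ((π⁻¹ ^ i) x) := by
  classical
  letI : Setoid X := Equiv.Perm.SameCycle.setoid π
  set r : X → X := fun x => Quotient.out (Quotient.mk _ x) with hr
  have hrx : ∀ x, Equiv.Perm.SameCycle π (r x) x := fun x =>
    Quotient.exact (Quotient.out_eq (Quotient.mk (Equiv.Perm.SameCycle.setoid π) x))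
  have hrs : ∀ x y, Equiv.Perm.SameCycle π x y → r x = r y := fun x y h => by
    simp only [hr]
    exact congrArg Quotient.out (Quotient.sound h)
  -- only multiples of `p` fix a point
  have hper : ∀ (x : X) (a : ℤ), (π ^ a) x = x → (p : ℤ) ∣ a := by
    intro x a ha
    by_contra hd
    have hcop : IsCoprime ((p ^ k : ℕ) : ℤ) a := by
      push_cast
      exact ((Nat.prime_iff_prime_int.mp hp).coprime_iff_not_dvd.mpr hd).pow_left
    obtain ⟨u, w, huw⟩ := hcop
    refine hfix x ?_
    have h1 : π ^ (1 : ℤ) = (π ^ a) ^ w := by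
      rw [← huw, zpow_add, ← zpow_mul, mul_comm u, zpow_mul, zpow_natCast, hk, one_zpow, one_mul,
        mul_comm]
    have h2 : ∀ n : ℤ, ((π ^ a) ^ n) x = x := fun n => by
      induction n using Int.induction_on with
      | zero => simp
      | succ n ih => rw [zpow_add_one, Equiv.Perm.mul_apply, ha, ih]
      | pred n ih =>
        have : (π ^ a)⁻¹ x = x := by rw [Equiv.Perm.inv_eq_iff_eq]; exact ha.symm
        rw [zpow_sub_one, Equiv.Perm.mul_apply, this, ih]
    rw [← zpow_one π, h1, h2]
  have key : ∀ (x : X) (a : ℤ) (i : ℤ), (π ^ a) (r x) = x →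
      ((∃ b : ℤ, (p : ℤ) ∣ b ∧ (π ^ b) (r ((π ^ i) x)) = (π ^ i) x) ↔ (p : ℤ) ∣ a + i) := by
    intro x a i ha
    have hrr : r ((π ^ i) x) = r x := hrs _ _ (Equiv.Perm.sameCycle_zpow_left.mpr
      (Equiv.Perm.SameCycle.refl π x))
    rw [hrr]
    have hai : (π ^ (a + i)) (r x) = (π ^ i) x := by
      rw [add_comm, zpow_add, Equiv.Perm.mul_apply, ha]
    constructor
    · rintro ⟨b, hb, hbx⟩
      have h0 : (π ^ (a + i - b)) (r x) = r x := by
        rw [show a + i - b = -b + (a + i) by ring, zpow_add, Equiv.Perm.mul_apply, hai, ← hbx,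
          ← Equiv.Perm.mul_apply, ← zpow_add, neg_add_cancel, zpow_zero, Equiv.Perm.one_apply]
      simpa using dvd_add (hper _ _ h0) hb
    · exact fun hd => ⟨a + i, hd, hai⟩
  refine ⟨fun x => ∃ b : ℤ, (p : ℤ) ∣ b ∧ (π ^ b) (r x) = x, fun x => ?_, fun x => ?_⟩
  · obtain ⟨a, ha⟩ := hrx x
    have h1 := key x a (p : ℤ) ha
    have h2 := key x a 0 ha
    rw [zpow_natCast] at h1
    rw [zpow_zero, add_zero] at h2
    refine h1.trans (Iff.trans ?_ h2.symm)
    exact ⟨fun h => by simpa using dvd_sub h (dvd_refl _), fun h => dvd_add h (dvd_refl _)⟩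
  · obtain ⟨a, ha⟩ := hrx x
    have hp0 : (0 : ℤ) < p := by exact_mod_cast hp.pos
    have hinv : ∀ i : ℕ, π⁻¹ ^ i = π ^ (-(i : ℤ)) := fun i => by
      rw [zpow_neg, zpow_natCast, inv_pow]
    refine ⟨(a % (p : ℤ)).toNat, ⟨?_, ?_⟩, ?_⟩
    · have := Int.emod_lt_of_pos a hp0
      have := Int.emod_nonneg a hp0.ne'
      omega
    · show ∃ b : ℤ, _
      rw [hinv, key x a _ ha, Int.toNat_of_nonneg (Int.emod_nonneg a hp0.ne'), ← sub_eq_add_neg]
      exact Int.dvd_self_sub_of_emod_eq rfl
    · rintro i ⟨hi, hS⟩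
      change ∃ b : ℤ, _ at hS
      rw [hinv, key x a _ ha, ← sub_eq_add_neg] at hS
      have h1 : (i : ℤ) % p = a % p := Int.emod_eq_emod_iff_emod_sub_eq_zero.mpr <|
        Int.emod_eq_zero_of_dvd (dvd_sub_comm.mp hS)
      rw [Int.emod_eq_of_lt (by omega) (by exact_mod_cast hi)] at h1
      omega

/-- **Block orthogonality.** If the `p`-parts of `g` and `h` are not conjugate, then the sum
over a block of `χ g * χ h⁻¹` vanishes. -/
theorem sum_block_eq_zero (hM : Cfsg.IsPModular p M) {g h x y : G} (hx : Cfsg.IsPPart p g x)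
    (hy : Cfsg.IsPPart p h y) (hne : ¬ IsConj x y) {B : Set (Cfsg.IrrCharacter G)}
    (hB : Cfsg.IsPBlock M B) : ∑ᶠ χ ∈ B, (χ : G → ℂ) g * (χ : G → ℂ) h⁻¹ = 0 := by
  classical
  haveI := Fintype.ofFinite G
  obtain ⟨g', hg, hcg, ⟨i, hi⟩, hg'⟩ := hx
  obtain ⟨h', hh, hch, ⟨j, hj⟩, hh'⟩ := hy
  set π : Equiv.Perm G :=
    { toFun := fun v => x * v * y⁻¹
      invFun := fun v => x⁻¹ * v * y
      left_inv := fun v => by simp [mul_assoc]
      right_inv := fun v => by simp [mul_assoc] } with hπ
  have hπpow : ∀ (n : ℕ) (v : G), (π ^ n) v = x ^ n * v * (y ^ n)⁻¹ := by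
    intro n
    induction n with
    | zero => simp
    | succ n ih =>
      intro v
      rw [pow_succ', Equiv.Perm.mul_apply, ih, pow_succ' x, pow_succ' y, mul_inv_rev]
      simp only [hπ, Equiv.coe_fn_mk, mul_assoc]
  have hπk : π ^ p ^ (i + j) = 1 := by
    refine Equiv.ext fun v => ?_
    rw [hπpow, orderOf_dvd_iff_pow_eq_one.mp (hi ▸ pow_dvd_pow p (Nat.le_add_right i j)),
      orderOf_dvd_iff_pow_eq_one.mp (hj ▸ pow_dvd_pow p (Nat.le_add_left j i))]
    simp
  have hfix : ∀ v, π v ≠ v := fun v hv =>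
    hne (isConj_iff.mpr ⟨v⁻¹, by
      change x * v * y⁻¹ = v at hv
      rw [inv_inv, mul_assoc, mul_inv_eq_iff_eq_mul.mp hv, inv_mul_cancel_left]⟩)
  obtain ⟨S, hS, hS'⟩ := exists_orbit_class hM.1 π hπk hfix
  set R := localRing M
  have htp : ∀ (n : ℕ) (v : G) (r : R),
      (twoSided R (x, y) ^ n) (single v r) = single ((π ^ n) v) r := fun n v r => by
    rw [← map_pow, Prod.pow_mk, twoSided_single, hπpow]
  have hinv : twoSided R (x⁻¹, y⁻¹) = permEnd R π⁻¹ := endExt R fun v r => by
    rw [twoSided_single, permEnd_single, inv_inv]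
    rfl
  have hinvp : ∀ (n : ℕ) (v : G) (r : R),
      (twoSided R (x⁻¹, y⁻¹) ^ n) (single v r) = single ((π⁻¹ ^ n) v) r := fun n => by
    induction n with
    | zero => simp
    | succ n ih =>
      intro v r
      rw [pow_succ', Module.End.mul_apply, ih, hinv, permEnd_single, pow_succ' π⁻¹,
        Equiv.Perm.mul_apply]
  have hH : IsHigman p (twoSided R (x, y)) (twoSided R (x⁻¹, y⁻¹)) (setProj S) :=
    { right_inv := by rw [← map_mul, Prod.mk_mul_mk, mul_inv_cancel, mul_inv_cancel]; exact map_one _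
      left_inv := by rw [← map_mul, Prod.mk_mul_mk, inv_mul_cancel, inv_mul_cancel]; exact map_one _
      comm := by
        refine endExt R fun v r => ?_
        rw [Module.End.mul_apply, Module.End.mul_apply, htp, setProj_single, setProj_single]
        by_cases hv : S v
        · rw [if_pos ((hS v).mpr hv), if_pos hv, htp]
        · rw [if_neg (fun h => hv ((hS v).mp h)), if_neg hv, map_zero]
      sum_eq := by
        refine endExt R fun v r => ?_
        obtain ⟨i₀, ⟨hi₀, hSi₀⟩, huniq⟩ := hS' v
        rw [LinearMap.sum_apply, Finset.sum_eq_single i₀]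
        · rw [Module.End.mul_apply, Module.End.mul_apply, hinvp, setProj_single, if_pos hSi₀, htp,
            Module.End.one_apply, ← Equiv.Perm.mul_apply, inv_pow, mul_inv_cancel,
            Equiv.Perm.one_apply]
        · intro n hn hne'
          rw [Module.End.mul_apply, Module.End.mul_apply, hinvp, setProj_single,
            if_neg fun h => hne' (huniq n ⟨Finset.mem_range.mp hn, h⟩), map_zero]
        · exact fun h => absurd (Finset.mem_range.mpr hi₀) h }
  haveI : Module.Free R (MonoidAlgebra R G) :=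
    Module.Free.of_equiv (MonoidAlgebra.coeffLinearEquiv R).symm
  haveI : Module.Finite R (MonoidAlgebra R G) :=
    Module.Finite.equiv (MonoidAlgebra.coeffLinearEquiv R).symm
  have hcx : Commute x g' := hcg
  have key := trace_eq_zero_of_isHigman_twist hM (σ := twoSided R (x, y))
    (D := twoSided R (g', h')) (E := LinearMap.mulLeft R (blockIdemR hB).1) (k := i + j)
    (m := orderOf g' * orderOf h') ?_ hH ?_ (commute_twoSided_mulLeft (blockIdemR hB).2 x y) ?_ ?_ ?_
    (commute_twoSided_mulLeft (blockIdemR hB).2 g' h')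
  · rw [← map_mul, Prod.mk_mul_mk, hg, hh] at key
    rw [← trace_twoSided_blockIdemR hB g h, key]
    rfl
  · rw [← map_pow, Prod.pow_mk,
      orderOf_dvd_iff_pow_eq_one.mp (hi ▸ pow_dvd_pow p (Nat.le_add_right i j)),
      orderOf_dvd_iff_pow_eq_one.mp (hj ▸ pow_dvd_pow p (Nat.le_add_left j i))]
    exact map_one _
  · refine LinearMap.ext fun z => ?_
    simp only [Module.End.mul_apply, LinearMap.mulLeft_apply, ← mul_assoc]
    rw [← Subalgebra.coe_mul, blockIdemR_mul_self]
  · exact fun hd => (hM.1.dvd_mul.mp hd).elim hg' hh'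
  · rw [← map_pow, Prod.pow_mk, orderOf_dvd_iff_pow_eq_one.mp (dvd_mul_right _ _),
      orderOf_dvd_iff_pow_eq_one.mp (dvd_mul_left _ _)]
    exact map_one _
  · exact (Prod.commute_iff.mpr ⟨hcx, hch⟩).map _

/-- Weak block orthogonality. -/
theorem weak_orthogonality (hM : Cfsg.IsPModular p M) {B : Set (Cfsg.IrrCharacter G)}
    (hB : Cfsg.IsPBlock M B) {x y : G} (hx : ¬ p ∣ orderOf x) (hy : p ∣ orderOf y) :
    ∑ᶠ χ ∈ B, (χ : G → ℂ) x * conj ((χ : G → ℂ) y) = 0 := by
  obtain ⟨u, hu⟩ := exists_isPPart hM.1 y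
  have hne : ¬ IsConj (1 : G) u := fun h => isPPart_ne_one hu hy (isConj_one_right.mp h)
  rw [← sum_block_eq_zero hM (isPPart_one_of_regular hx) hu hne hB]
  refine finsum_congr fun χ => finsum_congr fun _ => ?_
  rw [apply_inv (isCharacter_irr χ)]

/-- The idempotent coefficient of a block vanishes on `p`-singular elements. -/
theorem blockCoeff_eq_zero_of_dvd (hM : Cfsg.IsPModular p M) {B : Set (Cfsg.IrrCharacter G)}
    (hB : Cfsg.IsPBlock M B) {y : G} (hy : p ∣ orderOf y) : Cfsg.blockCoeff B y = 0 := by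
  rw [Cfsg.blockCoeff, weak_orthogonality hM hB (by simp [hM.1.ne_one]) hy, mul_zero]

end Cfsg.Agent.Lib.Blocks
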