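import Cfsg.Agent.Lib.Blocks.ContribBase
import Cfsg.Agent.Lib.Blocks.Orthogonality

/-!
# The regular inner products inside a block

For a block `B` the matrix `contribN` lives on `B`, its row at `χ` is divisible by the `p`-part of
the degrees, and modulo `p` it is proportional to the `p'`-parts of the degrees.  A character of
height zero has every entry of exact valuation.
-/

namespace Cfsg.Agent.Lib.Blocks.Contrib

open Cfsg.Agent.Lib.Characters.Basic Cfsg.Agent.Lib.Characters.Complete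
open Cfsg.Agent.Lib.H80.ClassMult
open scoped ComplexConjugate

universe u

variable {G : Type u} [Group G]

/-- The exponent of `p` in the degree. -/
noncomputable def vdeg (p : ℕ) (χ : Cfsg.IrrCharacter G) : ℕ :=
  (Cfsg.charDegree (χ : G → ℂ)).factorization p

/-- The part of the degree prime to `p`. -/
noncomputable def udeg (p : ℕ) (χ : Cfsg.IrrCharacter G) : ℕ :=
  Cfsg.charDegree (χ : G → ℂ) / p ^ vdeg p χ

/-- The least exponent of `p` in the degrees of the members of `B`. -/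
noncomputable def minVdeg (p : ℕ) (B : Set (Cfsg.IrrCharacter G)) : ℕ :=
  sInf (vdeg p '' B)

/-- The members of `B` as a finset. -/
noncomputable def bset [Finite G] (B : Set (Cfsg.IrrCharacter G)) :
    Finset (Cfsg.IrrCharacter G) :=
  (Set.toFinite B).toFinset

@[simp] theorem mem_bset [Finite G] {B : Set (Cfsg.IrrCharacter G)} {χ : Cfsg.IrrCharacter G} :
    χ ∈ bset B ↔ χ ∈ B :=
  Set.Finite.mem_toFinset _

theorem finsum_mem_bset [Finite G] {A : Type*} [AddCommMonoid A]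
    (B : Set (Cfsg.IrrCharacter G)) (f : Cfsg.IrrCharacter G → A) :
    ∑ᶠ χ ∈ B, f χ = ∑ χ ∈ bset B, f χ :=
  finsum_mem_eq_finite_toFinset_sum _ _

theorem card_bset [Finite G] (B : Set (Cfsg.IrrCharacter G)) :
    (bset B).card = Nat.card B := by
  rw [bset, ← Set.ncard_eq_toFinset_card B, Set.ncard]
  rfl

theorem pow_vdeg_mul_udeg (p : ℕ) (χ : Cfsg.IrrCharacter G) :
    p ^ vdeg p χ * udeg p χ = Cfsg.charDegree (χ : G → ℂ) :=
  Nat.ordProj_mul_ordCompl_eq_self _ _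

theorem not_dvd_udeg {p : ℕ} (hp : p.Prime) (χ : Cfsg.IrrCharacter G) : ¬ p ∣ udeg p χ :=
  Nat.not_dvd_ordCompl hp (deg_spec χ).1.ne'

theorem udeg_ne_zero {p : ℕ} (hp : p.Prime) (χ : Cfsg.IrrCharacter G) : udeg p χ ≠ 0 :=
  fun h => not_dvd_udeg hp χ (h ▸ dvd_zero p)

theorem apply_one_eq (p : ℕ) (χ : Cfsg.IrrCharacter G) :
    (χ : G → ℂ) 1 = (p : ℂ) ^ vdeg p χ * (udeg p χ : ℂ) := by
  rw [(deg_spec χ).2, ← pow_vdeg_mul_udeg p χ]
  push_cast
  rfl

theorem minVdeg_le {p : ℕ} {B : Set (Cfsg.IrrCharacter G)} {χ : Cfsg.IrrCharacter G}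
    (hχ : χ ∈ B) : minVdeg p B ≤ vdeg p χ :=
  Nat.sInf_le ⟨χ, hχ, rfl⟩

theorem vdeg_le [Finite G] (p : ℕ) (χ : Cfsg.IrrCharacter G) :
    vdeg p χ ≤ (Nat.card G).factorization p :=
  (Nat.factorization_le_iff_dvd (deg_spec χ).1.ne' Nat.card_pos.ne').mpr
    (charDegree_dvd_card χ) p

theorem blockDefect_eq (p : ℕ) (B : Set (Cfsg.IrrCharacter G)) :
    Cfsg.blockDefect p B = (Nat.card G).factorization p - minVdeg p B := rfl

theorem blockHeight_eq (p : ℕ) (B : Set (Cfsg.IrrCharacter G)) (χ : Cfsg.IrrCharacter G) :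
    Cfsg.blockHeight p B (χ : G → ℂ) = vdeg p χ - minVdeg p B := rfl

variable [Finite G] {p : ℕ} [Fact p.Prime] {M : Ideal Cfsg.AlgInt} [M.IsMaximal]

theorem exists_height_zero {B : Set (Cfsg.IrrCharacter G)} (hB : Cfsg.IsPBlock M B) :
    ∃ χ ∈ B, vdeg p χ = minVdeg p B :=
  Nat.sInf_mem ((isPBlock_nonempty hB).image (vdeg p))

theorem blockHeight_eq_zero_iff {B : Set (Cfsg.IrrCharacter G)} {χ : Cfsg.IrrCharacter G}
    (hχ : χ ∈ B) : Cfsg.blockHeight p B (χ : G → ℂ) = 0 ↔ vdeg p χ = minVdeg p B := by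
  rw [blockHeight_eq]
  have := minVdeg_le (p := p) hχ
  omega

theorem minVdeg_le_factorization {B : Set (Cfsg.IrrCharacter G)} (hB : Cfsg.IsPBlock M B) :
    minVdeg p B ≤ (Nat.card G).factorization p := by
  obtain ⟨χ, -, hχ⟩ := exists_height_zero (p := p) hB
  exact hχ ▸ vdeg_le p χ

theorem minVdeg_add_blockDefect {B : Set (Cfsg.IrrCharacter G)} (hB : Cfsg.IsPBlock M B) :
    minVdeg p B + Cfsg.blockDefect p B = (Nat.card G).factorization p := by
  rw [blockDefect_eq]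
  have := minVdeg_le_factorization (p := p) hB
  omega

/-! ## Class functions with local integral values -/

/-- The central character extends to class functions with local integral values. -/
theorem sum_div_mem [Fintype G] {f : G → ℂ} (hf : Cfsg.IsClassFunction G f)
    (hfR : ∀ g, f g ∈ localRing M) (χ : Cfsg.IrrCharacter G) :
    (∑ g : G, f g * (χ : G → ℂ) g) / (χ : G → ℂ) 1 ∈ localRing M ∧
      ∀ {B : Set (Cfsg.IrrCharacter G)}, Cfsg.IsPBlock M B → χ ∈ B → ∀ φ ∈ B,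
        Cfsg.MemLocalIdeal M ((∑ g : G, f g * (χ : G → ℂ) g) / (χ : G → ℂ) 1 -
          (∑ g : G, f g * (φ : G → ℂ) g) / (φ : G → ℂ) 1) := by
  set z := ofClassFun (fun g => (⟨f g, hfR g⟩ : localRing M))
    (fun a g => Subtype.ext (hf g a))
  have key : ∀ ψ : Cfsg.IrrCharacter G,
      (omegaR M ψ z : ℂ) = (∑ g : G, f g * (ψ : G → ℂ) g) / (ψ : G → ℂ) 1 := by
    intro ψ
    rw [coe_omegaR, omega_apply, lin_apply]
    refine congrArg (· / _) (Finset.sum_congr rfl fun g _ => ?_)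
    rw [coeff_mapCenter]
    rfl
  refine ⟨key χ ▸ SetLike.coe_mem _, fun {B} hB hχ φ hφ => ?_⟩
  have h := congrArg (fun F => F (mapCenter (residue M) z)) (omegaBar_eq_of_mem hB hχ hφ)
  simp only [omegaBar_mapCenter] at h
  rw [← key, ← key]
  exact memLocalIdeal_sub_iff.mpr h

/-- The regular part of the conjugate of a character as a class function. -/
theorem regular_conj_classFun (ψ : Cfsg.IrrCharacter G) :
    Cfsg.IsClassFunction G (fun g => if p ∣ orderOf g then (0 : ℂ) else (ψ : G → ℂ) g⁻¹) := by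
  intro g h
  dsimp only
  rw [show (ψ : G → ℂ) (h * g * h⁻¹)⁻¹ = (ψ : G → ℂ) g⁻¹ by
      rw [show (h * g * h⁻¹)⁻¹ = h * g⁻¹ * h⁻¹ by simp [mul_assoc]]
      exact isClassFunction_irr ψ g⁻¹ h,
    show h * g * h⁻¹ = MulAut.conj h g from rfl, (MulAut.conj h).orderOf_eq g]

theorem regular_conj_mem (ψ : Cfsg.IrrCharacter G) (g : G) :
    (if p ∣ orderOf g then (0 : ℂ) else (ψ : G → ℂ) g⁻¹) ∈ localRing M := by
  split_ifs
  · exact zero_mem _
  · exact mem_localRing_of_isIntegral (isIntegral_apply (isCharacter_irr ψ) _)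

theorem sum_regular_conj [Fintype G] (χ ψ : Cfsg.IrrCharacter G) :
    ∑ g : G, (if p ∣ orderOf g then (0 : ℂ) else (ψ : G → ℂ) g⁻¹) * (χ : G → ℂ) g =
      regSum p (χ : G → ℂ) (ψ : G → ℂ) := by
  rw [regSum_eq_sum]
  exact Finset.sum_congr rfl fun g _ => by split_ifs <;> simp [mul_comm]

/-! ## Divisibility and congruence -/

variable (hM : Cfsg.IsPModular p M)
include hM

theorem ratio_mem_localRing (a b : ℕ) (hb : ¬ p ∣ b) : (a : ℂ) / b ∈ localRing M := by
  rw [div_eq_mul_inv]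
  exact mul_mem (natCast_mem _ a) (natCast_inv_mem_localRing hM hb)

theorem pow_vdeg_dvd_contribN (χ ψ : Cfsg.IrrCharacter G) :
    (p : ℤ) ^ vdeg p χ ∣ contribN p χ ψ := by
  letI := Fintype.ofFinite G
  have hp : p.Prime := Fact.out
  apply pow_dvd_of_div_mem hM
  have h := (sum_div_mem (M := M) (regular_conj_classFun (p := p) ψ) (regular_conj_mem ψ) χ).1
  rw [sum_regular_conj, regSum_eq_contribN, apply_one_eq p χ] at h
  have h2 := mul_mem h (ratio_mem_localRing hM (udeg p χ) (primeToCard p G)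
    (not_dvd_primeToCard hp))
  convert h2 using 1
  have : (udeg p χ : ℂ) ≠ 0 := Nat.cast_ne_zero.mpr (udeg_ne_zero hp χ)
  have : (primeToCard p G : ℂ) ≠ 0 := Nat.cast_ne_zero.mpr (primeToCard_pos p).ne'
  have : (p : ℂ) ≠ 0 := Nat.cast_ne_zero.mpr hp.ne_zero
  field_simp

theorem pow_minVdeg_dvd_contribN {B : Set (Cfsg.IrrCharacter G)} {χ : Cfsg.IrrCharacter G}
    (hχ : χ ∈ B) (ψ : Cfsg.IrrCharacter G) : (p : ℤ) ^ minVdeg p B ∣ contribN p χ ψ :=
  (pow_dvd_pow _ (minVdeg_le hχ)).trans (pow_vdeg_dvd_contribN hM χ ψ)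

theorem pow_vdeg_dvd_contribN_right (χ ψ : Cfsg.IrrCharacter G) :
    (p : ℤ) ^ vdeg p ψ ∣ contribN p χ ψ :=
  contribN_comm p ψ χ ▸ pow_vdeg_dvd_contribN hM ψ χ

variable {B : Set (Cfsg.IrrCharacter G)} (hB : Cfsg.IsPBlock M B)
include hB

/-- The row quotients are proportional to the `p'`-parts of the degrees modulo `p`. -/
theorem contribN_congr {χ φ : Cfsg.IrrCharacter G} (hχ : χ ∈ B) (hφ : φ ∈ B)
    (ψ : Cfsg.IrrCharacter G) {r s : ℤ} (hr : contribN p χ ψ = (p : ℤ) ^ vdeg p χ * r)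
    (hs : contribN p φ ψ = (p : ℤ) ^ vdeg p φ * s) :
    (p : ℤ) ∣ r * udeg p φ - s * udeg p χ := by
  letI := Fintype.ofFinite G
  have hp : p.Prime := Fact.out
  rw [← memLocalIdeal_intCast_iff hM]
  have h := (sum_div_mem (M := M) (regular_conj_classFun (p := p) ψ) (regular_conj_mem ψ) χ).2
    hB hχ φ hφ
  rw [sum_regular_conj, sum_regular_conj, regSum_eq_contribN, regSum_eq_contribN,
    apply_one_eq p χ, apply_one_eq p φ, hr, hs] at h
  have h2 := memLocalIdeal_mul_right h (ratio_mem_localRing hM (udeg p χ * udeg p φ)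
    (primeToCard p G) (not_dvd_primeToCard hp))
  convert h2 using 1
  have : (udeg p χ : ℂ) ≠ 0 := Nat.cast_ne_zero.mpr (udeg_ne_zero hp χ)
  have : (udeg p φ : ℂ) ≠ 0 := Nat.cast_ne_zero.mpr (udeg_ne_zero hp φ)
  have : (primeToCard p G : ℂ) ≠ 0 := Nat.cast_ne_zero.mpr (primeToCard_pos p).ne'
  have : (p : ℂ) ≠ 0 := Nat.cast_ne_zero.mpr hp.ne_zero
  push_cast
  field_simp

/-- Exact valuation spreads along a column of a block. -/
theorem dvd_succ_iff {χ φ : Cfsg.IrrCharacter G} (hχ : χ ∈ B) (hφ : φ ∈ B)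
    (ψ : Cfsg.IrrCharacter G) :
    (p : ℤ) ^ (vdeg p χ + 1) ∣ contribN p χ ψ ↔ (p : ℤ) ^ (vdeg p φ + 1) ∣ contribN p φ ψ := by
  have hp : p.Prime := Fact.out
  obtain ⟨r, hr⟩ := pow_vdeg_dvd_contribN hM χ ψ
  obtain ⟨s, hs⟩ := pow_vdeg_dvd_contribN hM φ ψ
  have h := contribN_congr hM hB hχ hφ ψ hr hs
  have hp0 : ∀ n : ℕ, (p : ℤ) ^ n ≠ 0 := fun n => pow_ne_zero _ (mod_cast hp.ne_zero)
  rw [hr, hs, pow_succ, pow_succ, mul_dvd_mul_iff_left (hp0 _), mul_dvd_mul_iff_left (hp0 _)]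
  have hu : ∀ θ : Cfsg.IrrCharacter G, ¬ (p : ℤ) ∣ (udeg p θ : ℤ) := fun θ =>
    mod_cast not_dvd_udeg hp θ
  have hpZ : Prime (p : ℤ) := Nat.prime_iff_prime_int.mp hp
  constructor
  · intro hd
    have : (p : ℤ) ∣ s * udeg p χ := by
      have := dvd_sub (hd.mul_right (udeg p φ : ℤ)) h
      simpa using this
    exact (hpZ.dvd_or_dvd this).resolve_right (hu χ)
  · intro hd
    have : (p : ℤ) ∣ r * udeg p φ := by
      have := dvd_add h (hd.mul_right (udeg p χ : ℤ))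
      simpa using this
    exact (hpZ.dvd_or_dvd this).resolve_right (hu φ)

/-! ## Different blocks -/

/-- The regular restriction of a member of a block, through the kernel of the block. -/
theorem regular_part_eq [Fintype G] {χ : Cfsg.IrrCharacter G} (hχ : χ ∈ B) (x : G) :
    (if p ∣ orderOf x then 0 else (χ : G → ℂ) x) = (Nat.card G : ℂ)⁻¹ *
      ∑ y : G, (if p ∣ orderOf y then 0 else
        ∑ φ ∈ bset B, (φ : G → ℂ) x * (conj ((φ : G → ℂ) y) * (χ : G → ℂ) y)) := by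
  have hK : ∀ a b : G, ¬ p ∣ orderOf a → p ∣ orderOf b →
      ∑ φ ∈ bset B, (φ : G → ℂ) a * conj ((φ : G → ℂ) b) = 0 := fun a b ha hb =>
    (finsum_mem_bset B _).symm.trans (weak_orthogonality hM hB ha hb)
  by_cases hx : p ∣ orderOf x
  · rw [if_pos hx, Finset.sum_eq_zero, mul_zero]
    intro y _
    by_cases hy : p ∣ orderOf y
    · rw [if_pos hy]
    · rw [if_neg hy]
      have := congrArg conj (hK y x hy hx)
      simp only [map_sum, map_mul, Complex.conj_conj, map_zero] at this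
      simp only [← mul_assoc, ← Finset.sum_mul]
      have e : ∑ φ ∈ bset B, (φ : G → ℂ) x * conj ((φ : G → ℂ) y) = 0 := by
        rw [← this]
        exact Finset.sum_congr rfl fun φ _ => mul_comm _ _
      rw [e, zero_mul]
  · rw [if_neg hx]
    have h1 : ∀ y : G, (if p ∣ orderOf y then 0 else
        ∑ φ ∈ bset B, (φ : G → ℂ) x * (conj ((φ : G → ℂ) y) * (χ : G → ℂ) y)) =
        ∑ φ ∈ bset B, (φ : G → ℂ) x * (conj ((φ : G → ℂ) y) * (χ : G → ℂ) y) := by
      intro y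
      by_cases hy : p ∣ orderOf y
      · rw [if_pos hy]
        simp only [← mul_assoc, ← Finset.sum_mul, hK x y hx hy, zero_mul]
      · rw [if_neg hy]
    simp only [h1]
    rw [Finset.sum_comm, Finset.mul_sum]
    classical
    have h2 : ∀ φ ∈ bset B, (Nat.card G : ℂ)⁻¹ *
        ∑ y : G, (φ : G → ℂ) x * (conj ((φ : G → ℂ) y) * (χ : G → ℂ) y) =
        if χ = φ then (φ : G → ℂ) x else 0 := by
      intro φ _
      have := classInner_irr χ φ
      rw [Cfsg.classInner] at this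
      rw [← Finset.mul_sum, ← mul_assoc, mul_comm (Nat.card G : ℂ)⁻¹, mul_assoc,
        Finset.sum_congr rfl fun y _ => mul_comm (conj ((φ : G → ℂ) y)) ((χ : G → ℂ) y), this]
      split_ifs <;> simp
    rw [Finset.sum_congr rfl h2, Finset.sum_ite_eq, if_pos (mem_bset.mpr hχ)]

theorem contribN_eq_zero {χ ψ : Cfsg.IrrCharacter G} (hχ : χ ∈ B) (hψ : ψ ∉ B) :
    contribN p χ ψ = 0 := by
  classical
  letI := Fintype.ofFinite G
  have h : regSum p (χ : G → ℂ) (ψ : G → ℂ) = 0 := by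
    rw [regSum_eq_sum, Finset.sum_congr rfl fun x _ => show
      (if p ∣ orderOf x then 0 else (χ : G → ℂ) x * (ψ : G → ℂ) x⁻¹) =
        (if p ∣ orderOf x then 0 else (χ : G → ℂ) x) * conj ((ψ : G → ℂ) x) by
      rw [apply_inv (isCharacter_irr ψ)]; split_ifs <;> simp]
    simp only [regular_part_eq hM hB hχ, mul_assoc]
    rw [← Finset.mul_sum]
    simp only [Finset.sum_mul]
    rw [Finset.sum_comm, Finset.sum_eq_zero, mul_zero]
    intro y _
    by_cases hy : p ∣ orderOf y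
    · simp [hy]
    · simp only [if_neg hy, Finset.sum_mul]
      rw [Finset.sum_comm]
      refine Finset.sum_eq_zero fun φ hφ => ?_
      have hne : φ ≠ ψ := fun e => hψ (e ▸ mem_bset.mp hφ)
      have := classInner_irr_of_ne hne
      rw [Cfsg.classInner, mul_eq_zero, inv_eq_zero, Nat.cast_eq_zero] at this
      have h0 := this.resolve_left Nat.card_pos.ne'
      calc ∑ x : G, (φ : G → ℂ) x * (conj ((φ : G → ℂ) y) * (χ : G → ℂ) y) * conj ((ψ : G → ℂ) x)
          = (conj ((φ : G → ℂ) y) * (χ : G → ℂ) y) *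
              ∑ x : G, (φ : G → ℂ) x * conj ((ψ : G → ℂ) x) := by
            rw [Finset.mul_sum]; exact Finset.sum_congr rfl fun x _ => by ring
        _ = 0 := by rw [h0, mul_zero]
  rw [regSum_eq_contribN] at h
  exact_mod_cast (mul_eq_zero.mp h).resolve_left (Nat.cast_ne_zero.mpr (primeToCard_pos p).ne')

theorem sum_bset_apply {χ : Cfsg.IrrCharacter G} (hχ : χ ∈ B) (g : G) :
    ∑ φ ∈ bset B, (contribN p χ φ : ℂ) * (φ : G → ℂ) g =
      (p : ℂ) ^ (Nat.card G).factorization p *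
        (if p ∣ orderOf g then 0 else (χ : G → ℂ) g) := by
  letI := Fintype.ofFinite (Cfsg.IrrCharacter G)
  rw [← sum_contribN_apply p χ g]
  refine Finset.sum_subset (Finset.subset_univ _) fun φ _ hφ => ?_
  rw [contribN_eq_zero hM hB hχ (fun h => hφ (mem_bset.mpr h)), Int.cast_zero, zero_mul]

theorem sum_bset_mul {χ : Cfsg.IrrCharacter G} (hχ : χ ∈ B) (ψ : Cfsg.IrrCharacter G) :
    ∑ φ ∈ bset B, contribN p χ φ * contribN p φ ψ =
      (p : ℤ) ^ (Nat.card G).factorization p * contribN p χ ψ := by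
  letI := Fintype.ofFinite (Cfsg.IrrCharacter G)
  rw [← sum_contribN_mul p χ ψ]
  refine Finset.sum_subset (Finset.subset_univ _) fun φ _ hφ => ?_
  rw [contribN_eq_zero hM hB hχ (fun h => hφ (mem_bset.mpr h)), zero_mul]

theorem sum_bset_sq {χ : Cfsg.IrrCharacter G} (hχ : χ ∈ B) :
    ∑ φ ∈ bset B, contribN p χ φ ^ 2 =
      (p : ℤ) ^ (Nat.card G).factorization p * contribN p χ χ := by
  rw [← sum_bset_mul hM hB hχ χ]
  exact Finset.sum_congr rfl fun φ _ => by rw [pow_two, contribN_comm p φ χ]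

theorem sum_bset_degree {χ : Cfsg.IrrCharacter G} (hχ : χ ∈ B) :
    ∑ φ ∈ bset B, contribN p χ φ * (Cfsg.charDegree (φ : G → ℂ) : ℤ) =
      (p : ℤ) ^ (Nat.card G).factorization p * (Cfsg.charDegree (χ : G → ℂ) : ℤ) := by
  have h := sum_bset_apply hM hB hχ 1
  rw [if_neg (by simp [(Fact.out : p.Prime).ne_one]), (deg_spec χ).2] at h
  simp only [(deg_spec _).2] at h
  exact_mod_cast h

/-- Restricting to a Sylow subgroup writes the degrees as combinations of the rows. -/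
theorem exists_degree_expansion :
    ∃ n : Cfsg.IrrCharacter G → ℤ, ∀ χ ∈ B,
      ∑ φ ∈ bset B, contribN p χ φ * n φ = (Cfsg.charDegree (χ : G → ℂ) : ℤ) := by
  classical
  letI := Fintype.ofFinite G
  have hp : p.Prime := Fact.out
  obtain ⟨P⟩ : Nonempty (Sylow p G) := inferInstance
  letI := Fintype.ofFinite (P : Subgroup G)
  choose n hn using fun φ : Cfsg.IrrCharacter G => exists_sum_subgroup φ (P : Subgroup G)
  refine ⟨fun φ => (n φ : ℤ), fun χ hχ => ?_⟩
  have hreg : ∀ u : (P : Subgroup G), (p ∣ orderOf (u : G)) ↔ u ≠ 1 := by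
    intro u
    obtain ⟨k, hk⟩ := IsPGroup.iff_orderOf.mp P.2 u
    rw [Subgroup.orderOf_coe, hk]
    constructor
    · rintro h rfl
      rw [orderOf_one] at hk
      exact hp.ne_one (Nat.dvd_one.mp (hk ▸ h))
    · intro h
      refine dvd_pow_self p fun h0 => h ?_
      rw [h0, pow_zero] at hk
      exact orderOf_eq_one_iff.mp hk
  have h := Finset.sum_congr rfl
    (fun (u : (P : Subgroup G)) (_ : u ∈ Finset.univ) => sum_bset_apply hM hB hχ (u : G))
  rw [Finset.sum_comm] at h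
  simp only [← Finset.mul_sum, hn] at h
  rw [Finset.sum_eq_single (1 : (P : Subgroup G)) (fun u _ hu => if_pos ((hreg u).mpr hu))
    (fun h => absurd (Finset.mem_univ _) h), if_neg (fun h => (hreg 1).mp h rfl),
    OneMemClass.coe_one, (deg_spec χ).2, P.card_eq_multiplicity, Nat.cast_pow] at h
  have hq : (p : ℂ) ^ (Nat.card G).factorization p ≠ 0 :=
    pow_ne_zero _ (Nat.cast_ne_zero.mpr hp.ne_zero)
  simp only [← mul_assoc, mul_comm _ ((p : ℂ) ^ _)] at h
  simp only [mul_assoc, ← Finset.mul_sum] at h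
  exact_mod_cast mul_left_cancel₀ hq h

/-- The key fact: a row at height zero has exact valuation in every column. -/
theorem not_dvd_contribN {χ ψ : Cfsg.IrrCharacter G} (hχ : χ ∈ B)
    (h0 : vdeg p χ = minVdeg p B) (hψ : ψ ∈ B) :
    ¬ (p : ℤ) ^ (vdeg p ψ + 1) ∣ contribN p χ ψ := by
  have hp : p.Prime := Fact.out
  rw [contribN_comm]
  intro h
  obtain ⟨n, hn⟩ := exists_degree_expansion hM hB
  have hall : ∀ φ ∈ B, (p : ℤ) ^ (minVdeg p B + 1) ∣ contribN p χ φ := fun φ hφ =>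
    (pow_dvd_pow _ (Nat.add_le_add_right (minVdeg_le hφ) 1)).trans
      (contribN_comm p φ χ ▸ (dvd_succ_iff hM hB hψ hφ χ).mp h)
  have hd : (p : ℤ) ^ (minVdeg p B + 1) ∣ (Cfsg.charDegree (χ : G → ℂ) : ℤ) :=
    hn χ hχ ▸ Finset.dvd_sum fun φ hφ => (hall φ (mem_bset.mp hφ)).mul_right _
  rw [← h0, ← pow_vdeg_mul_udeg p χ] at hd
  push_cast at hd
  rw [pow_succ, mul_dvd_mul_iff_left (pow_ne_zero _ (mod_cast hp.ne_zero))] at hd
  exact not_dvd_udeg hp χ (mod_cast hd)

theorem contribN_ne_zero {χ ψ : Cfsg.IrrCharacter G} (hχ : χ ∈ B)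
    (h0 : vdeg p χ = minVdeg p B) (hψ : ψ ∈ B) : contribN p χ ψ ≠ 0 :=
  fun h => not_dvd_contribN hM hB hχ h0 hψ (h ▸ dvd_zero _)

/-- A diagonal entry at positive height is divisible by one more power of `p`. -/
theorem pow_succ_dvd_contribN_self {χ : Cfsg.IrrCharacter G} (hχ : χ ∈ B)
    (h : minVdeg p B < vdeg p χ) : (p : ℤ) ^ (vdeg p χ + 1) ∣ contribN p χ χ := by
  obtain ⟨χ₀, hχ₀, h₀⟩ := exists_height_zero (p := p) hB
  rw [dvd_succ_iff hM hB hχ hχ₀ χ, h₀]
  exact (pow_dvd_pow _ h).trans (pow_vdeg_dvd_contribN_right hM χ₀ χ)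

theorem contribN_self_pos {χ : Cfsg.IrrCharacter G} (hχ : χ ∈ B) : 0 < contribN p χ χ := by
  obtain ⟨χ₀, hχ₀, h₀⟩ := exists_height_zero (p := p) hB
  have hne : contribN p χ χ₀ ≠ 0 := contribN_comm p χ₀ χ ▸ contribN_ne_zero hM hB hχ₀ h₀ hχ
  have h : 0 < ∑ φ ∈ bset B, contribN p χ φ ^ 2 :=
    Finset.sum_pos' (fun φ _ => sq_nonneg _)
      ⟨χ₀, mem_bset.mpr hχ₀, lt_of_le_of_ne (sq_nonneg _) (pow_ne_zero 2 hne).symm⟩
  rw [sum_bset_sq hM hB hχ] at h
  exact (pos_iff_pos_of_mul_pos h).mp (pow_pos (mod_cast (Fact.out : p.Prime).pos) _)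

theorem sum_erase_sq [DecidableEq (Cfsg.IrrCharacter G)] {χ : Cfsg.IrrCharacter G}
    (hχ : χ ∈ B) : ∑ φ ∈ (bset B).erase χ, contribN p χ φ ^ 2 =
      contribN p χ χ * ((p : ℤ) ^ (Nat.card G).factorization p - contribN p χ χ) := by
  have h := sum_bset_sq hM hB hχ
  rw [← Finset.add_sum_erase _ _ (mem_bset.mpr hχ)] at h
  linarith [h, pow_two (contribN p χ χ)]

theorem contribN_self_le {χ : Cfsg.IrrCharacter G} (hχ : χ ∈ B) :
    contribN p χ χ ≤ (p : ℤ) ^ (Nat.card G).factorization p := by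
  classical
  have h1 := sum_erase_sq hM hB hχ
  have h2 : 0 ≤ ∑ φ ∈ (bset B).erase χ, contribN p χ φ ^ 2 :=
    Finset.sum_nonneg fun φ _ => sq_nonneg _
  have h3 := contribN_self_pos hM hB hχ
  nlinarith

/-- Off the diagonal the rows are bounded by a quarter of the square of `p ^ a`. -/
theorem four_mul_sum_erase_le [DecidableEq (Cfsg.IrrCharacter G)] {χ : Cfsg.IrrCharacter G}
    (hχ : χ ∈ B) : 4 * ∑ φ ∈ (bset B).erase χ, contribN p χ φ ^ 2 ≤
      (p : ℤ) ^ (2 * (Nat.card G).factorization p) := by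
  rw [sum_erase_sq hM hB hχ, pow_mul']
  nlinarith [sq_nonneg ((p : ℤ) ^ (Nat.card G).factorization p - 2 * contribN p χ χ)]

end Cfsg.Agent.Lib.Blocks.Contrib
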