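import Cfsg.Agent.Lib.Blocks.Orthogonality
import Mathlib.GroupTheory.Sylow
import Mathlib.LinearAlgebra.Eigenspace.Charpoly

/-!
# Defect classes and defect groups

The block idempotent is a relative trace from a Sylow subgroup of the centraliser of any class on
which the central character of the block does not vanish modulo `M`.  This gives the min-max
theorem, conjugacy of defect groups and the order `p ^ blockDefect` of a defect group.
-/

namespace Cfsg.Agent.Lib.Blocks

open MonoidAlgebra Cfsg.Agent.Lib.BrauerMap.Basic Cfsg.Agent.Lib.BrauerMap.ClassSum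
open Cfsg.Agent.Lib.Characters.Basic
open scoped ComplexConjugate

universe u

variable {G : Type u} [Group G] [Finite G]

/-! ## Relative traces -/

section relTr

variable {R : Type*} [CommRing R]

/-- The relative trace from `D` to the whole group, on chosen representatives. -/
noncomputable def relTr (D : Subgroup G) (b : MonoidAlgebra R G) : MonoidAlgebra R G :=
  haveI := Fintype.ofFinite (G ⧸ D)
  ∑ c : G ⧸ D, single c.out 1 * b * single c.out⁻¹ 1

theorem coeff_relTr {D : Subgroup G} [Fintype (G ⧸ D)] (b : MonoidAlgebra R G) (h : G) :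
    (relTr D b).coeff h = ∑ c : G ⧸ D, b.coeff (c.out⁻¹ * h * c.out) := by
  rw [relTr, coeff_sum, Finsupp.finsetSum_apply]
  refine Finset.sum_congr (by ext; simp) fun c _ => ?_
  rw [coeff_mul_single_apply, coeff_single_mul_apply]
  simp [mul_assoc]

theorem coeff_conj_of_mem {D : Subgroup G} {b : MonoidAlgebra R G} (hb : IsFixedBy D b)
    (t : G) {d : G} (hd : d ∈ D) (h : G) :
    b.coeff ((t * d)⁻¹ * h * (t * d)) = b.coeff (t⁻¹ * h * t) := by
  have := hb d⁻¹ (D.inv_mem hd) (t⁻¹ * h * t)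
  rw [inv_inv] at this
  rw [← this]
  congr 1
  group

theorem coeff_out_mk {D : Subgroup G} {b : MonoidAlgebra R G} (hb : IsFixedBy D b) (t h : G) :
    b.coeff ((QuotientGroup.mk t : G ⧸ D).out⁻¹ * h * (QuotientGroup.mk t : G ⧸ D).out) =
      b.coeff (t⁻¹ * h * t) := by
  obtain ⟨⟨d, hd⟩, e⟩ := QuotientGroup.mk_out_eq_mul D t
  rw [e]
  exact coeff_conj_of_mem hb t hd h

/-- A nonzero coefficient of a relative trace in characteristic `p`: every `p`-subgroup of the
centraliser is conjugate into `D`. -/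
theorem exists_conj_le_of_coeff_relTr_ne_zero {p : ℕ} [Fact p.Prime] [CharP R p] {D : Subgroup G}
    {b : MonoidAlgebra R G} (hb : IsFixedBy D b) {h : G} (hne : (relTr D b).coeff h ≠ 0)
    {Q : Subgroup G} (hQ : IsPGroup p Q) (hQh : Q ≤ Subgroup.centralizer ({h} : Set G)) :
    ∃ x : G, Q.map (MulAut.conj x).toMonoidHom ≤ D := by
  classical
  haveI := Fintype.ofFinite (G ⧸ D)
  by_contra hno
  apply hne
  rw [coeff_relTr, sum_eq_sum_fixed hQ (fun c : G ⧸ D => b.coeff (c.out⁻¹ * h * c.out)) ?_]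
  · refine Finset.sum_eq_zero fun c hc => absurd ?_ hno
    have hfix := (Finset.mem_filter.mp hc).2
    refine ⟨c.out⁻¹, ?_⟩
    rintro _ ⟨q, hq, rfl⟩
    have hq' : (⟨q, hq⟩ : Q) • c = QuotientGroup.mk ((q : G) * c.out) := by
      conv_lhs => rw [← Quotient.out_eq c]
      rfl
    have h1 : (QuotientGroup.mk ((q : G) * c.out) : G ⧸ D) = QuotientGroup.mk c.out := by
      rw [← hq', hfix ⟨q, hq⟩]
      exact (Quotient.out_eq c).symm
    have h2 := QuotientGroup.eq.mp h1
    have h3 := D.inv_mem h2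
    simpa [MulAut.conj_apply, mul_assoc] using h3
  · intro q c
    have hqc : q • c = QuotientGroup.mk ((q : G) * c.out) := by
      conv_lhs => rw [← Quotient.out_eq c]
      rfl
    rw [hqc, coeff_out_mk hb]
    have hq : (q : G) * h = h * q := Subgroup.mem_centralizer_singleton_iff.mp (hQh q.2)
    rw [mul_inv_rev, mul_assoc c.out⁻¹ (q : G)⁻¹ h,
      mul_assoc c.out⁻¹ ((q : G)⁻¹ * h) ((q : G) * c.out), ← mul_assoc ((q : G)⁻¹ * h) (q : G),
      mul_assoc (q : G)⁻¹ h, ← hq, inv_mul_cancel_left, mul_assoc]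

theorem isFixedBy_single {D : Subgroup G} {g : G} (hD : D ≤ Subgroup.centralizer ({g} : Set G))
    (r : R) : IsFixedBy D (single g r : MonoidAlgebra R G) := by
  classical
  intro u hu v
  have hug : u * g = g * u := Subgroup.mem_centralizer_singleton_iff.mp (hD hu)
  simp only [coeff_single, Finsupp.single_apply]
  refine if_congr ⟨fun e => ?_, fun e => ?_⟩ rfl rfl
  · have : u * v * u⁻¹ * u = g * u := by rw [e]
    rw [inv_mul_cancel_right, ← hug] at this
    exact (mul_left_cancel this).symm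
  · rw [← e, hug, mul_inv_cancel_right]

theorem isFixedBy_center_mul {D : Subgroup G} {z b : MonoidAlgebra R G}
    (hz : z ∈ Subalgebra.center R (MonoidAlgebra R G)) (hb : IsFixedBy D b) :
    IsFixedBy D (z * b) := by
  haveI := Fintype.ofFinite G
  intro u hu v
  rw [coeff_mul_sum, coeff_mul_sum]
  refine (Fintype.sum_equiv (MulAut.conj u).toEquiv _ _ fun a => ?_).symm
  simp only [MulEquiv.toEquiv_eq_coe, EquivLike.coe_coe, MulAut.conj_apply]
  rw [(mem_center_iff_coeff z).mp hz, ← hb u hu (a⁻¹ * v)]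
  congr 2
  group

theorem isFixedBy_smul {D : Subgroup G} {b : MonoidAlgebra R G} (r : R) (hb : IsFixedBy D b) :
    IsFixedBy D (r • b) := fun u hu v => by
  rw [coeff_smul, Finsupp.smul_apply, Finsupp.smul_apply, hb u hu v]

theorem center_mul_relTr (D : Subgroup G) {z : MonoidAlgebra R G}
    (hz : z ∈ Subalgebra.center R (MonoidAlgebra R G)) (b : MonoidAlgebra R G) :
    z * relTr D b = relTr D (z * b) := by
  rw [relTr, relTr, Finset.mul_sum]
  refine Finset.sum_congr rfl fun c _ => ?_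
  rw [← mul_assoc, ← mul_assoc, ← mul_assoc (single c.out 1),
    Subalgebra.mem_center_iff.mp hz (single c.out 1)]

theorem relTr_smul (D : Subgroup G) (r : R) (b : MonoidAlgebra R G) :
    relTr D (r • b) = r • relTr D b := by
  rw [relTr, relTr, Finset.smul_sum]
  exact Finset.sum_congr rfl fun c _ => by rw [mul_smul_comm, smul_mul_assoc]

theorem map_relTr {S : Type*} [CommRing S] (f : R →+* S) (D : Subgroup G)
    (b : MonoidAlgebra R G) :
    MonoidAlgebra.mapRingHom G f (relTr D b) = relTr D (MonoidAlgebra.mapRingHom G f b) := by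
  rw [relTr, relTr, map_sum]
  refine Finset.sum_congr rfl fun c _ => ?_
  rw [map_mul, map_mul, mapRingHom_single, mapRingHom_single, map_one]

theorem isFixedBy_map {S : Type*} [CommRing S] (f : R →+* S) {D : Subgroup G}
    {b : MonoidAlgebra R G} (hb : IsFixedBy D b) :
    IsFixedBy D (MonoidAlgebra.mapRingHom G f b) := fun u hu v => by
  rw [coeff_mapRingHom, coeff_mapRingHom, hb u hu v]

theorem relTr_single_coeff [DecidableEq G] {D : Subgroup G} [Fintype (G ⧸ D)]
    (g h : G) :
    (relTr D (single g (1 : R))).coeff h =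
      ((Finset.univ.filter fun c : G ⧸ D => c.out * g * c.out⁻¹ = h).card : R) := by
  rw [coeff_relTr, ← Finset.sum_boole]
  refine Finset.sum_congr rfl fun c _ => ?_
  rw [coeff_single, Finsupp.single_apply]
  refine if_congr ⟨fun e => ?_, fun e => ?_⟩ rfl rfl
  · rw [e]; simp [mul_assoc]
  · rw [← e]; simp [mul_assoc]

/-- The relative trace of an element of the centraliser is a multiple of its class sum. -/
theorem relTr_single {D : Subgroup G} {g : G} (hD : D ≤ Subgroup.centralizer ({g} : Set G)) :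
    relTr D (single g (1 : R)) =
      ((D.relIndex (Subgroup.centralizer ({g} : Set G))) : R) • classSum R g := by
  classical
  haveI := Fintype.ofFinite (G ⧸ D)
  set C := Subgroup.centralizer ({g} : Set G) with hC
  ext h
  rw [relTr_single_coeff, coeff_smul, Finsupp.smul_apply, coeff_classSum]
  split_ifs with hc
  · obtain ⟨t, ht⟩ := isConj_iff.mp hc
    rw [smul_eq_mul, mul_one]
    congr 1
    have key : ∀ c : G ⧸ D, c.out * g * c.out⁻¹ = h ↔ t⁻¹ * c.out ∈ C := by
      intro c
      rw [hC, Subgroup.mem_centralizer_singleton_iff, ← ht]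
      constructor
      · intro e
        have e2 := congrArg (fun z => t⁻¹ * z * c.out) e
        simpa [mul_assoc] using e2
      · intro e
        have e2 := congrArg (fun z => t * z * c.out⁻¹) e
        simpa [mul_assoc] using e2
    rw [Finset.filter_congr fun c _ => key c, ← Fintype.card_subtype,
      ← Nat.card_eq_fintype_card, Subgroup.relIndex, Subgroup.index]
    refine Nat.card_congr
      { toFun := fun c => QuotientGroup.mk (⟨t⁻¹ * c.1.out, c.2⟩ : C)
        invFun := fun q => ⟨QuotientGroup.mk (t * (q.out : C)), ?_⟩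
        left_inv := ?_
        right_inv := ?_ }
    · obtain ⟨⟨d, hd⟩, e⟩ := QuotientGroup.mk_out_eq_mul D (t * (q.out : G))
      rw [e, ← mul_assoc, inv_mul_cancel_left]
      exact C.mul_mem q.out.2 (hD hd)
    · intro c
      apply Subtype.ext
      obtain ⟨⟨d, hd⟩, e⟩ :=
        QuotientGroup.mk_out_eq_mul (D.subgroupOf C) (⟨t⁻¹ * c.1.out, c.2⟩ : C)
      change (QuotientGroup.mk (t * _) : G ⧸ D) = c.1
      rw [e]
      conv_rhs => rw [← Quotient.out_eq c.1]
      refine QuotientGroup.eq.mpr ?_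
      push_cast
      have : ((d : G))⁻¹ ∈ D := D.inv_mem hd
      simpa [mul_assoc] using this
    · intro q
      obtain ⟨⟨d, hd⟩, e⟩ := QuotientGroup.mk_out_eq_mul D (t * (q.out : G))
      conv_rhs => rw [← Quotient.out_eq q]
      refine QuotientGroup.eq.mpr (Subgroup.mem_subgroupOf.mpr ?_)
      push_cast
      rw [e]
      simpa [mul_assoc] using D.inv_mem hd
  · rw [smul_zero, Finset.card_eq_zero.mpr, Nat.cast_zero]
    rw [Finset.filter_eq_empty_iff]
    exact fun c _ e => hc (isConj_iff.mpr ⟨c.out, e⟩)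

end relTr

theorem lin_relTr (χ : Cfsg.IrrCharacter G) (D : Subgroup G) (b : MonoidAlgebra ℂ G) :
    lin (χ : G → ℂ) (relTr D b) = (D.index : ℂ) * lin (χ : G → ℂ) b := by
  classical
  haveI := Fintype.ofFinite (G ⧸ D)
  have : ∀ c : G, lin (χ : G → ℂ) (single c 1 * b * single c⁻¹ 1) = lin (χ : G → ℂ) b := by
    intro c
    induction b using MonoidAlgebra.induction_linear with
    | zero => simp
    | add x y hx hy => rw [mul_add, add_mul, map_add, map_add, hx, hy]
    | single v r =>
      rw [single_mul_single, single_mul_single, lin_single, lin_single, one_mul, mul_one,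
        char_conj_apply]
  rw [relTr, map_sum, Finset.sum_congr rfl fun c _ => this _, Finset.sum_const, Subgroup.index,
    Nat.card_eq_fintype_card, nsmul_eq_mul]
  congr 2
  convert (Finset.card_univ (α := G ⧸ D))

/-! ## The block idempotent as a relative trace -/

variable {M : Ideal Cfsg.AlgInt} [M.IsMaximal] {p : ℕ}

theorem lin_mem_localRing (φ : G → ℂ) (hφ : ∀ g, φ g ∈ localRing M)
    (b : MonoidAlgebra (localRing M) G) :
    lin φ (MonoidAlgebra.mapRingHom G (localRing M).subtype b) ∈ localRing M := by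
  haveI := Fintype.ofFinite G
  rw [lin_apply]
  exact sum_mem fun g _ => mul_mem (by rw [coeff_mapRingHom]; exact (b.coeff g).2) (hφ g)

theorem char_mem_localRing (χ : Cfsg.IrrCharacter G) (g : G) :
    (χ : G → ℂ) g ∈ localRing M :=
  mem_localRing_of_isIntegral (isIntegral_apply (isCharacter_irr χ) g)

theorem residue_ccR_ne_zero_of_exists {B : Set (Cfsg.IrrCharacter G)} (hB : Cfsg.IsPBlock M B)
    {g : G} (hg : ∃ χ ∈ B, ¬ Cfsg.MemLocalIdeal M (Cfsg.centralChar (χ : G → ℂ) g))
    {χ : Cfsg.IrrCharacter G} (hχ : χ ∈ B) : residue M (ccR M χ g) ≠ 0 := by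
  obtain ⟨ψ, hψ, hne⟩ := hg
  rw [residue_ccR_eq_of_mem hB hχ hψ]
  exact fun e => hne ((memLocalIdeal_centralChar_iff ψ g).mpr e)

/-- If the central character of the block is nonzero at `g` modulo `M`, the block idempotent is a
multiple of the class sum of `g`. -/
theorem exists_classSum_mul_eq {B : Set (Cfsg.IrrCharacter G)} (hB : Cfsg.IsPBlock M B) {g : G}
    (hg : ∃ χ ∈ B, ¬ Cfsg.MemLocalIdeal M (Cfsg.centralChar (χ : G → ℂ) g)) :
    ∃ w : Subalgebra.center (localRing M) (MonoidAlgebra (localRing M) G),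
      classSumC (localRing M) g * w = blockIdemR hB := by
  classical
  haveI := Fintype.ofFinite (Cfsg.IrrCharacter G)
  set S := Finset.univ.filter fun χ : Cfsg.IrrCharacter G => χ ∈ B
  have hc : IsUnit (∏ χ ∈ S, -ccR M χ g) := IsUnit.prod_iff.mpr fun χ hχ =>
    (isUnit_localRing_iff.mpr
      (residue_ccR_ne_zero_of_exists hB hg (Finset.mem_filter.mp hχ).2)).neg
  obtain ⟨c', hc'⟩ := hc.exists_left_inv
  set P : Polynomial (localRing M) :=
    ∏ χ ∈ S, (Polynomial.X - Polynomial.C (ccR M χ g)) with hP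
  set q : Subalgebra.center (localRing M) (MonoidAlgebra (localRing M) G) :=
    Polynomial.eval₂ (algebraMap _ _) (classSumC (localRing M) g) P.divX with hq
  refine ⟨blockIdemR hB * algebraMap _ _ (-c') * q, eq_of_omegaR_eq fun θ => ?_⟩
  have hωq : omegaR M θ q = P.divX.eval (ccR M θ g) := by
    rw [hq, Polynomial.hom_eval₂, omegaR_classSumC,
      show (omegaR M θ).comp (algebraMap (localRing M)
        (Subalgebra.center (localRing M) (MonoidAlgebra (localRing M) G))) = RingHom.id _ from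
        RingHom.ext fun r => omegaR_algebraMap θ r]
    rfl
  rw [map_mul, map_mul, map_mul, omegaR_classSumC, omegaR_algebraMap, omegaR_blockIdemR]
  by_cases hθ : θ ∈ B
  · rw [if_pos hθ]
    have h0 : P.eval (ccR M θ g) = 0 := by
      rw [hP, Polynomial.eval_prod]
      exact Finset.prod_eq_zero (Finset.mem_filter.mpr ⟨Finset.mem_univ θ, hθ⟩) (by simp)
    have h2 : P.coeff 0 = ∏ χ ∈ S, -ccR M χ g := by
      rw [hP, Polynomial.coeff_zero_eq_eval_zero, Polynomial.eval_prod]
      simp
    have h3 := congrArg (Polynomial.eval (ccR M θ g)) (Polynomial.X_mul_divX_add P)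
    rw [Polynomial.eval_add, Polynomial.eval_mul, Polynomial.eval_X, Polynomial.eval_C, h0,
      ← hωq, h2] at h3
    have : ccR M θ g * omegaR M θ q = -∏ χ ∈ S, -ccR M χ g := eq_neg_of_add_eq_zero_left h3
    calc ccR M θ g * (1 * -c' * omegaR M θ q)
        = -c' * (ccR M θ g * omegaR M θ q) := by ring
      _ = 1 := by rw [this, neg_mul_neg, hc']
  · rw [if_neg hθ]
    ring

theorem sylow_map_le {H : Subgroup G} (P : Sylow p H) :
    (P : Subgroup H).map H.subtype ≤ H := Subgroup.map_subtype_le _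

theorem not_dvd_relIndex_sylow [Fact p.Prime] {H : Subgroup G} (P : Sylow p H) :
    ¬ p ∣ ((P : Subgroup H).map H.subtype).relIndex H := by
  have h : ((P : Subgroup H).map H.subtype).subgroupOf H = (P : Subgroup H) :=
    Subgroup.comap_map_eq_self_of_injective H.subtype_injective _
  rw [Subgroup.relIndex, h]
  exact P.not_dvd_index

/-- If the central character of the block is nonzero at `g` modulo `M` then the block idempotent
is a relative trace from a Sylow subgroup of the centraliser of `g`. -/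
theorem exists_relTr_eq (hM : Cfsg.IsPModular p M) {B : Set (Cfsg.IrrCharacter G)}
    (hB : Cfsg.IsPBlock M B) {g : G}
    (hg : ∃ χ ∈ B, ¬ Cfsg.MemLocalIdeal M (Cfsg.centralChar (χ : G → ℂ) g))
    (P : Sylow p (Subgroup.centralizer ({g} : Set G))) :
    ∃ b : MonoidAlgebra (localRing M) G,
      IsFixedBy ((P : Subgroup (Subgroup.centralizer ({g} : Set G))).map
        (Subgroup.centralizer ({g} : Set G)).subtype) b ∧
      relTr ((P : Subgroup (Subgroup.centralizer ({g} : Set G))).map
        (Subgroup.centralizer ({g} : Set G)).subtype) b = (blockIdemR hB).1 := by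
  haveI := Fact.mk hM.1
  obtain ⟨w, hw⟩ := exists_classSum_mul_eq hB hg
  set D := (P : Subgroup (Subgroup.centralizer ({g} : Set G))).map
    (Subgroup.centralizer ({g} : Set G)).subtype with hD
  have hle : D ≤ Subgroup.centralizer ({g} : Set G) := Subgroup.map_subtype_le _
  have hu : IsUnit ((D.relIndex (Subgroup.centralizer ({g} : Set G)) : ℕ) : localRing M) := by
    rw [isUnit_localRing_iff, Ne, residue_eq_zero_iff]
    simpa [memLocalIdeal_natCast_iff hM] using not_dvd_relIndex_sylow P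
  obtain ⟨v, hv⟩ := hu.exists_left_inv
  refine ⟨v • (w.1 * single g 1),
    isFixedBy_smul _ (isFixedBy_center_mul w.2 (isFixedBy_single hle 1)), ?_⟩
  rw [relTr_smul, ← center_mul_relTr D w.2, relTr_single hle, mul_smul_comm, smul_smul, hv,
    one_smul, ← hw, Subalgebra.coe_mul]
  exact (Subalgebra.mem_center_iff.mp w.2 _).symm

/-- **Min-max.** If the central character of the block is nonzero at `g` and its idempotent is a
unit at `h`, both modulo `M`, then every `p`-subgroup of the centraliser of `h` is conjugate into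
a Sylow subgroup of the centraliser of `g`. -/
theorem exists_conj_le_of_blockCoeff (hM : Cfsg.IsPModular p M)
    {B : Set (Cfsg.IrrCharacter G)} (hB : Cfsg.IsPBlock M B) {g h : G}
    (hg : ∃ χ ∈ B, ¬ Cfsg.MemLocalIdeal M (Cfsg.centralChar (χ : G → ℂ) g))
    (P : Sylow p (Subgroup.centralizer ({g} : Set G)))
    (hh : ¬ Cfsg.MemLocalIdeal M (Cfsg.blockCoeff B h)) {Q : Subgroup G} (hQ : IsPGroup p Q)
    (hQh : Q ≤ Subgroup.centralizer ({h} : Set G)) :
    ∃ x : G, Q.map (MulAut.conj x).toMonoidHom ≤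
      (P : Subgroup (Subgroup.centralizer ({g} : Set G))).map
        (Subgroup.centralizer ({g} : Set G)).subtype := by
  haveI := Fact.mk hM.1
  haveI := charP_residue hM
  obtain ⟨b, hb, he⟩ := exists_relTr_eq hM hB hg P
  refine exists_conj_le_of_coeff_relTr_ne_zero (R := Cfsg.AlgInt ⧸ M)
    (isFixedBy_map (residue M) hb) ?_ hQ hQh
  rw [← map_relTr, he, coeff_mapRingHom]
  intro e
  exact hh (by rw [← coe_coeff_blockIdemR hB]; exact residue_eq_zero_iff.mp e)

theorem exists_isDefectClass {B : Set (Cfsg.IrrCharacter G)} (hB : Cfsg.IsPBlock M B) :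
    ∃ g : G, Cfsg.IsDefectClass M B g := by
  classical
  haveI : Finite (ConjClasses G) := Quotient.finite _
  haveI := Fintype.ofFinite (ConjClasses G)
  obtain ⟨χ, hχ⟩ := isPBlock_nonempty hB
  have h1 := omegaBar_blockIdemBar hB χ
  rw [if_pos hχ, omegaBar_eq_sum] at h1
  obtain ⟨c, -, hc⟩ : ∃ c ∈ (Finset.univ : Finset (ConjClasses G)),
      (blockIdemBar hB).1.coeff c.out * residue M (ccR M χ c.out) ≠ 0 := by
    by_contra hno
    push Not at hno
    rw [Finset.sum_eq_zero hno] at h1
    exact zero_ne_one h1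
  rw [mul_ne_zero_iff] at hc
  refine ⟨c.out, memLocalRing_blockCoeff hB _, fun e => hc.1 ?_, fun ψ hψ e => hc.2 ?_⟩
  · rw [blockIdemBar, coeff_mapCenter]
    exact residue_eq_zero_iff.mpr (by rwa [coe_coeff_blockIdemR])
  · rw [residue_ccR_eq_of_mem hB hχ hψ]
    exact (memLocalIdeal_centralChar_iff ψ c.out).mp e

theorem isDefectClass_exists_ne {B : Set (Cfsg.IrrCharacter G)} (hB : Cfsg.IsPBlock M B) {g : G}
    (hg : Cfsg.IsDefectClass M B g) :
    ∃ χ ∈ B, ¬ Cfsg.MemLocalIdeal M (Cfsg.centralChar (χ : G → ℂ) g) := by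
  obtain ⟨χ, hχ⟩ := isPBlock_nonempty hB
  exact ⟨χ, hχ, hg.2.2 χ hχ⟩

theorem isPGroup_isDefectGroup {B : Set (Cfsg.IrrCharacter G)} {D : Subgroup G}
    (hD : Cfsg.IsDefectGroup p M B D) : IsPGroup p D := by
  obtain ⟨g, -, P, rfl⟩ := hD
  exact P.2.map _

theorem exists_isDefectGroup {B : Set (Cfsg.IrrCharacter G)} (hB : Cfsg.IsPBlock M B) :
    ∃ D : Subgroup G, Cfsg.IsDefectGroup p M B D := by
  obtain ⟨g, hg⟩ := exists_isDefectClass hB
  exact ⟨_, g, hg, default, rfl⟩

theorem exists_conj_le_isDefectGroup (hM : Cfsg.IsPModular p M)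
    {B : Set (Cfsg.IrrCharacter G)} (hB : Cfsg.IsPBlock M B) {D : Subgroup G}
    (hD : Cfsg.IsDefectGroup p M B D) {h : G} (hh : ¬ Cfsg.MemLocalIdeal M (Cfsg.blockCoeff B h))
    {Q : Subgroup G} (hQ : IsPGroup p Q) (hQh : Q ≤ Subgroup.centralizer ({h} : Set G)) :
    ∃ x : G, Q.map (MulAut.conj x).toMonoidHom ≤ D := by
  obtain ⟨g, hg, P, rfl⟩ := hD
  exact exists_conj_le_of_blockCoeff hM hB (isDefectClass_exists_ne hB hg) P hh hQ hQh

theorem card_map_conj (x : G) (Q : Subgroup G) :
    Nat.card (Q.map (MulAut.conj x).toMonoidHom) = Nat.card Q :=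
  (Nat.card_congr (Q.equivMapOfInjective _ (MulAut.conj x).injective).toEquiv).symm

/-- Defect groups of a block are conjugate. -/
theorem isDefectGroup_conj (hM : Cfsg.IsPModular p M) {B : Set (Cfsg.IrrCharacter G)}
    (hB : Cfsg.IsPBlock M B) {D D' : Subgroup G} (hD : Cfsg.IsDefectGroup p M B D)
    (hD' : Cfsg.IsDefectGroup p M B D') :
    ∃ x : G, D.map (MulAut.conj x).toMonoidHom = D' := by
  obtain ⟨g, hg, P, hP⟩ := hD
  obtain ⟨g', hg', P', hP'⟩ := hD'
  obtain ⟨x, hx⟩ := exists_conj_le_isDefectGroup hM hB ⟨g', hg', P', hP'⟩ hg.2.1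
    (hP ▸ (P.2.map _ : IsPGroup p _)) (hP ▸ Subgroup.map_subtype_le _)
  obtain ⟨y, hy⟩ := exists_conj_le_isDefectGroup hM hB ⟨g, hg, P, hP⟩ hg'.2.1
    (hP' ▸ (P'.2.map _ : IsPGroup p _)) (hP' ▸ Subgroup.map_subtype_le _)
  refine ⟨x, Subgroup.eq_of_le_of_card_ge hx ?_⟩
  rw [card_map_conj, ← card_map_conj y D']
  exact Subgroup.card_le_of_le hy

theorem not_dvd_orderOf_isDefectClass (hM : Cfsg.IsPModular p M)
    {B : Set (Cfsg.IrrCharacter G)} (hB : Cfsg.IsPBlock M B) {g : G}
    (hg : Cfsg.IsDefectClass M B g) : ¬ p ∣ orderOf g := fun h =>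
  hg.2.1 (blockCoeff_eq_zero_of_dvd hM hB h ▸ memLocalIdeal_zero)

/-! ## The order of a defect group -/

theorem pow_dvd_of_div_mem_localRing (hM : Cfsg.IsPModular p M) {n e : ℕ}
    (h : (n : ℂ) / (p : ℂ) ^ e ∈ localRing M) : p ^ e ∣ n := by
  induction e generalizing n with
  | zero => simp
  | succ e ih =>
    have hp : (p : ℂ) ≠ 0 := Nat.cast_ne_zero.mpr hM.1.ne_zero
    have hn : p ∣ n := by
      rw [← memLocalIdeal_natCast_iff hM]
      have := memLocalIdeal_mul_left h
        (memLocalIdeal_mul_left (pow_mem (natCast_mem (localRing M) p) e)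
          (natCast_prime_mem_localIdeal hM))
      rwa [← pow_succ, div_mul_cancel₀ _ (pow_ne_zero _ hp)] at this
    obtain ⟨m, rfl⟩ := hn
    rw [pow_succ']
    refine mul_dvd_mul_left p (ih ?_)
    rwa [Nat.cast_mul, pow_succ', mul_div_mul_left _ _ hp] at h

/-- The average of a character over a coset of a centralised subgroup is an algebraic integer. -/
theorem isIntegral_average_coset (χ : Cfsg.IrrCharacter G) (D : Subgroup G) [Fintype D] {y : G}
    (hy : y ∈ Subgroup.centralizer (D : Set G)) :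
    IsIntegral ℤ ((Nat.card D : ℂ)⁻¹ * ∑ d : D, (χ : G → ℂ) (y * d)) := by
  classical
  obtain ⟨n, ρ, -, hρ⟩ := χ.2
  set A : Module.End ℂ (Fin n → ℂ) := (Nat.card D : ℂ)⁻¹ • ∑ d : D, ρ (d : G) with hA
  have hcard : (Nat.card D : ℂ) ≠ 0 := Nat.cast_ne_zero.mpr Nat.card_pos.ne'
  have hdA : ∀ d : D, ρ (d : G) * A = A := fun d => by
    rw [hA, mul_smul_comm, Finset.mul_sum]
    congr 1
    refine Fintype.sum_equiv (Equiv.mulLeft d) _ _ fun d' => ?_
    simp
  have hAA : A * A = A := by
    nth_rw 1 [hA]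
    rw [smul_mul_assoc, Finset.sum_mul]
    simp only [hdA]
    rw [Finset.sum_const, Finset.card_univ, ← Nat.card_eq_fintype_card,
      ← Nat.cast_smul_eq_nsmul ℂ, smul_smul, inv_mul_cancel₀ hcard, one_smul]
  have hyA : Commute (ρ y) A := by
    refine (Commute.sum_right _ _ _ fun d _ => ?_).smul_right _
    change ρ y * ρ (d : G) = ρ (d : G) * ρ y
    rw [← map_mul, ← map_mul, hy d d.2]
  set T : Module.End ℂ (Fin n → ℂ) := ρ y * A with hT
  have hTpow : T ^ (orderOf y + 1) = T := by
    rw [hT, hyA.mul_pow, ← map_pow, pow_succ y, pow_orderOf_eq_one, one_mul]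
    congr 1
    exact IsIdempotentElem.pow_succ_eq (orderOf y) hAA
  have htr : LinearMap.trace ℂ (Fin n → ℂ) T =
      (Nat.card D : ℂ)⁻¹ * ∑ d : D, (χ : G → ℂ) (y * d) := by
    rw [hT, hA, mul_smul_comm, Finset.mul_sum, map_smul, map_sum, smul_eq_mul, ← hρ]
    congr 1
    refine Finset.sum_congr rfl fun d _ => ?_
    exact congrArg (LinearMap.trace ℂ (Fin n → ℂ)) (map_mul ρ y (d : G)).symm
  rw [← htr, Module.End.trace_eq_sum_roots_charpoly_of_splits (IsAlgClosed.splits _)]
  refine IsIntegral.multiset_sum fun r hr => ?_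
  have hev : T.HasEigenvalue r :=
    (Module.End.hasEigenvalue_iff_isRoot_charpoly T r).mpr
      (Polynomial.isRoot_of_mem_roots hr)
  obtain ⟨v, hv⟩ := hev.exists_hasEigenvector
  have h1 := hv.pow_apply (orderOf y + 1)
  rw [hTpow, hv.apply_eq_smul] at h1
  have h2 : r ^ (orderOf y + 1) = r := (smul_left_injective ℂ hv.2 h1).symm
  refine ⟨Polynomial.X ^ (orderOf y + 1) - Polynomial.X, ?_, ?_⟩
  · exact Polynomial.monic_X_pow_sub (by
      rw [Polynomial.degree_X]
      exact_mod_cast Nat.lt_succ_of_le (orderOf_pos y))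
  · simp [Polynomial.eval₂_sub, Polynomial.eval₂_pow, h2]

/-- Each degree in the block is divisible by the `p`-part of the index of a defect group. -/
theorem pow_dvd_charDegree (hM : Cfsg.IsPModular p M) {B : Set (Cfsg.IrrCharacter G)}
    (hB : Cfsg.IsPBlock M B) {D : Subgroup G} (hD : Cfsg.IsDefectGroup p M B D)
    {χ : Cfsg.IrrCharacter G} (hχ : χ ∈ B) :
    p ^ (D.index.factorization p) ∣ Cfsg.charDegree (χ : G → ℂ) := by
  classical
  obtain ⟨g, hg, P, rfl⟩ := hD
  obtain ⟨b, -, he⟩ := exists_relTr_eq hM hB (isDefectClass_exists_ne hB hg) P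
  set D := (P : Subgroup (Subgroup.centralizer ({g} : Set G))).map
    (Subgroup.centralizer ({g} : Set G)).subtype
  have h1 : lin (χ : G → ℂ) (idem B).1 = (χ : G → ℂ) 1 := by
    have := omega_idem B χ
    rw [omega_apply, if_pos hχ, div_eq_one_iff_eq (char_one_ne_zero χ)] at this
    exact this
  rw [← mapCenter_blockIdemR hB, coe_mapCenter, ← he, map_relTr, lin_relTr,
    char_one_eq_degree] at h1
  obtain ⟨m, hm⟩ := Nat.ordProj_dvd D.index p
  refine pow_dvd_of_div_mem_localRing hM ?_
  rw [← h1]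
  nth_rw 1 [hm]
  push_cast
  rw [mul_assoc, mul_div_cancel_left₀ _ (pow_ne_zero _ (Nat.cast_ne_zero.mpr hM.1.ne_zero))]
  exact mul_mem (natCast_mem _ m)
    (lin_mem_localRing _ (fun x => char_mem_localRing χ x) b)

/-- Some degree in the block is not divisible by a higher power of `p`. -/
theorem exists_not_pow_dvd_charDegree (hM : Cfsg.IsPModular p M)
    {B : Set (Cfsg.IrrCharacter G)} (hB : Cfsg.IsPBlock M B) {D : Subgroup G}
    (hD : Cfsg.IsDefectGroup p M B D) :
    ∃ χ ∈ B, ¬ p ^ (D.index.factorization p + 1) ∣ Cfsg.charDegree (χ : G → ℂ) := by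
  classical
  haveI := Fintype.ofFinite (Cfsg.IrrCharacter G)
  haveI := Fintype.ofFinite D
  haveI := Fact.mk hM.1
  have hp0 : (p : ℂ) ≠ 0 := Nat.cast_ne_zero.mpr hM.1.ne_zero
  have hDp := isPGroup_isDefectGroup hD
  obtain ⟨g, hg, P, hP⟩ := hD
  by_contra hno
  push Not at hno
  set e := D.index.factorization p
  set c : Cfsg.IrrCharacter G → ℕ := fun χ => Cfsg.charDegree (χ : G → ℂ) / p ^ (e + 1)
  have hc : ∀ χ ∈ B, (χ : G → ℂ) 1 = (p : ℂ) ^ (e + 1) * (c χ : ℂ) := fun χ hχ => by
    rw [char_one_eq_degree]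
    conv_lhs => rw [← Nat.mul_div_cancel' (hno χ hχ)]
    push_cast
    rfl
  set F : G → ℂ := fun v => ∑ χ : Cfsg.IrrCharacter G with χ ∈ B, (c χ : ℂ) * (χ : G → ℂ) v
  have hF : ∀ v, (Nat.card G : ℂ) * Cfsg.blockCoeff B v = (p : ℂ) ^ (e + 1) * F v⁻¹ := by
    intro v
    rw [blockCoeff_eq_sum, ← mul_assoc,
      mul_inv_cancel₀ (Nat.cast_ne_zero.mpr Nat.card_pos.ne'), one_mul, Finset.mul_sum]
    refine Finset.sum_congr rfl fun χ hχ => ?_
    rw [← apply_inv (isCharacter_irr χ), hc χ (Finset.mem_filter.mp hχ).2, mul_assoc]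
  have hFsing : ∀ v, p ∣ orderOf v → F v = 0 := by
    intro v hv
    have h2 := hF v⁻¹
    rw [inv_inv, blockCoeff_eq_zero_of_dvd hM hB (by rwa [orderOf_inv]), mul_zero] at h2
    exact (mul_eq_zero.mp h2.symm).resolve_left (pow_ne_zero _ hp0)
  have hgD : g⁻¹ ∈ Subgroup.centralizer (D : Set G) := by
    refine Subgroup.inv_mem _ fun d hd => ?_
    have := hP ▸ hd
    exact Subgroup.mem_centralizer_singleton_iff.mp (Subgroup.map_subtype_le _ this)
  have hreg : ¬ p ∣ orderOf g⁻¹ := by
    rw [orderOf_inv]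
    exact not_dvd_orderOf_isDefectClass hM hB hg
  have hint : IsIntegral ℤ ((Nat.card D : ℂ)⁻¹ * F g⁻¹) := by
    have hsum : ∑ d : D, F (g⁻¹ * d) = F g⁻¹ := by
      rw [Finset.sum_eq_single (1 : D)]
      · simp
      · intro d _ hd
        refine hFsing _ ?_
        have hcomm : Commute g⁻¹ (d : G) := (hgD d d.2).symm
        obtain ⟨k, hk⟩ := IsPGroup.iff_orderOf.mp hDp d
        rw [← Subgroup.orderOf_coe] at hk
        have hk0 : k ≠ 0 := fun h0 => hd (Subtype.ext (orderOf_eq_one_iff.mp (by simp [hk, h0])))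
        have hcop : Nat.Coprime (orderOf g⁻¹) (orderOf (d : G)) := by
          rw [hk]
          exact ((hM.1.coprime_iff_not_dvd.mpr hreg).symm).pow_right k
        rw [hcomm.orderOf_mul_eq_mul_orderOf_of_coprime hcop, hk]
        exact dvd_mul_of_dvd_right (dvd_pow_self p hk0) _
      · exact fun h => absurd (Finset.mem_univ _) h
    rw [← hsum]
    simp only [F]
    rw [Finset.sum_comm, Finset.mul_sum]
    refine IsIntegral.sum _ fun χ _ => ?_
    rw [← Finset.mul_sum, ← mul_assoc, mul_comm ((Nat.card D : ℂ)⁻¹), mul_assoc]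
    exact (isIntegral_algebraMap (R := ℤ) (x := (c χ : ℤ))).mul (isIntegral_average_coset χ D hgD)
  obtain ⟨m, hm⟩ := Nat.ordProj_dvd D.index p
  have hm' : ¬ p ∣ m := by
    intro hd
    refine Nat.not_dvd_ordCompl hM.1 D.index_ne_zero_of_finite ?_
    have : D.index / p ^ e = m := Nat.div_eq_of_eq_mul_right (Nat.pow_pos hM.1.pos) hm
    rwa [this]
  have hfin : Cfsg.blockCoeff B g =
      (p : ℂ) * ((m : ℂ)⁻¹ * ((Nat.card D : ℂ)⁻¹ * F g⁻¹)) := by
    have h2 := hF g
    rw [show Nat.card G = D.index * Nat.card D from (D.index_mul_card).symm, hm] at h2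
    push_cast at h2
    have hD0 : (Nat.card D : ℂ) ≠ 0 := Nat.cast_ne_zero.mpr Nat.card_pos.ne'
    have hm0 : (m : ℂ) ≠ 0 := Nat.cast_ne_zero.mpr fun h0 => hm' (h0 ▸ dvd_zero p)
    field_simp
    rw [pow_succ] at h2
    apply mul_left_cancel₀ (pow_ne_zero e hp0)
    linear_combination h2
  refine hg.2.1 (hfin ▸ memLocalIdeal_mul_right (natCast_prime_mem_localIdeal hM) ?_)
  exact mul_mem (natCast_inv_mem_localRing hM hm') (mem_localRing_of_isIntegral hint)

/-- A defect group has order `p ^ blockDefect`. -/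
theorem card_isDefectGroup (hM : Cfsg.IsPModular p M) {B : Set (Cfsg.IrrCharacter G)}
    (hB : Cfsg.IsPBlock M B) {D : Subgroup G} (hD : Cfsg.IsDefectGroup p M B D) :
    Nat.card D = p ^ Cfsg.blockDefect p B := by
  haveI := Fact.mk hM.1
  obtain ⟨n, hn⟩ := IsPGroup.iff_card.mp (isPGroup_isDefectGroup hD)
  have hinf : sInf ((fun χ : Cfsg.IrrCharacter G =>
      (Cfsg.charDegree (χ : G → ℂ)).factorization p) '' B) = D.index.factorization p := by
    obtain ⟨χ, hχ, hnd⟩ := exists_not_pow_dvd_charDegree hM hB hD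
    apply le_antisymm
    · refine le_trans (Nat.sInf_le (Set.mem_image_of_mem _ hχ)) ?_
      by_contra hlt
      exact hnd ((hM.1.pow_dvd_iff_le_factorization (charDegree_pos χ).ne').mpr (by omega))
    · refine le_csInf ((isPBlock_nonempty hB).image _) ?_
      rintro _ ⟨ψ, hψ, rfl⟩
      exact (hM.1.pow_dvd_iff_le_factorization (charDegree_pos ψ).ne').mp
        (pow_dvd_charDegree hM hB hD hψ)
  rw [Cfsg.blockDefect, hinf, ← D.index_mul_card,
    Nat.factorization_mul D.index_ne_zero_of_finite Nat.card_pos.ne', hn,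
    hM.1.factorization_pow]
  simp

theorem blockHeight_eq (hM : Cfsg.IsPModular p M) {B : Set (Cfsg.IrrCharacter G)}
    (hB : Cfsg.IsPBlock M B) {D : Subgroup G} (hD : Cfsg.IsDefectGroup p M B D)
    (χ : Cfsg.IrrCharacter G) :
    Cfsg.blockHeight p B (χ : G → ℂ) =
      (Cfsg.charDegree (χ : G → ℂ)).factorization p - D.index.factorization p := by
  obtain ⟨χ₀, hχ₀, hnd⟩ := exists_not_pow_dvd_charDegree hM hB hD
  rw [Cfsg.blockHeight]
  congr 1
  apply le_antisymm
  · refine le_trans (Nat.sInf_le (Set.mem_image_of_mem _ hχ₀)) ?_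
    by_contra hlt
    exact hnd ((hM.1.pow_dvd_iff_le_factorization (charDegree_pos χ₀).ne').mpr (by omega))
  · refine le_csInf ((isPBlock_nonempty hB).image _) ?_
    rintro _ ⟨ψ, hψ, rfl⟩
    exact (hM.1.pow_dvd_iff_le_factorization (charDegree_pos ψ).ne').mp
      (pow_dvd_charDegree hM hB hD hψ)

/-- `O_p` of the group lies in every defect group: a normal `p`-subgroup centralising a defect
class representative lies in each Sylow subgroup of its centraliser. -/
theorem normal_le_of_le_centralizer [Fact p.Prime] {g : G} {N : Subgroup G} [N.Normal]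
    (hN : IsPGroup p N) (hle : N ≤ Subgroup.centralizer ({g} : Set G))
    (P : Sylow p (Subgroup.centralizer ({g} : Set G))) :
    N ≤ (P : Subgroup (Subgroup.centralizer ({g} : Set G))).map
      (Subgroup.centralizer ({g} : Set G)).subtype := by
  obtain ⟨Q, hQ⟩ := (hN.comap_subtype (K := Subgroup.centralizer ({g} : Set G))).exists_le_sylow
  obtain ⟨c, hc⟩ := MulAction.exists_smul_eq (Subgroup.centralizer ({g} : Set G)) Q P
  intro x hx
  refine ⟨⟨x, hle hx⟩, ?_, rfl⟩
  rw [← hc, Sylow.coe_subgroup_smul]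
  refine ⟨c⁻¹ * ⟨x, hle hx⟩ * c, hQ ?_, ?_⟩
  · change ((c : G)⁻¹ * x * (c : G)) ∈ N
    simpa using Subgroup.Normal.conj_mem inferInstance x hx (c : G)⁻¹
  · simp [mul_assoc]

end Cfsg.Agent.Lib.Blocks
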