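import Cfsg.Agent.Lib.Blocks.LocalRing
import Cfsg.Agent.Lib.BrauerMap.ClassSum
import Mathlib.RepresentationTheory.Irreducible
import Mathlib.Algebra.MonoidAlgebra.MapDomain
import Mathlib.RingTheory.Finiteness.Basic
import Mathlib.RingTheory.Noetherian.Basic

/-!
# Central characters

For an irreducible character `χ` of a finite group: the linear extension of `χ` to the group
algebra, the algebra homomorphism `omega χ` on the centre of the complex group algebra, its
integrality, and its reduction `omegaBar M χ` modulo `M` on the centre of the group algebra over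
`AlgInt ⧸ M`.
-/

namespace Cfsg.Agent.Lib.Blocks

open MonoidAlgebra Cfsg.Agent.Lib.BrauerMap.Basic Cfsg.Agent.Lib.BrauerMap.ClassSum

universe u

variable {G : Type u} [Group G]

/-! ## Degrees -/

theorem charDegree_pos (χ : Cfsg.IrrCharacter G) : 0 < Cfsg.charDegree (χ : G → ℂ) := by
  obtain ⟨n, ρ, hirr, hρ⟩ := χ.2
  rw [Cfsg.charDegree, ← hρ, Representation.char_one, Module.finrank_fin_fun]
  simp only [Complex.natCast_re, Nat.floor_natCast]
  by_contra h
  obtain rfl : n = 0 := by omega
  obtain ⟨a, b, hab⟩ := hirr.toNontrivial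
  exact hab (Subrepresentation.toSubmodule_injective (Subsingleton.elim _ _))

theorem char_one_eq_degree (χ : Cfsg.IrrCharacter G) :
    (χ : G → ℂ) 1 = (Cfsg.charDegree (χ : G → ℂ) : ℂ) := by
  obtain ⟨n, ρ, -, hρ⟩ := χ.2
  rw [Cfsg.charDegree, ← hρ, Representation.char_one, Module.finrank_fin_fun]
  simp only [Complex.natCast_re, Nat.floor_natCast]

theorem char_one_ne_zero (χ : Cfsg.IrrCharacter G) : (χ : G → ℂ) 1 ≠ 0 := by
  rw [char_one_eq_degree]
  exact_mod_cast (charDegree_pos χ).ne'

theorem char_conj_apply (χ : Cfsg.IrrCharacter G) (g h : G) :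
    (χ : G → ℂ) (h * g * h⁻¹) = (χ : G → ℂ) g := by
  obtain ⟨n, ρ, -, hρ⟩ := χ.2
  rw [← hρ, Representation.character, Representation.character, map_mul, LinearMap.trace_mul_comm,
    ← map_mul, inv_mul_cancel_left]

theorem char_eq_of_isConj (χ : Cfsg.IrrCharacter G) {g h : G} (e : IsConj g h) :
    (χ : G → ℂ) g = (χ : G → ℂ) h := by
  obtain ⟨c, rfl⟩ := isConj_iff.mp e
  exact (char_conj_apply χ g c).symm

theorem centralizer_index_eq_of_isConj [Finite G] {g h : G} (e : IsConj g h) :
    (Subgroup.centralizer ({g} : Set G)).index = (Subgroup.centralizer ({h} : Set G)).index := by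
  rw [← card_isConj, ← card_isConj]
  exact Nat.card_congr (Equiv.subtypeEquivRight fun a =>
    ⟨fun a' => e.symm.trans a', fun a' => e.trans a'⟩)

theorem centralChar_eq_of_isConj [Finite G] (χ : Cfsg.IrrCharacter G) {g h : G}
    (e : IsConj g h) : Cfsg.centralChar (χ : G → ℂ) g = Cfsg.centralChar (χ : G → ℂ) h := by
  rw [Cfsg.centralChar, Cfsg.centralChar, char_eq_of_isConj χ e, centralizer_index_eq_of_isConj e]

/-! ## The linear extension of a function to the group algebra -/

/-- The linear extension of `φ` to the group algebra. -/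
noncomputable def lin (φ : G → ℂ) : MonoidAlgebra ℂ G →ₗ[ℂ] ℂ where
  toFun z := z.coeff.sum fun g c => c * φ g
  map_add' x y := by
    classical
    rw [coeff_add, Finsupp.sum_add_index (fun a _ => zero_mul _) (fun a _ b c => add_mul _ _ _)]
  map_smul' c x := by
    rw [coeff_smul, Finsupp.sum_smul_index (fun a => zero_mul _), Finsupp.sum, Finsupp.sum,
      RingHom.id_apply, smul_eq_mul, Finset.mul_sum]
    exact Finset.sum_congr rfl fun a _ => mul_assoc _ _ _

theorem lin_apply [Fintype G] (φ : G → ℂ) (z : MonoidAlgebra ℂ G) :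
    lin φ z = ∑ g, z.coeff g * φ g :=
  Finsupp.sum_fintype z.coeff (fun g c => c * φ g) fun g => zero_mul (φ g)

theorem lin_single (φ : G → ℂ) (g : G) (c : ℂ) : lin φ (single g c) = c * φ g := by
  change ((single g c : MonoidAlgebra ℂ G).coeff.sum fun g c => c * φ g) = _
  rw [coeff_single, Finsupp.sum_single_index (zero_mul _)]

theorem trace_asAlgebraHom {n : ℕ} (ρ : Representation ℂ G (Fin n → ℂ))
    (z : MonoidAlgebra ℂ G) :
    LinearMap.trace ℂ (Fin n → ℂ) (ρ.asAlgebraHom z) = lin ρ.character z := by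
  induction z using MonoidAlgebra.induction_linear with
  | zero => simp
  | add x y hx hy => rw [map_add, map_add, map_add, hx, hy]
  | single g c =>
    rw [Representation.asAlgebraHom_single, map_smul, lin_single, smul_eq_mul]
    rfl

theorem exists_scalar_of_center {n : ℕ} (ρ : Representation ℂ G (Fin n → ℂ))
    [ρ.IsIrreducible] {z : MonoidAlgebra ℂ G}
    (hz : z ∈ Subalgebra.center ℂ (MonoidAlgebra ℂ G)) :
    ∃ c : ℂ, ρ.asAlgebraHom z = c • (1 : Module.End ℂ (Fin n → ℂ)) := by
  have hcomm : ∀ g : G, ρ.asAlgebraHom z ∘ₗ ρ g = ρ g ∘ₗ ρ.asAlgebraHom z := by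
    intro g
    have h := congrArg ρ.asAlgebraHom ((Subalgebra.mem_center_iff.mp hz) (single g 1))
    rw [map_mul, map_mul, Representation.asAlgebraHom_single_one] at h
    exact h.symm
  obtain ⟨c, hc⟩ :=
    (Representation.IsIrreducible.algebraMap_intertwiningMap_bijective_of_isAlgClosed (ρ := ρ)).2
      ⟨ρ.asAlgebraHom z, hcomm⟩
  refine ⟨c, ?_⟩
  have h := congrArg Representation.IntertwiningMap.toLinearMap hc
  refine h.symm.trans ?_
  rw [Algebra.algebraMap_eq_smul_one]
  rfl

/-- The key property: a central element acts on an irreducible representation as the scalar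
`lin χ z / χ 1`. -/
theorem lin_center_mul (χ : Cfsg.IrrCharacter G) {z : MonoidAlgebra ℂ G}
    (hz : z ∈ Subalgebra.center ℂ (MonoidAlgebra ℂ G)) (w : MonoidAlgebra ℂ G) :
    lin (χ : G → ℂ) (z * w) = lin (χ : G → ℂ) z / (χ : G → ℂ) 1 * lin (χ : G → ℂ) w := by
  obtain ⟨n, ρ, hirr, hρ⟩ := χ.2
  have hone := char_one_ne_zero χ
  obtain ⟨c, hc⟩ := exists_scalar_of_center ρ hz
  rw [← hρ] at hone ⊢
  rw [Representation.char_one] at hone ⊢
  rw [← trace_asAlgebraHom, ← trace_asAlgebraHom, ← trace_asAlgebraHom, map_mul, hc, map_smul,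
    LinearMap.trace_one, smul_mul_assoc, one_mul, map_smul]
  simp only [smul_eq_mul]
  rw [mul_div_cancel_right₀ _ hone]

/-- The central character of `χ` as an algebra homomorphism on the centre of the group
algebra. -/
noncomputable def omega (χ : Cfsg.IrrCharacter G) :
    Subalgebra.center ℂ (MonoidAlgebra ℂ G) →ₐ[ℂ] ℂ :=
  AlgHom.ofLinearMap
    { toFun := fun z => lin (χ : G → ℂ) z.1 / (χ : G → ℂ) 1
      map_add' := fun x y => by simp [add_div]
      map_smul' := fun c x => by simp [mul_div_assoc] }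
    (by
      simp only [LinearMap.coe_mk, AddHom.coe_mk, OneMemClass.coe_one, one_def, lin_single,
        one_mul]
      exact div_self (char_one_ne_zero χ))
    (fun x y => by
      simp only [LinearMap.coe_mk, AddHom.coe_mk, Subalgebra.coe_mul]
      rw [lin_center_mul χ x.2]
      ring)

theorem omega_apply (χ : Cfsg.IrrCharacter G) (z : Subalgebra.center ℂ (MonoidAlgebra ℂ G)) :
    omega χ z = lin (χ : G → ℂ) z.1 / (χ : G → ℂ) 1 := rfl

variable [Finite G]

theorem omega_classSumC (χ : Cfsg.IrrCharacter G) (g : G) :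
    omega χ (classSumC ℂ g) = Cfsg.centralChar (χ : G → ℂ) g := by
  classical
  haveI := Fintype.ofFinite G
  rw [omega_apply, Cfsg.centralChar]
  congr 1
  rw [lin_apply, classSumC]
  simp only [coeff_classSum, ite_mul, one_mul, zero_mul]
  rw [← Finset.sum_filter, Finset.sum_congr rfl (g := fun _ => (χ : G → ℂ) g)
    (fun a ha => (char_eq_of_isConj χ (Finset.mem_filter.mp ha).2).symm),
    Finset.sum_const, nsmul_eq_mul, ← card_isConj, Nat.card_eq_fintype_card,
    Fintype.card_subtype]

/-! ## Change of coefficients -/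

section map

variable {A B : Type*} [CommRing A] [CommRing B]

theorem map_mem_center (f : A →+* B) {z : MonoidAlgebra A G}
    (hz : z ∈ Subalgebra.center A (MonoidAlgebra A G)) :
    MonoidAlgebra.mapRingHom G f z ∈ Subalgebra.center B (MonoidAlgebra B G) := by
  rw [mem_center_iff_coeff] at hz ⊢
  intro u g
  rw [coeff_mapRingHom, coeff_mapRingHom, hz]

/-- A change of coefficients on centres of group algebras. -/
noncomputable def mapCenter (f : A →+* B) :
    Subalgebra.center A (MonoidAlgebra A G) →+* Subalgebra.center B (MonoidAlgebra B G) where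
  toFun z := ⟨MonoidAlgebra.mapRingHom G f z.1, map_mem_center f z.2⟩
  map_one' := Subtype.ext (map_one (MonoidAlgebra.mapRingHom G f))
  map_mul' x y := Subtype.ext (map_mul (MonoidAlgebra.mapRingHom G f) x.1 y.1)
  map_zero' := Subtype.ext (map_zero (MonoidAlgebra.mapRingHom G f))
  map_add' x y := Subtype.ext (map_add (MonoidAlgebra.mapRingHom G f) x.1 y.1)

theorem coe_mapCenter (f : A →+* B) (z : Subalgebra.center A (MonoidAlgebra A G)) :
    (mapCenter f z : MonoidAlgebra B G) = MonoidAlgebra.mapRingHom G f z.1 := rfl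

theorem coeff_mapCenter (f : A →+* B) (z : Subalgebra.center A (MonoidAlgebra A G)) (g : G) :
    (mapCenter f z : MonoidAlgebra B G).coeff g = f (z.1.coeff g) :=
  coeff_mapRingHom f z.1 g

theorem mapCenter_classSumC (f : A →+* B) (g : G) :
    mapCenter f (classSumC A g) = classSumC B g := by
  apply Subtype.ext
  ext h
  rw [coeff_mapCenter]
  simp only [classSumC, coeff_classSum]
  split_ifs <;> simp

theorem mapCenter_smul (f : A →+* B) (a : A) (z : Subalgebra.center A (MonoidAlgebra A G)) :
    mapCenter f (a • z) = f a • mapCenter f z := by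
  apply Subtype.ext
  ext h
  simp [coeff_mapCenter]

/-- An element of the centre with prescribed coefficients at a class function. -/
noncomputable def ofClassFun (φ : G → A) (hφ : ∀ u g : G, φ (u * g * u⁻¹) = φ g) :
    Subalgebra.center A (MonoidAlgebra A G) :=
  ⟨ofCoeff (Finsupp.equivFunOnFinite.symm φ), (mem_center_iff_coeff _).mpr fun u g => hφ u g⟩

theorem coeff_ofClassFun (φ : G → A) (hφ : ∀ u g : G, φ (u * g * u⁻¹) = φ g) (g : G) :
    (ofClassFun φ hφ : MonoidAlgebra A G).coeff g = φ g := rfl

theorem coeff_eq_of_isConj (z : Subalgebra.center A (MonoidAlgebra A G)) {g h : G}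
    (e : IsConj g h) : z.1.coeff g = z.1.coeff h := by
  obtain ⟨c, rfl⟩ := isConj_iff.mp e
  exact ((mem_center_iff_coeff _).mp z.2 c g).symm

theorem mapCenter_surjective {f : A →+* B} (hf : Function.Surjective f) :
    Function.Surjective (mapCenter (G := G) f) := by
  intro z
  refine ⟨ofClassFun (fun g => Function.surjInv hf (z.1.coeff g)) (fun u g => by
    simp only [(mem_center_iff_coeff _).mp z.2 u g]), Subtype.ext ?_⟩
  ext g
  rw [coeff_mapCenter, coeff_ofClassFun, Function.surjInv_eq hf]

end map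

/-! ## Integrality -/

theorem isIntegral_omega_intMap (χ : Cfsg.IrrCharacter G)
    (z : Subalgebra.center ℤ (MonoidAlgebra ℤ G)) :
    IsIntegral ℤ (omega χ (mapCenter (Int.castRingHom ℂ) z)) := by
  haveI : Module.Finite ℤ (MonoidAlgebra ℤ G) :=
    Module.Finite.equiv (MonoidAlgebra.coeffLinearEquiv (S := ℤ) (M := G) ℤ).symm
  haveI : Module.Finite ℤ (Subalgebra.center ℤ (MonoidAlgebra ℤ G)) :=
    Module.Finite.iff_fg.mpr (IsNoetherian.noetherian
      (Subalgebra.toSubmodule (Subalgebra.center ℤ (MonoidAlgebra ℤ G))))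
  have hz : IsIntegral ℤ z := IsIntegral.of_finite ℤ z
  exact hz.map ((omega χ).toRingHom.comp (mapCenter (Int.castRingHom ℂ))).toIntAlgHom

theorem isIntegral_centralChar (χ : Cfsg.IrrCharacter G) (g : G) :
    IsIntegral ℤ (Cfsg.centralChar (χ : G → ℂ) g) := by
  rw [← omega_classSumC, ← mapCenter_classSumC (Int.castRingHom ℂ) g]
  exact isIntegral_omega_intMap χ _

/-! ## Local integrality and reduction -/

variable {M : Ideal Cfsg.AlgInt} [M.IsMaximal]

theorem centralChar_mem_localRing (χ : Cfsg.IrrCharacter G) (g : G) :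
    Cfsg.centralChar (χ : G → ℂ) g ∈ localRing M :=
  mem_localRing_of_isIntegral (isIntegral_centralChar χ g)

variable (M) in
/-- The central character of `χ` at a class, in the local ring. -/
noncomputable def ccR (χ : Cfsg.IrrCharacter G) (g : G) : localRing M :=
  ⟨Cfsg.centralChar (χ : G → ℂ) g, centralChar_mem_localRing χ g⟩

@[simp] theorem coe_ccR (χ : Cfsg.IrrCharacter G) (g : G) :
    (ccR M χ g : ℂ) = Cfsg.centralChar (χ : G → ℂ) g := rfl

theorem ccR_eq_of_isConj (χ : Cfsg.IrrCharacter G) {g h : G} (e : IsConj g h) :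
    ccR M χ g = ccR M χ h :=
  Subtype.ext (centralChar_eq_of_isConj χ e)

theorem omega_eq_sum [Fintype (ConjClasses G)] (χ : Cfsg.IrrCharacter G)
    (z : Subalgebra.center ℂ (MonoidAlgebra ℂ G)) :
    omega χ z = ∑ c : ConjClasses G, z.1.coeff c.out * Cfsg.centralChar (χ : G → ℂ) c.out := by
  have hz : z = ∑ c : ConjClasses G, z.1.coeff c.out • classSumC ℂ c.out := by
    refine Subtype.ext ?_
    rw [AddSubmonoidClass.coe_finsetSum]
    exact eq_sum_classSum z.2
  conv_lhs => rw [hz]
  rw [map_sum]
  exact Finset.sum_congr rfl fun c _ => by rw [map_smul, omega_classSumC, smul_eq_mul]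

theorem omega_mapCenter_mem (χ : Cfsg.IrrCharacter G)
    (z : Subalgebra.center (localRing M) (MonoidAlgebra (localRing M) G)) :
    omega χ (mapCenter (localRing M).subtype z) ∈ localRing M := by
  haveI : Finite (ConjClasses G) := Quotient.finite _
  haveI := Fintype.ofFinite (ConjClasses G)
  rw [omega_eq_sum]
  refine sum_mem fun c _ => mul_mem ?_ (centralChar_mem_localRing χ _)
  rw [coeff_mapCenter]
  exact (z.1.coeff c.out).2

variable (M) in
/-- The central character on the centre of the group algebra over the local ring. -/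
noncomputable def omegaR (χ : Cfsg.IrrCharacter G) :
    Subalgebra.center (localRing M) (MonoidAlgebra (localRing M) G) →+* localRing M :=
  RingHom.codRestrict ((omega χ).toRingHom.comp (mapCenter (localRing M).subtype))
    (localRing M) (omega_mapCenter_mem χ)

theorem coe_omegaR (χ : Cfsg.IrrCharacter G)
    (z : Subalgebra.center (localRing M) (MonoidAlgebra (localRing M) G)) :
    (omegaR M χ z : ℂ) = omega χ (mapCenter (localRing M).subtype z) := rfl

theorem omegaR_classSumC (χ : Cfsg.IrrCharacter G) (g : G) :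
    omegaR M χ (classSumC (localRing M) g) = ccR M χ g := by
  apply Subtype.ext
  rw [coe_omegaR, mapCenter_classSumC, omega_classSumC]
  rfl

variable (M) in
/-- The reduced central character, as a linear map. -/
noncomputable def omegaBarLin (χ : Cfsg.IrrCharacter G) :
    Subalgebra.center (Cfsg.AlgInt ⧸ M) (MonoidAlgebra (Cfsg.AlgInt ⧸ M) G) →ₗ[Cfsg.AlgInt ⧸ M]
      Cfsg.AlgInt ⧸ M :=
  haveI : Finite (ConjClasses G) := Quotient.finite _
  letI := Fintype.ofFinite (ConjClasses G)
  { toFun := fun z => ∑ c : ConjClasses G, z.1.coeff c.out * residue M (ccR M χ c.out)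
    map_add' := fun x y => by simp [add_mul, Finset.sum_add_distrib]
    map_smul' := fun r x => by simp [Finset.mul_sum, mul_assoc] }

theorem omegaBarLin_mapCenter (χ : Cfsg.IrrCharacter G)
    (z : Subalgebra.center (localRing M) (MonoidAlgebra (localRing M) G)) :
    omegaBarLin M χ (mapCenter (residue M) z) = residue M (omegaR M χ z) := by
  haveI : Finite (ConjClasses G) := Quotient.finite _
  letI := Fintype.ofFinite (ConjClasses G)
  have h : omegaR M χ z = ∑ c : ConjClasses G, z.1.coeff c.out * ccR M χ c.out := by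
    apply Subtype.ext
    rw [coe_omegaR, omega_eq_sum]
    push_cast
    refine Finset.sum_congr rfl fun c _ => ?_
    rw [coeff_mapCenter]
    rfl
  rw [h, map_sum]
  refine Finset.sum_congr rfl fun c _ => ?_
  rw [coeff_mapCenter, map_mul]

variable (M) in
/-- The reduced central character `omegaBar M χ`. -/
noncomputable def omegaBar (χ : Cfsg.IrrCharacter G) :
    Subalgebra.center (Cfsg.AlgInt ⧸ M) (MonoidAlgebra (Cfsg.AlgInt ⧸ M) G) →ₐ[Cfsg.AlgInt ⧸ M]
      Cfsg.AlgInt ⧸ M :=
  AlgHom.ofLinearMap (omegaBarLin M χ)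
    (by rw [← map_one (mapCenter (G := G) (residue M)), omegaBarLin_mapCenter, map_one, map_one])
    (fun x y => by
      obtain ⟨x', rfl⟩ := mapCenter_surjective residue_surjective x
      obtain ⟨y', rfl⟩ := mapCenter_surjective residue_surjective y
      rw [← map_mul, omegaBarLin_mapCenter, omegaBarLin_mapCenter, omegaBarLin_mapCenter, map_mul,
        map_mul])

theorem omegaBar_mapCenter (χ : Cfsg.IrrCharacter G)
    (z : Subalgebra.center (localRing M) (MonoidAlgebra (localRing M) G)) :
    omegaBar M χ (mapCenter (residue M) z) = residue M (omegaR M χ z) :=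
  omegaBarLin_mapCenter χ z

theorem omegaBar_classSumC (χ : Cfsg.IrrCharacter G) (g : G) :
    omegaBar M χ (classSumC (Cfsg.AlgInt ⧸ M) g) = residue M (ccR M χ g) := by
  rw [← mapCenter_classSumC (residue M) g, omegaBar_mapCenter, omegaR_classSumC]

theorem omegaBar_eq_sum [Fintype (ConjClasses G)] (χ : Cfsg.IrrCharacter G)
    (z : Subalgebra.center (Cfsg.AlgInt ⧸ M) (MonoidAlgebra (Cfsg.AlgInt ⧸ M) G)) :
    omegaBar M χ z = ∑ c : ConjClasses G, z.1.coeff c.out * residue M (ccR M χ c.out) := by
  change Finset.sum _ _ = _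
  congr!

theorem sameBlock_iff_omegaBar {χ ψ : Cfsg.IrrCharacter G} :
    Cfsg.SameBlock M (χ : G → ℂ) (ψ : G → ℂ) ↔ omegaBar M χ = omegaBar M ψ := by
  have key : ∀ g, Cfsg.MemLocalIdeal M
      (Cfsg.centralChar (χ : G → ℂ) g - Cfsg.centralChar (ψ : G → ℂ) g) ↔
      residue M (ccR M χ g) = residue M (ccR M ψ g) := fun g => by
    rw [← memLocalIdeal_sub_iff]
    rfl
  refine ⟨fun h => algHom_ext fun g => ?_, fun h g => ?_⟩
  · rw [omegaBar_classSumC, omegaBar_classSumC]
    exact (key g).mp (h g)
  · rw [key, ← omegaBar_classSumC, ← omegaBar_classSumC, h]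

theorem sameBlock_iff_residue {χ ψ : Cfsg.IrrCharacter G} :
    Cfsg.SameBlock M (χ : G → ℂ) (ψ : G → ℂ) ↔
      ∀ g, residue M (ccR M χ g) = residue M (ccR M ψ g) := by
  refine forall_congr' fun g => ?_
  rw [← memLocalIdeal_sub_iff]
  rfl

end Cfsg.Agent.Lib.Blocks
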