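import Cfsg.Prelude.Def_BlockRank
import Cfsg.Agent.Lib.Blocks.Contrib
import Mathlib.LinearAlgebra.Trace

/-!
# The rank of a block as a trace, and the sum of the squares of the degrees
-/

namespace Cfsg.Agent.Lib.Blocks.Contrib

open scoped ComplexConjugate

universe u

variable {G : Type u} [Group G] [Finite G] {p : ℕ} [Fact p.Prime] {M : Ideal Cfsg.AlgInt}
  [M.IsMaximal] (hM : Cfsg.IsPModular p M) {B : Set (Cfsg.IrrCharacter G)}
  (hB : Cfsg.IsPBlock M B)

omit [Finite G] [Fact p.Prime] in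
theorem pRegularPart_apply (χ : G → ℂ) (g : G) :
    Cfsg.pRegularPart p χ g = if p ∣ orderOf g then 0 else χ g := by
  simp only [Cfsg.pRegularPart, Cfsg.IsPRegular]
  by_cases hg : p ∣ orderOf g <;> simp [hg]

omit [M.IsMaximal] in
theorem blockRank_le : Cfsg.blockRank p B ≤ Nat.card B := by
  classical
  letI := Fintype.ofFinite B
  rw [Cfsg.blockRank, Nat.card_eq_fintype_card, Set.image_eq_range]
  exact finrank_range_le_card _

include hM hB

/-- The trace of the matrix of regular inner products is `p ^ a` times the rank. -/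
theorem sum_contribN_self : ∑ χ ∈ bset B, contribN p χ χ =
    (p : ℤ) ^ (Nat.card G).factorization p * (Cfsg.blockRank p B : ℤ) := by
  classical
  letI := Fintype.ofFinite G
  letI := Fintype.ofFinite B
  have hp : p.Prime := Fact.out
  set q : ℂ := (p : ℂ) ^ (Nat.card G).factorization p with hqdef
  have hq : q ≠ 0 := pow_ne_zero _ (Nat.cast_ne_zero.mpr hp.ne_zero)
  have hm : (primeToCard p G : ℂ) ≠ 0 := Nat.cast_ne_zero.mpr (primeToCard_pos p).ne'
  set θ : B → G → ℂ := fun χ => Cfsg.pRegularPart p ((χ : Cfsg.IrrCharacter G) : G → ℂ)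
  set T : (B → ℂ) →ₗ[ℂ] G → ℂ := Fintype.linearCombination ℂ θ with hT
  set A : Matrix B B ℂ := fun φ χ => (contribN p φ.1 χ.1 : ℂ) / q with hA
  set P : (B → ℂ) →ₗ[ℂ] B → ℂ := Matrix.toLin' A with hP
  have hsum : ∀ f : Cfsg.IrrCharacter G → ℂ, ∑ φ : B, f φ.1 = ∑ φ ∈ bset B, f φ := fun f =>
    (Finset.sum_subtype (bset B) (fun _ => mem_bset) f).symm
  have hTc : ∀ (c : B → ℂ) (g : G), T c g =
      ∑ φ : B, c φ * (if p ∣ orderOf g then 0 else (φ.1 : G → ℂ) g) := by
    intro c g
    simp [hT, θ, Fintype.linearCombination_apply, Finset.sum_apply, pRegularPart_apply]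
  have hPc : ∀ (c : B → ℂ) (φ : B), P c φ = ∑ χ : B, A φ χ * c χ := fun c φ => by
    simp [hP, Matrix.toLin'_apply, Matrix.mulVec, dotProduct]
  have hTP : ∀ c, T (P c) = T c := by
    intro c
    funext g
    simp only [hTc, hPc, Finset.sum_mul]
    rw [Finset.sum_comm]
    refine Finset.sum_congr rfl fun χ _ => ?_
    rw [Finset.sum_congr rfl fun φ _ => mul_right_comm (A φ χ) (c χ) _, ← Finset.sum_mul,
      mul_comm (c χ)]
    refine congrArg (· * c χ) ?_
    by_cases hg : p ∣ orderOf g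
    · simp [hg]
    · simp only [if_neg hg, hA]
      rw [hsum fun φ => (contribN p φ χ.1 : ℂ) / q * (φ : G → ℂ) g,
        Finset.sum_congr rfl fun φ _ => show (contribN p φ χ.1 : ℂ) / q * (φ : G → ℂ) g =
          (contribN p χ.1 φ : ℂ) * (φ : G → ℂ) g / q by rw [contribN_comm]; ring,
        ← Finset.sum_div, sum_bset_apply hM hB χ.2, if_neg hg, ← hqdef,
        mul_div_cancel_left₀ _ hq]
  have hker : LinearMap.ker P = LinearMap.ker T := by
    ext c
    simp only [LinearMap.mem_ker]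
    constructor
    · intro h
      rw [← hTP, h, map_zero]
    · intro h
      funext φ
      rw [hPc, Pi.zero_apply]
      have h2 : ∑ χ : B, c χ * regSum p (χ.1 : G → ℂ) (φ.1 : G → ℂ) = 0 := by
        simp only [regSum_eq_sum, Finset.mul_sum]
        rw [Finset.sum_comm]
        refine Finset.sum_eq_zero fun g _ => ?_
        have := congrFun h g
        rw [hTc, Pi.zero_apply] at this
        rw [Finset.sum_congr rfl fun χ _ => show
          c χ * (if p ∣ orderOf g then 0 else (χ.1 : G → ℂ) g * (φ.1 : G → ℂ) g⁻¹) =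
            c χ * (if p ∣ orderOf g then 0 else (χ.1 : G → ℂ) g) * (φ.1 : G → ℂ) g⁻¹ by
          split_ifs <;> ring, ← Finset.sum_mul, this, zero_mul]
      simp only [regSum_eq_contribN] at h2
      refine mul_left_cancel₀ (mul_ne_zero hm hq) ?_
      rw [mul_zero, ← h2, Finset.mul_sum]
      refine Finset.sum_congr rfl fun χ _ => ?_
      simp only [hA]
      rw [contribN_comm p φ.1 χ.1]
      field_simp
  have hidem : ∀ c, P (P c) = P c := by
    intro c
    have : P c - c ∈ LinearMap.ker P := by rw [hker, LinearMap.mem_ker, map_sub, hTP, sub_self]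
    rwa [LinearMap.mem_ker, map_sub, sub_eq_zero] at this
  have hproj : LinearMap.IsProj (LinearMap.range P) P :=
    ⟨fun c => LinearMap.mem_range_self P c, by rintro _ ⟨c, rfl⟩; exact hidem c⟩
  have h1 : Cfsg.blockRank p B = Module.finrank ℂ (LinearMap.range P) := by
    have e : Cfsg.blockRank p B = Module.finrank ℂ (LinearMap.range T) := by
      rw [Cfsg.blockRank, hT, Fintype.range_linearCombination, Set.image_eq_range]
    have a1 := LinearMap.finrank_range_add_finrank_ker P
    have a2 := LinearMap.finrank_range_add_finrank_ker T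
    rw [hker] at a1
    omega
  have h2 : LinearMap.trace ℂ _ P = (Cfsg.blockRank p B : ℂ) := by rw [hproj.trace, h1]
  rw [hP, Matrix.trace_toLin'_eq, Matrix.trace] at h2
  simp only [Matrix.diag, hA] at h2
  rw [hsum fun φ => (contribN p φ φ : ℂ) / q, ← Finset.sum_div, div_eq_iff hq, hqdef] at h2
  rw [mul_comm]
  exact_mod_cast h2

/-- A block with a single character has defect zero, and conversely. -/
theorem card_eq_one_iff : Nat.card B = 1 ↔ Cfsg.blockDefect p B = 0 := by
  classical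
  have hp : p.Prime := Fact.out
  obtain ⟨χ, hχ, h0⟩ := exists_height_zero (p := p) hB
  have had := minVdeg_add_blockDefect (p := p) hB
  rw [← card_bset]
  constructor
  · intro h
    obtain ⟨ψ, hψ⟩ := Finset.card_eq_one.mp h
    have hχ' := mem_bset.mpr hχ
    rw [hψ, Finset.mem_singleton] at hχ'
    subst hχ'
    have hsq := sum_bset_sq hM hB hχ
    rw [hψ, Finset.sum_singleton, pow_two] at hsq
    have hN := mul_right_cancel₀ (contribN_self_pos hM hB hχ).ne' hsq
    have hnd := not_dvd_contribN hM hB hχ h0 hχ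
    rw [hN, h0] at hnd
    by_contra hd
    exact hnd (pow_dvd_pow _ (by omega))
  · intro hd
    refine Finset.card_eq_one.mpr ⟨χ, ?_⟩
    ext φ
    rw [Finset.mem_singleton]
    refine ⟨fun hφ => ?_, fun h => h ▸ mem_bset.mpr hχ⟩
    by_contra hne
    have hv : vdeg p φ = minVdeg p B := by
      have := vdeg_le p φ
      have := minVdeg_le (p := p) (mem_bset.mp hφ)
      omega
    have hlt : contribN p χ χ < (p : ℤ) ^ (Nat.card G).factorization p := by
      have h1 := sum_erase_sq hM hB hχ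
      have h2 : 0 < ∑ θ ∈ (bset B).erase χ, contribN p χ θ ^ 2 :=
        Finset.sum_pos' (fun θ _ => sq_nonneg _) ⟨φ, Finset.mem_erase.mpr ⟨hne, hφ⟩,
          lt_of_le_of_ne (sq_nonneg _) (pow_ne_zero 2 (contribN_ne_zero hM hB hχ h0
            (mem_bset.mp hφ))).symm⟩
      rw [h1] at h2
      have := (pos_iff_pos_of_mul_pos h2).mp (contribN_self_pos hM hB hχ)
      linarith
    have hle := Int.le_of_dvd (contribN_self_pos hM hB hχ)
      (pow_minVdeg_dvd_contribN hM hχ χ)
    rw [show minVdeg p B = (Nat.card G).factorization p by omega] at hle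
    exact absurd hle (not_le.mpr hlt)

theorem blockRank_eq_card_iff : Cfsg.blockRank p B = Nat.card B ↔ Cfsg.blockDefect p B = 0 := by
  classical
  rw [← card_eq_one_iff hM hB]
  have htr := sum_contribN_self hM hB
  obtain ⟨χ₀, hχ₀, h0⟩ := exists_height_zero (p := p) hB
  constructor
  · intro h
    rw [← card_bset, Finset.card_eq_one]
    refine ⟨χ₀, ?_⟩
    have hall : ∀ χ ∈ bset B, contribN p χ χ = (p : ℤ) ^ (Nat.card G).factorization p := by
      refine (Finset.sum_eq_sum_iff_of_le fun χ hχ =>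
        contribN_self_le hM hB (mem_bset.mp hχ)).mp ?_
      rw [htr, h, Finset.sum_const, nsmul_eq_mul, card_bset, mul_comm]
    ext φ
    rw [Finset.mem_singleton]
    refine ⟨fun hφ => ?_, fun e => e ▸ mem_bset.mpr hχ₀⟩
    by_contra hne
    have h1 := sum_erase_sq hM hB hχ₀
    rw [hall χ₀ (mem_bset.mpr hχ₀), sub_self, mul_zero,
      Finset.sum_eq_zero_iff_of_nonneg fun θ _ => sq_nonneg _] at h1
    exact contribN_ne_zero hM hB hχ₀ h0 (mem_bset.mp hφ)
      (pow_eq_zero_iff two_ne_zero |>.mp (h1 φ (Finset.mem_erase.mpr ⟨hne, hφ⟩)))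
  · intro h
    have hle := blockRank_le (p := p) (B := B)
    have hpos : 0 < ∑ χ ∈ bset B, contribN p χ χ :=
      Finset.sum_pos (fun χ hχ => contribN_self_pos hM hB (mem_bset.mp hχ))
        ⟨χ₀, mem_bset.mpr hχ₀⟩
    rw [htr] at hpos
    have : Cfsg.blockRank p B ≠ 0 := fun e => by simp [e] at hpos
    omega

/-- The exponent of `p` in the sum of the squares of the degrees of a block is `2 * a - d`. -/
theorem factorization_sum_sq :
    (∑ χ ∈ bset B, Cfsg.charDegree (χ : G → ℂ) ^ 2).factorization p =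
      (Nat.card G).factorization p + minVdeg p B := by
  classical
  have hp : p.Prime := Fact.out
  have hpZ : Prime (p : ℤ) := Nat.prime_iff_prime_int.mp hp
  obtain ⟨n, hn⟩ := exists_degree_expansion hM hB
  set a := (Nat.card G).factorization p
  set e := minVdeg p B with he
  set T : ℤ := ∑ φ ∈ bset B, ((Cfsg.charDegree (φ : G → ℂ) / p ^ e : ℕ) : ℤ) * n φ with hT
  have hdiv : ∀ φ ∈ bset B, p ^ e * (Cfsg.charDegree (φ : G → ℂ) / p ^ e) =
      Cfsg.charDegree (φ : G → ℂ) := fun φ hφ =>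
    Nat.mul_div_cancel' ((pow_dvd_pow p (minVdeg_le (mem_bset.mp hφ))).trans
      ⟨_, (pow_vdeg_mul_udeg p φ).symm⟩)
  have hS : (∑ φ ∈ bset B, (Cfsg.charDegree (φ : G → ℂ) : ℤ) ^ 2) = (p : ℤ) ^ (a + e) * T := by
    calc ∑ φ ∈ bset B, (Cfsg.charDegree (φ : G → ℂ) : ℤ) ^ 2
        = ∑ φ ∈ bset B, ∑ ψ ∈ bset B,
            (Cfsg.charDegree (φ : G → ℂ) : ℤ) * (contribN p φ ψ * n ψ) := by
          refine Finset.sum_congr rfl fun φ hφ => ?_
          rw [← Finset.mul_sum, hn φ (mem_bset.mp hφ), pow_two]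
      _ = ∑ ψ ∈ bset B, (∑ φ ∈ bset B,
            contribN p ψ φ * (Cfsg.charDegree (φ : G → ℂ) : ℤ)) * n ψ := by
          rw [Finset.sum_comm]
          refine Finset.sum_congr rfl fun ψ _ => ?_
          rw [Finset.sum_mul]
          exact Finset.sum_congr rfl fun φ _ => by rw [contribN_comm p φ ψ]; ring
      _ = (p : ℤ) ^ (a + e) * T := by
          rw [hT, Finset.mul_sum]
          refine Finset.sum_congr rfl fun ψ hψ => ?_
          rw [sum_bset_degree hM hB (mem_bset.mp hψ)]
          conv_lhs => rw [← hdiv ψ hψ]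
          push_cast
          ring
  obtain ⟨χ, hχ, h0⟩ := exists_height_zero (p := p) hB
  rw [← he] at h0
  obtain ⟨r, hr⟩ := pow_vdeg_dvd_contribN hM χ χ
  have hTdvd : ¬ (p : ℤ) ∣ T := by
    intro hd
    have key : ∀ φ ∈ bset B, ∃ k : ℤ, contribN p χ φ * (udeg p χ : ℤ) =
        (p : ℤ) ^ e * (r * ((Cfsg.charDegree (φ : G → ℂ) / p ^ e : ℕ) : ℤ)) +
          (p : ℤ) ^ (e + 1) * k := by
      intro φ hφ
      have hφB := mem_bset.mp hφ
      obtain ⟨s, hs⟩ := pow_vdeg_dvd_contribN hM φ χ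
      obtain ⟨c, hc⟩ := contribN_congr hM hB hφB hχ χ hs hr
      have hle : e ≤ vdeg p φ := minVdeg_le hφB
      obtain ⟨j, hj⟩ := Nat.exists_eq_add_of_le hle
      have hq : Cfsg.charDegree (φ : G → ℂ) / p ^ e = p ^ j * udeg p φ := by
        rw [← pow_vdeg_mul_udeg p φ, hj, pow_add, mul_assoc,
          Nat.mul_div_cancel_left _ (pow_pos hp.pos _)]
      refine ⟨(p : ℤ) ^ j * c, ?_⟩
      rw [contribN_comm, hs, hj, hq, pow_add]
      push_cast
      linear_combination ((p : ℤ) ^ e * (p : ℤ) ^ j) * hc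
    choose k hk using key
    have h1 : (p : ℤ) ^ (e + 1) ∣
        (Cfsg.charDegree (χ : G → ℂ) : ℤ) * (udeg p χ : ℤ) := by
      rw [← hn χ hχ, Finset.sum_mul, ← Finset.sum_attach,
        Finset.sum_congr rfl fun φ _ => show contribN p χ φ.1 * n φ.1 * (udeg p χ : ℤ) =
          (p : ℤ) ^ e * (r * ((Cfsg.charDegree (φ.1 : G → ℂ) / p ^ e : ℕ) : ℤ) * n φ.1) +
            (p : ℤ) ^ (e + 1) * (k φ.1 φ.2 * n φ.1) by
          linear_combination (n φ.1) * hk φ.1 φ.2,
        Finset.sum_add_distrib, ← Finset.mul_sum, ← Finset.mul_sum]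
      refine dvd_add ?_ (dvd_mul_right _ _)
      rw [pow_succ]
      refine mul_dvd_mul_left _ ?_
      rw [Finset.sum_attach (bset B)
        (fun φ => r * ((Cfsg.charDegree (φ : G → ℂ) / p ^ e : ℕ) : ℤ) * n φ)]
      simp only [mul_assoc, ← Finset.mul_sum]
      exact hd.mul_left r
    rw [← pow_vdeg_mul_udeg p χ, h0] at h1
    push_cast at h1
    rw [pow_succ, mul_assoc, mul_dvd_mul_iff_left (pow_ne_zero _ (mod_cast hp.ne_zero))] at h1
    exact not_dvd_udeg hp χ (by exact_mod_cast (hpZ.dvd_or_dvd h1).elim id id)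
  have hpos : (0 : ℤ) ≤ T := by
    have h : (0 : ℤ) ≤ (p : ℤ) ^ (a + e) * T := hS ▸ Finset.sum_nonneg fun φ _ => sq_nonneg _
    exact nonneg_of_mul_nonneg_right h (pow_pos (mod_cast hp.pos) _)
  obtain ⟨t, ht⟩ := Int.eq_ofNat_of_zero_le hpos
  have hnat : ∑ φ ∈ bset B, Cfsg.charDegree (φ : G → ℂ) ^ 2 = p ^ (a + e) * t := by
    rw [ht] at hS
    exact_mod_cast hS
  have ht' : ¬ p ∣ t := fun h => hTdvd (ht ▸ Int.natCast_dvd_natCast.mpr h)
  rw [hnat, Nat.factorization_mul (pow_ne_zero _ hp.ne_zero) (fun h => ht' (by subst h; exact dvd_zero p)),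
    Nat.Prime.factorization_pow hp, Finsupp.add_apply, Finsupp.single_eq_same,
    Nat.factorization_eq_zero_of_not_dvd ht', add_zero]

end Cfsg.Agent.Lib.Blocks.Contrib
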