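import Cfsg.Agent.Lib.Blocks.Vanishing
import Cfsg.Agent.Lib.BrauerMap.Induced
import Cfsg.Agent.Lib.Characters.Complete

/-!
# Brauer's second main theorem

If an idempotent `f` of the group algebra over the local ring commutes with `h` and its
coefficients at the centraliser of the `p`-part of `h` vanish modulo `M`, then every character
vanishes at `h * f`.  Applied to `f = e_B * e_b` this is the second main theorem.
-/

namespace Cfsg.Agent.Lib.Blocks

open MonoidAlgebra Cfsg.Agent.Lib.BrauerMap.Basic Cfsg.Agent.Lib.BrauerMap.ClassSum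
open Cfsg.Agent.Lib.Characters.Basic
open scoped ComplexConjugate

universe u v w

variable {M : Ideal Cfsg.AlgInt} [M.IsMaximal] {p : ℕ}

/-! ## Endomorphisms congruent to the identity -/

theorem isUnit_one_sub_of_residue_eq_zero {V : Type v} [AddCommGroup V]
    [Module (localRing M) V] [Module.Free (localRing M) V] [Module.Finite (localRing M) V]
    {ι : Type w} (s : Finset ι) (d : ι → localRing M) (X : ι → Module.End (localRing M) V)
    (hd : ∀ i ∈ s, residue M (d i) = 0) : IsUnit (1 - ∑ i ∈ s, d i • X i) := by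
  classical
  set b := Module.Free.chooseBasis (localRing M) V
  set A := LinearMap.toMatrix b b (1 - ∑ i ∈ s, d i • X i) with hA
  have hmap : (residue M).mapMatrix A = 1 := by
    rw [hA, map_sub, LinearMap.toMatrix_one, map_sub, map_one, map_sum, map_sum,
      Finset.sum_eq_zero, sub_zero]
    intro i hi
    ext j l
    rw [RingHom.mapMatrix_apply, Matrix.map_apply, map_smul, Matrix.smul_apply, smul_eq_mul,
      map_mul, hd i hi, zero_mul]
    rfl
  have hdet : IsUnit A.det := by
    rw [isUnit_localRing_iff, RingHom.map_det, hmap, Matrix.det_one]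
    exact one_ne_zero
  have hAu := (Matrix.isUnit_iff_isUnit_det A).mpr hdet
  have h := hAu.map (LinearMap.toMatrixAlgEquiv b).symm
  have e : (LinearMap.toMatrixAlgEquiv b).symm A = 1 - ∑ i ∈ s, d i • X i := by
    rw [AlgEquiv.symm_apply_eq]
    rfl
  rwa [e] at h

theorem sum_range_shift {A : Type v} [AddCommGroup A] (c : ℕ → A) {p : ℕ} (hcp : c p = c 0) :
    ∑ i ∈ Finset.range p, c (i + 1) = ∑ i ∈ Finset.range p, c i := by
  have h1 := Finset.sum_range_succ c p
  rw [Finset.sum_range_succ' c p, hcp] at h1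
  exact add_right_cancel h1

/-- Trace vanishing on the range of an idempotent which is congruent to a relative trace. -/
theorem trace_eq_zero_of_relTrace_congr (hM : Cfsg.IsPModular p M) {V : Type v} [AddCommGroup V]
    [Module (localRing M) V] [Module.Free (localRing M) V] [Module.Finite (localRing M) V]
    {σ σ' a E D : Module.End (localRing M) V} {k m : ℕ} (hσ : σ ^ p ^ k = 1)
    (h₁ : σ * σ' = 1) (h₂ : σ' * σ = 1) (ha : Commute a (σ ^ p))
    {ι : Type w} (s : Finset ι) (d : ι → localRing M) (X : ι → Module.End (localRing M) V)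
    (hd : ∀ i ∈ s, residue M (d i) = 0) (hX : ∀ i ∈ s, Commute (X i) E)
    (hsum : (∑ i ∈ Finset.range p, σ ^ i * a * σ' ^ i) * E = E - (∑ i ∈ s, d i • X i) * E)
    (haE : Commute a E) (hE : E * E = E) (hcE : Commute σ E) (hm : ¬ p ∣ m)
    (hD : D ^ m = 1) (hcD : Commute σ D) (hDE : Commute D E) :
    LinearMap.trace (localRing M) V (σ * D * E) = 0 := by
  classical
  haveI := free_of_isTorsionFree hM (LinearMap.range E)
  haveI := finite_ker_of_free hM E
  haveI := free_of_isTorsionFree hM (LinearMap.ker E)
  have cf : Commute (σ * D * E) E := (hcE.mul_left hDE).mul_left (Commute.refl E)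
  have cσ' : Commute σ' E := by
    change σ' * E = E * σ'
    calc σ' * E = σ' * E * (σ * σ') := by rw [h₁, mul_one]
      _ = σ' * (E * σ) * σ' := by simp only [mul_assoc]
      _ = σ' * (σ * E) * σ' := by rw [hcE.eq]
      _ = E * σ' := by rw [← mul_assoc σ', h₂, one_mul]
  have hEx : ∀ x ∈ LinearMap.range E, E x = x := by
    rintro _ ⟨y, rfl⟩
    exact LinearMap.congr_fun hE y
  rw [trace_eq_trace_ker_add_trace_range (σ * D * E) E cf (mapsTo_ker_of_commute cf)
    (mapsTo_range_of_commute cf)]
  have hk : (σ * D * E).restrict (mapsTo_ker_of_commute cf) = 0 := by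
    refine LinearMap.ext fun x => Subtype.ext ?_
    have hx : E (x : V) = 0 := x.2
    change σ (D (E (x : V))) = 0
    rw [hx, map_zero, map_zero]
  rw [hk, map_zero, zero_add]
  set σW := σ.restrict (mapsTo_range_of_commute hcE) with hσW
  set σW' := σ'.restrict (mapsTo_range_of_commute cσ') with hσW'
  set aW := a.restrict (mapsTo_range_of_commute haE) with haW
  set XW : ι → Module.End (localRing M) (LinearMap.range E) := fun i =>
    if hi : i ∈ s then (X i).restrict (mapsTo_range_of_commute (hX i hi)) else 0 with hXW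
  have hr : (σ * D * E).restrict (mapsTo_range_of_commute cf) =
      σW * D.restrict (mapsTo_range_of_commute hDE) * 1 := by
    refine LinearMap.ext fun x => Subtype.ext ?_
    change σ (D (E (x : V))) = σ (D (x : V))
    rw [hEx x x.2]
  rw [hr]
  have hr1 : σW * σW' = 1 := by
    refine LinearMap.ext fun x => Subtype.ext ?_
    exact LinearMap.congr_fun h₁ (x : V)
  have hr2 : σW' * σW = 1 := by
    refine LinearMap.ext fun x => Subtype.ext ?_
    exact LinearMap.congr_fun h₂ (x : V)
  have hac : Commute aW (σW ^ p) := by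
    rw [hσW, Module.End.pow_restrict p (mapsTo_range_of_commute hcE)]
    refine LinearMap.ext fun x => Subtype.ext ?_
    exact LinearMap.congr_fun ha (x : V)
  set uW := ∑ i ∈ Finset.range p, σW ^ i * aW * σW' ^ i with huW
  have hu : uW = 1 - ∑ i ∈ s, d i • XW i := by
    refine LinearMap.ext fun x => Subtype.ext ?_
    have h := LinearMap.congr_fun hsum (x : V)
    simp only [LinearMap.sub_apply, Module.End.mul_apply, hEx x x.2, LinearMap.sum_apply,
      LinearMap.smul_apply] at h
    simp only [huW, LinearMap.sub_apply, LinearMap.sum_apply, Module.End.one_apply,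
      Module.End.mul_apply, LinearMap.smul_apply, Submodule.coe_sum, AddSubgroupClass.coe_sub,
      Submodule.coe_smul]
    refine Eq.trans (Finset.sum_congr rfl fun i _ => ?_) (h.trans ?_)
    · rw [hσW, hσW', Module.End.pow_restrict i (mapsTo_range_of_commute hcE),
        Module.End.pow_restrict i (mapsTo_range_of_commute cσ')]
      rfl
    · refine congrArg ((x : V) - ·) (Finset.sum_congr rfl fun i hi => ?_)
      simp only [hXW, dif_pos hi]
      rfl
  have huu : IsUnit uW := hu ▸ isUnit_one_sub_of_residue_eq_zero s d XW hd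
  obtain ⟨U, hU⟩ := huu
  -- the relative trace commutes with `σW`
  have hcu : Commute σW uW := by
    change σW * uW = uW * σW
    have hshift : σW * uW * σW' = uW := by
      rw [huW, Finset.mul_sum, Finset.sum_mul]
      simp only [← mul_assoc, ← pow_succ']
      simp only [mul_assoc, ← pow_succ]
      simp only [← mul_assoc]
      set c : ℕ → Module.End (localRing M) (LinearMap.range E) :=
        fun i => σW ^ i * aW * σW' ^ i with hc
      have hcp : c p = c 0 := by
        have hcomm : Commute σW σW' := hr1.trans hr2.symm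
        simp only [hc, pow_zero, mul_one, one_mul]
        rw [← hac.eq, mul_assoc, ← hcomm.mul_pow, hr1, one_pow, mul_one]
      change ∑ i ∈ Finset.range p, c (i + 1) = ∑ i ∈ Finset.range p, c i
      exact sum_range_shift c hcp
    calc σW * uW = σW * uW * (σW' * σW) := by rw [hr2, mul_one]
      _ = (σW * uW * σW') * σW := by simp only [mul_assoc]
      _ = uW * σW := by rw [hshift]
  have hcU : Commute σW (↑U⁻¹ : Module.End (localRing M) (LinearMap.range E)) :=
    Commute.units_inv_right (hU.symm ▸ hcu)
  have hcU' : Commute σW' (↑U⁻¹ : Module.End (localRing M) (LinearMap.range E)) := by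
    change σW' * ↑U⁻¹ = ↑U⁻¹ * σW'
    calc σW' * ↑U⁻¹ = σW' * ↑U⁻¹ * (σW * σW') := by rw [hr1, mul_one]
      _ = σW' * (↑U⁻¹ * σW) * σW' := by simp only [mul_assoc]
      _ = σW' * (σW * ↑U⁻¹) * σW' := by rw [hcU.eq]
      _ = ↑U⁻¹ * σW' := by rw [← mul_assoc σW', hr2, one_mul]
  refine trace_eq_zero_of_isHigman_twist hM (σ' := σW')
    (a := aW * (↑U⁻¹ : Module.End (localRing M) (LinearMap.range E))) (k := k) (m := m) ?_
    { right_inv := hr1
      left_inv := hr2
      comm := hac.mul_left (hcU.symm.pow_right p)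
      sum_eq := ?_ } (mul_one 1)
    (Commute.one_right _) hm ?_ (commute_restrict hcD _ _) (Commute.one_right _)
  · rw [hσW, Module.End.pow_restrict (p ^ k) (mapsTo_range_of_commute hcE)]
    refine LinearMap.ext fun x => Subtype.ext ?_
    exact LinearMap.congr_fun hσ (x : V)
  · calc ∑ i ∈ Finset.range p, σW ^ i * (aW * ↑U⁻¹) * σW' ^ i
        = ∑ i ∈ Finset.range p, σW ^ i * aW * σW' ^ i * ↑U⁻¹ := by
          refine Finset.sum_congr rfl fun i _ => ?_
          simp only [mul_assoc]
          rw [(hcU'.pow_left i).eq]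
      _ = uW * ↑U⁻¹ := by rw [huW, Finset.sum_mul]
      _ = 1 := by rw [← hU, Units.mul_inv]
  · rw [Module.End.pow_restrict m (mapsTo_range_of_commute hDE)]
    refine LinearMap.ext fun x => Subtype.ext ?_
    exact LinearMap.congr_fun hD (x : V)

/-! ## The bimodule trace of an arbitrary element -/

variable {G : Type u} [Group G] [Finite G]

theorem trace_twoSided_mulLeft_eq {R : Type w} [CommRing R] [Fintype G] (e : MonoidAlgebra R G)
    (g h : G) :
    LinearMap.trace R (MonoidAlgebra R G) (twoSided R (g, h) * LinearMap.mulLeft R e) =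
      ∑ v : G, e.coeff (g⁻¹ * (v * h * v⁻¹)) := by
  classical
  set b : Module.Basis G R (MonoidAlgebra R G) :=
    Module.Basis.ofRepr (MonoidAlgebra.coeffLinearEquiv R) with hb
  rw [LinearMap.trace_eq_matrix_trace R b, Matrix.trace]
  refine Finset.sum_congr rfl fun v _ => ?_
  have hbv : b v = single v 1 := by
    apply MonoidAlgebra.coeff_injective
    simp [hb]
  rw [Matrix.diag, LinearMap.toMatrix_apply, hbv, Module.End.mul_apply, LinearMap.mulLeft_apply,
    twoSided_apply]
  change (single g 1 * (e * single v 1) * single h⁻¹ 1).coeff v = _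
  rw [coeff_mul_single_apply, coeff_single_mul_apply, coeff_mul_single_apply]
  simp only [one_mul, mul_one, inv_inv]
  simp only [mul_assoc]

/-- The bimodule trace in terms of characters. -/
theorem sum_coeff_conj_eq [Fintype G] [Fintype (Cfsg.IrrCharacter G)] (f : MonoidAlgebra ℂ G)
    (g h : G) :
    ∑ v : G, f.coeff (g⁻¹ * (v * h * v⁻¹)) =
      ∑ χ : Cfsg.IrrCharacter G, lin (χ : G → ℂ) (single g 1 * f) * (χ : G → ℂ) h⁻¹ := by
  classical
  induction f using MonoidAlgebra.induction_linear with
  | zero => simp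
  | add x y hx hy =>
    simp only [coeff_add, Finsupp.add_apply, Finset.sum_add_distrib, mul_add, map_add, add_mul,
      hx, hy]
  | single w r =>
    simp only [single_mul_single, lin_single, one_mul, coeff_single, Finsupp.single_apply]
    simp only [mul_assoc r, ← Finset.mul_sum]
    have hcol := Cfsg.Agent.Lib.Characters.Complete.sum_irr_mul_conj (g * w) h
    simp only [← apply_inv (isCharacter_irr _)] at hcol
    rw [hcol, ← Finset.sum_filter, Finset.sum_const, nsmul_eq_mul]
    have hfil : ∀ v : G, w = g⁻¹ * (v * h * v⁻¹) ↔ v * h * v⁻¹ = g * w := fun v =>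
      ⟨fun e => by rw [e, mul_inv_cancel_left], fun e => by rw [e, inv_mul_cancel_left]⟩
    rw [Finset.filter_congr fun v _ => hfil v]
    split_ifs with hc
    · obtain ⟨t, ht⟩ := isConj_iff.mp hc.symm
      rw [mul_comm]
      congr 2
      rw [← ht, centralizer_card_eq t h, ← Fintype.card_subtype, ← Nat.card_eq_fintype_card]
      refine Nat.card_congr ((Equiv.mulLeft t⁻¹).subtypeEquiv fun v => ?_)
      rw [Subgroup.mem_centralizer_singleton_iff, Equiv.coe_mulLeft]
      constructor
      · intro e
        have e2 := congrArg (fun z => t⁻¹ * z * v) e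
        simpa [mul_assoc] using e2
      · intro e
        have e2 := congrArg (fun z => t * z * v⁻¹) e
        simpa [mul_assoc] using e2
    · rw [Finset.card_eq_zero.mpr, Nat.cast_zero, zero_mul, mul_zero]
      rw [Finset.filter_eq_empty_iff]
      exact fun v _ e => hc (isConj_iff.mpr ⟨v, e⟩).symm
  where
  centralizer_card_eq (t h : G) :
      Nat.card (Subgroup.centralizer ({t * h * t⁻¹} : Set G)) =
        Nat.card (Subgroup.centralizer ({h} : Set G)) := by
    have e : IsConj h (t * h * t⁻¹) := isConj_iff.mpr ⟨t, rfl⟩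
    have h1 := (Subgroup.centralizer ({h} : Set G)).index_mul_card
    rw [centralizer_index_eq_of_isConj e,
      ← (Subgroup.centralizer ({t * h * t⁻¹} : Set G)).index_mul_card] at h1
    exact (Nat.eq_of_mul_eq_mul_left
      (Nat.pos_of_ne_zero Subgroup.index_ne_zero_of_finite) h1).symm

/-- **Second main theorem, idempotent form.** An idempotent commuting with the parts `x`, `y` of
`h = x * y` and vanishing modulo `M` on the centraliser of `x` is killed by all characters at
`h`. -/
theorem lin_single_mul_eq_zero (hM : Cfsg.IsPModular p M)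
    {f : MonoidAlgebra (localRing M) G} (hf : f * f = f) {x y : G} {i : ℕ}
    (hx : orderOf x = p ^ i) (hy : ¬ p ∣ orderOf y) (hxy : Commute x y)
    (hfx : Commute (single x 1) f) (hfy : Commute (single y 1) f)
    (hfix : ∀ v ∈ Subgroup.centralizer ({x} : Set G), residue M (f.coeff v) = 0)
    (χ : Cfsg.IrrCharacter G) :
    lin (χ : G → ℂ)
      (single (x * y) 1 * MonoidAlgebra.mapRingHom G (localRing M).subtype f) = 0 := by
  classical
  haveI := Fintype.ofFinite G
  haveI := Fintype.ofFinite (Cfsg.IrrCharacter G)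
  haveI : Module.Free (localRing M) (MonoidAlgebra (localRing M) G) :=
    Module.Free.of_equiv (MonoidAlgebra.coeffLinearEquiv (localRing M)).symm
  haveI : Module.Finite (localRing M) (MonoidAlgebra (localRing M) G) :=
    Module.Finite.equiv (MonoidAlgebra.coeffLinearEquiv (localRing M)).symm
  -- coefficients are invariant under conjugation by `x`
  have hinv : ∀ v : G, f.coeff (x * v * x⁻¹) = f.coeff v := fun v => by
    have h1 := congrArg (fun z : MonoidAlgebra (localRing M) G => z.coeff (x * v)) hfx.eq
    simp only [coeff_single_mul_apply, coeff_mul_single_apply, one_mul, mul_one,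
      inv_mul_cancel_left] at h1
    exact h1.symm
  have hfixmem : ∀ v, x * v * x⁻¹ = v ↔ v ∈ Subgroup.centralizer ({x} : Set G) := fun v => by
    rw [Subgroup.mem_centralizer_singleton_iff, mul_inv_eq_iff_eq_mul]
    exact eq_comm
  -- orbit classes on the moved elements
  let X := {v : G // x * v * x⁻¹ ≠ v}
  let π : Equiv.Perm X := ((MulAut.conj x).toEquiv.subtypeEquiv fun v => by
    simp only [MulEquiv.toEquiv_eq_coe, EquivLike.coe_coe, MulAut.conj_apply]
    constructor <;> intro h e <;> apply h
    · simpa [mul_assoc] using congrArg (fun z => x⁻¹ * z * x) e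
    · exact congrArg (fun z => x * z * x⁻¹) e)
  have hπn : ∀ (n : ℕ) (v : X), (((π ^ n) v : X) : G) = x ^ n * v * (x ^ n)⁻¹ := by
    intro n
    induction n with
    | zero => simp
    | succ n ih =>
      intro v
      rw [pow_succ' π, Equiv.Perm.mul_apply, pow_succ' x, mul_inv_rev]
      change x * (((π ^ n) v : X) : G) * x⁻¹ = _
      rw [ih]
      simp only [mul_assoc]
  have hπk : π ^ p ^ i = 1 := Equiv.ext fun v => Subtype.ext (by
    rw [hπn, ← hx, pow_orderOf_eq_one]
    simp)
  have hπfix : ∀ v : X, π v ≠ v := fun v e => v.2 (congrArg Subtype.val e)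
  obtain ⟨S, hS, hS'⟩ := exists_orbit_class hM.1 π hπk hπfix
  let S₀ : G → Prop := fun v => ∃ h : x * v * x⁻¹ ≠ v, S ⟨v, h⟩
  let a₀ : MonoidAlgebra (localRing M) G := ∑ v : G with S₀ v, single v (f.coeff v)
  let fx : MonoidAlgebra (localRing M) G :=
    ∑ v : G with x * v * x⁻¹ = v, single v (f.coeff v)
  have hfinv : ∀ (n : ℕ) (v : G), f.coeff (x ^ n * v * (x ^ n)⁻¹) = f.coeff v := by
    intro n
    induction n with
    | zero => simp
    | succ n ih =>
      intro v
      rw [pow_succ', mul_inv_rev, show x * x ^ n * v * ((x ^ n)⁻¹ * x⁻¹) =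
        x * (x ^ n * v * (x ^ n)⁻¹) * x⁻¹ by group, hinv, ih]
  have hcoa : ∀ w, a₀.coeff w = if S₀ w then f.coeff w else 0 := fun w => by
    simp only [a₀, coeff_sum, Finsupp.finsetSum_apply, coeff_single, Finsupp.single_apply]
    rw [Finset.sum_ite_eq']
    simp [Finset.mem_filter]
  have hcfx : ∀ w, fx.coeff w = if x * w * x⁻¹ = w then f.coeff w else 0 := fun w => by
    simp only [fx, coeff_sum, Finsupp.finsetSum_apply, coeff_single, Finsupp.single_apply]
    rw [Finset.sum_ite_eq']
    simp [Finset.mem_filter]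
  have hshift : ∀ (n : ℕ) (w : G),
      (single (x ^ n) 1 * a₀ * single (x ^ n)⁻¹ 1).coeff w =
        if S₀ ((x ^ n)⁻¹ * w * x ^ n) then f.coeff w else 0 := by
    intro n w
    rw [coeff_mul_single_apply, coeff_single_mul_apply, inv_inv]
    simp only [one_mul, mul_one]
    rw [hcoa, ← hfinv n ((x ^ n)⁻¹ * (w * x ^ n))]
    simp [mul_assoc]
  have hS0 : ∀ (n : ℕ) (v : X), S₀ ((x ^ n)⁻¹ * v * x ^ n) ↔ S ((π⁻¹ ^ n) v) := by
    intro n v
    have hmap : (x ^ n)⁻¹ * (v : G) * x ^ n = (((π⁻¹ ^ n) v : X) : G) := by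
      have h1 := hπn n ((π⁻¹ ^ n) v)
      rw [← Equiv.Perm.mul_apply, inv_pow, mul_inv_cancel, Equiv.Perm.one_apply] at h1
      rw [h1, inv_pow]
      simp [mul_assoc]
    rw [hmap]
    exact ⟨fun ⟨_, h⟩ => h, fun h => ⟨((π⁻¹ ^ n) v).2, h⟩⟩
  have htr : ∑ n ∈ Finset.range p, single (x ^ n) 1 * a₀ * single (x ^ n)⁻¹ 1 = f - fx := by
    refine MonoidAlgebra.coeff_injective (Finsupp.ext fun w => ?_)
    rw [coeff_sum, Finsupp.finsetSum_apply, coeff_sub, Finsupp.sub_apply, hcfx]
    simp only [hshift]
    by_cases hw : x * w * x⁻¹ = w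
    · rw [if_pos hw, sub_self]
      refine Finset.sum_eq_zero fun n _ => if_neg ?_
      rintro ⟨hne, -⟩
      apply hne
      have hc : Commute x w := mul_inv_eq_iff_eq_mul.mp hw
      rw [mul_assoc ((x ^ n)⁻¹), ← (hc.pow_left n).eq, inv_mul_cancel_left, hw]
    · rw [if_neg hw, sub_zero]
      obtain ⟨i₀, ⟨hi₀, hSi₀⟩, huniq⟩ := hS' ⟨w, hw⟩
      refine (Finset.sum_eq_single i₀ ?_ ?_).trans (if_pos ((hS0 i₀ ⟨w, hw⟩).mpr hSi₀))
      · intro n hn hne
        exact if_neg fun h => hne (huniq n ⟨Finset.mem_range.mp hn, (hS0 n ⟨w, hw⟩).mp h⟩)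
      · exact fun h => absurd (Finset.mem_range.mpr hi₀) h
  have hfxn : ∀ n : ℕ, Commute (single (x ^ n) 1) f := fun n => by
    have h := hfx.pow_left n
    rwa [single_pow, one_pow] at h
  have hfxn' : ∀ n : ℕ, Commute (single (x ^ n)⁻¹ 1) f := fun n => by
    change _ = _
    calc single (x ^ n)⁻¹ 1 * f
        = single (x ^ n)⁻¹ 1 * (f * (single (x ^ n) 1 * single (x ^ n)⁻¹ 1)) := by
          rw [single_mul_single, mul_inv_cancel, one_mul, ← one_def, mul_one]
      _ = single (x ^ n)⁻¹ 1 * (single (x ^ n) 1 * (f * single (x ^ n)⁻¹ 1)) := by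
          rw [← mul_assoc f, ← (hfxn n).eq, mul_assoc]
      _ = f * single (x ^ n)⁻¹ 1 := by
          rw [← mul_assoc, single_mul_single, inv_mul_cancel, one_mul, ← one_def, one_mul]
  have hap : single (x ^ p) 1 * a₀ * single (x ^ p)⁻¹ 1 = a₀ := by
    refine MonoidAlgebra.coeff_injective (Finsupp.ext fun w => ?_)
    rw [hshift, hcoa]
    by_cases hw : x * w * x⁻¹ = w
    · have hc : Commute x w := mul_inv_eq_iff_eq_mul.mp hw
      rw [mul_assoc ((x ^ p)⁻¹), ← (hc.pow_left p).eq, inv_mul_cancel_left]
    · refine if_congr ?_ rfl rfl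
      rw [hS0 p ⟨w, hw⟩]
      have := hS ((π⁻¹ ^ p) ⟨w, hw⟩)
      rw [← Equiv.Perm.mul_apply, inv_pow, mul_inv_cancel, Equiv.Perm.one_apply] at this
      rw [inv_pow, ← this]
      exact ⟨fun h => ⟨hw, h⟩, fun ⟨_, h⟩ => h⟩
  have hfwf : ∀ w, f * w * f * f = f * w * f ∧ f * (f * w * f) = f * w * f := fun w => by
    constructor
    · rw [mul_assoc (f * w), hf]
    · rw [← mul_assoc f (f * w), ← mul_assoc f f, hf]
  have hcLf : ∀ w, Commute (LinearMap.mulLeft (localRing M) (f * w * f))
      (LinearMap.mulLeft (localRing M) f) := fun w => by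
    refine LinearMap.ext fun t => ?_
    simp only [Module.End.mul_apply, LinearMap.mulLeft_apply, ← mul_assoc]
    rw [(hfwf w).1, hf]
  have hcts : ∀ (z k' : G), Commute (single z 1) f →
      Commute (twoSided (localRing M) (z, k')) (LinearMap.mulLeft (localRing M) f) := by
    intro z k' hz
    refine LinearMap.ext fun t => ?_
    simp only [Module.End.mul_apply, LinearMap.mulLeft_apply, twoSided_apply, ← mul_assoc]
    rw [hz.eq]
  -- vanishing of all pairings
  have hpair : ∀ k : G, ∑ ψ : Cfsg.IrrCharacter G,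
      lin (ψ : G → ℂ)
        (single (x * y) 1 * MonoidAlgebra.mapRingHom G (localRing M).subtype f) *
        (ψ : G → ℂ) k⁻¹ = 0 := by
    intro k
    obtain ⟨z, k', hk, hzk, ⟨j, hj⟩, hk', -, -⟩ :=
      Cfsg.Agent.Lib.Brauer.Induction.exists_pParts p hM.1 k
    have hij : x ^ p ^ (i + j) = 1 ∧ z ^ p ^ (i + j) = 1 := by
      constructor
      · exact orderOf_dvd_iff_pow_eq_one.mp (hx ▸ pow_dvd_pow p (Nat.le_add_right i j))
      · exact orderOf_dvd_iff_pow_eq_one.mp (hj ▸ pow_dvd_pow p (Nat.le_add_left j i))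
    have hconj : ∀ (n : ℕ) (w : MonoidAlgebra (localRing M) G),
        twoSided (localRing M) (x, z) ^ n * LinearMap.mulLeft (localRing M) w *
          twoSided (localRing M) (x⁻¹, z⁻¹) ^ n =
        LinearMap.mulLeft (localRing M) (single (x ^ n) 1 * w * single (x ^ n)⁻¹ 1) := by
      intro n w
      rw [← map_pow, ← map_pow, Prod.pow_mk, Prod.pow_mk, inv_pow, inv_pow]
      refine LinearMap.ext fun t => ?_
      simp only [Module.End.mul_apply, LinearMap.mulLeft_apply, twoSided_apply, inv_inv,
        mul_assoc, single_mul_single]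
      simp [← one_def]
    have key := trace_eq_zero_of_relTrace_congr hM
      (σ := twoSided (localRing M) (x, z)) (σ' := twoSided (localRing M) (x⁻¹, z⁻¹))
      (a := LinearMap.mulLeft (localRing M) (f * a₀ * f))
      (E := LinearMap.mulLeft (localRing M) f) (D := twoSided (localRing M) (y, k'))
      (k := i + j) (m := orderOf y * orderOf k') ?_ ?_ ?_ ?_
      (Finset.univ.filter fun v : G => x * v * x⁻¹ = v) (fun v => f.coeff v)
      (fun v => LinearMap.mulLeft (localRing M) (f * single v 1 * f))
      (fun v hv => hfix v ((hfixmem v).mp (Finset.mem_filter.mp hv).2))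
      (fun v _ => hcLf _) ?_ (hcLf a₀) ?_ (hcts x z hfx) ?_ ?_ ?_ (hcts y k' hfy)
    · rw [← map_mul, Prod.mk_mul_mk, hk, trace_twoSided_mulLeft_eq] at key
      have key' := congrArg (Subring.subtype (localRing M)) key
      rw [map_sum, map_zero] at key'
      rw [← key', ← sum_coeff_conj_eq]
      exact Finset.sum_congr rfl fun v _ => coeff_mapRingHom _ _ _
    · rw [← map_pow, Prod.pow_mk, hij.1, hij.2]
      exact map_one _
    · rw [← map_mul, Prod.mk_mul_mk, mul_inv_cancel, mul_inv_cancel]
      exact map_one _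
    · rw [← map_mul, Prod.mk_mul_mk, inv_mul_cancel, inv_mul_cancel]
      exact map_one _
    · rw [← map_pow, Prod.pow_mk]
      refine LinearMap.ext fun t => ?_
      have h1 : single (x ^ p) 1 * (f * a₀ * f) =
          (f * a₀ * f) * single (x ^ p) (1 : localRing M) := by
        have h3 : single (x ^ p) 1 * a₀ = a₀ * single (x ^ p) (1 : localRing M) := by
          conv_rhs => rw [← hap]
          rw [mul_assoc _ (single (x ^ p)⁻¹ 1), single_mul_single, inv_mul_cancel, one_mul,
            ← one_def, mul_one]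
        rw [← mul_assoc, ← mul_assoc, (hfxn p).eq, mul_assoc f, h3, ← mul_assoc f a₀,
          mul_assoc (f * a₀), (hfxn p).eq, ← mul_assoc]
      simp only [Module.End.mul_apply, LinearMap.mulLeft_apply, twoSided_apply]
      simp only [← mul_assoc] at h1 ⊢
      rw [h1]
    · simp only [hconj]
      refine LinearMap.ext fun t => ?_
      simp only [Module.End.mul_apply, LinearMap.mulLeft_apply, LinearMap.sum_apply,
        LinearMap.sub_apply, LinearMap.smul_apply, ← Finset.sum_mul, ← smul_mul_assoc,
        ← sub_mul, ← mul_assoc]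
      congr 1
      have h5 : ∀ n : ℕ, single (x ^ n) 1 * (f * a₀ * f) * single (x ^ n)⁻¹ 1 =
          f * (single (x ^ n) 1 * a₀ * single (x ^ n)⁻¹ 1) * f := by
        intro n
        rw [← mul_assoc, ← mul_assoc, (hfxn n).eq, mul_assoc _ f (single _ 1),
          ← (hfxn' n).eq]
        simp only [mul_assoc]
      have h6 : ∑ v ∈ (Finset.univ.filter fun v : G => x * v * x⁻¹ = v),
          f.coeff v • f * single v 1 = f * fx := by
        simp only [fx, Finset.mul_sum]
        refine Finset.sum_congr rfl fun v _ => ?_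
        rw [smul_mul_assoc, ← mul_smul_comm, smul_single, smul_eq_mul, mul_one]
      simp only [← mul_assoc] at h5 ⊢
      simp only [h5]
      rw [h6]
      simp only [← Finset.sum_mul]
      rw [Finset.sum_congr rfl fun n _ => show f * single (x ^ n) 1 * a₀ * single (x ^ n)⁻¹ 1 =
        f * (single (x ^ n) 1 * a₀ * single (x ^ n)⁻¹ 1) by simp only [mul_assoc],
        ← Finset.mul_sum, htr, mul_sub, sub_mul, sub_mul, hf, hf, hf]
    · refine LinearMap.ext fun t => ?_
      simp only [Module.End.mul_apply, LinearMap.mulLeft_apply, ← mul_assoc, hf]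
    · exact fun hd => (hM.1.dvd_mul.mp hd).elim hy hk'
    · rw [← map_pow, Prod.pow_mk, orderOf_dvd_iff_pow_eq_one.mp (dvd_mul_right _ _),
        orderOf_dvd_iff_pow_eq_one.mp (dvd_mul_left _ _)]
      exact map_one _
    · exact (Prod.commute_iff.mpr ⟨hxy, hzk⟩).map _
  -- linear independence
  refine Fintype.linearIndependent_iff.mp linearIndependent_irr
    (fun ψ => lin (ψ : G → ℂ)
      (single (x * y) 1 * MonoidAlgebra.mapRingHom G (localRing M).subtype f)) ?_ χ
  funext k
  have := hpair k⁻¹
  rw [inv_inv] at this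
  simpa [Finset.sum_apply] using this

/-! ## Blocks of subgroups -/

theorem isNilpotent_of_omegaBar_eq_zero
    {z : Subalgebra.center (Cfsg.AlgInt ⧸ M) (MonoidAlgebra (Cfsg.AlgInt ⧸ M) G)}
    (h : ∀ χ : Cfsg.IrrCharacter G, omegaBar M χ z = 0) : IsNilpotent z := by
  classical
  haveI := Fintype.ofFinite (Cfsg.IrrCharacter G)
  obtain ⟨w, rfl⟩ := mapCenter_surjective residue_surjective z
  refine ⟨Fintype.card (Cfsg.IrrCharacter G), ?_⟩
  have h1 := congrArg (mapCenter (residue M)) (prod_sub_omegaR_eq_zero w)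
  rw [map_prod, map_zero] at h1
  rw [← Finset.card_univ, ← Finset.prod_const]
  refine Eq.trans (Finset.prod_congr rfl fun χ _ => ?_) h1
  have h2 := h χ
  rw [omegaBar_mapCenter] at h2
  rw [mapCenter_residue_sub, mapCenter_algebraMap, h2, map_zero, sub_zero]

/-- Extension by zero from a subgroup. -/
noncomputable def extHom (R : Type w) [CommRing R] (H : Subgroup G) :
    MonoidAlgebra R H →ₐ[R] MonoidAlgebra R G :=
  MonoidAlgebra.mapDomainAlgHom R R H.subtype

omit [Finite G] in
theorem extHom_single {R : Type w} [CommRing R] (H : Subgroup G) (h : H) (r : R) :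
    extHom R H (single h r) = single (h : G) r := by
  simp [extHom]

omit [Finite G] in
theorem coeff_extHom {R : Type w} [CommRing R] (H : Subgroup G) (z : MonoidAlgebra R H) (h : H) :
    (extHom R H z).coeff (h : G) = z.coeff h := by
  classical
  induction z using MonoidAlgebra.induction_linear with
  | zero => simp
  | add a b ha hb => simp [ha, hb]
  | single a r =>
    rw [extHom_single, coeff_single, coeff_single]
    simp only [Finsupp.single_apply]
    exact if_congr ⟨fun e => Subtype.ext e, fun e => congrArg Subtype.val e⟩ rfl rfl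

omit [Finite G] in
theorem coeff_extHom_of_notMem {R : Type w} [CommRing R] (H : Subgroup G)
    (z : MonoidAlgebra R H) {g : G} (hg : g ∉ H) : (extHom R H z).coeff g = 0 := by
  classical
  induction z using MonoidAlgebra.induction_linear with
  | zero => simp
  | add a b ha hb => simp [ha, hb]
  | single a r =>
    rw [extHom_single, coeff_single]
    exact Finsupp.single_eq_of_ne fun e => hg (e ▸ a.2)

omit [Finite G] in
theorem map_extHom {R : Type w} [CommRing R] {S : Type v} [CommRing S] (φ : R →+* S)
    (H : Subgroup G) (z : MonoidAlgebra R H) :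
    MonoidAlgebra.mapRingHom G φ (extHom R H z) =
      extHom S H (MonoidAlgebra.mapRingHom H φ z) := by
  induction z using MonoidAlgebra.induction_linear with
  | zero => simp
  | add a b ha hb => simp only [map_add, ha, hb]
  | single a r => rw [extHom_single, mapRingHom_single, mapRingHom_single, extHom_single]

/-- The restriction to a subgroup of a central element, as a central element. -/
noncomputable def resCenter {R : Type w} [CommRing R] (H : Subgroup G)
    (z : Subalgebra.center R (MonoidAlgebra R G)) : Subalgebra.center R (MonoidAlgebra R H) :=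
  ⟨brauerTo ⊥ H z.1,
    brauerTo_mem_center (Cfsg.Agent.Lib.BrauerMap.Induced.le_normalizer_bot H) z.2⟩

theorem coeff_resCenter {R : Type w} [CommRing R] (H : Subgroup G)
    (z : Subalgebra.center R (MonoidAlgebra R G)) (h : H) :
    (resCenter H z).1.coeff h = z.1.coeff (h : G) := by
  classical
  show (brauerTo ⊥ H z.1).coeff h = _
  rw [coeff_brauerTo, if_pos]
  rw [Cfsg.Agent.Lib.BrauerMap.Induced.centralizer_bot]
  exact Subgroup.mem_top _

theorem coeff_center_mul_extHom {R : Type w} [CommRing R] (H : Subgroup G)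
    (z : Subalgebra.center R (MonoidAlgebra R G)) (ε : MonoidAlgebra R H) (v : H) :
    (z.1 * extHom R H ε).coeff (v : G) = ((resCenter H z).1 * ε).coeff v := by
  induction ε using MonoidAlgebra.induction_linear with
  | zero => simp
  | add a b ha hb =>
    simp only [map_add, mul_add, coeff_add, Finsupp.add_apply, ha, hb]
  | single w r =>
    rw [extHom_single, coeff_mul_single_apply, coeff_mul_single_apply, coeff_resCenter]
    rfl

/-- **Second main theorem for a block of a subgroup.** Let the centraliser of the `p`-part `x` of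
`h = x * y` lie in `H` and let `b` be a block of `H` whose induced central character kills the
idempotent of the block of `χ`.  Then `χ` vanishes at `e_b * h`. -/
theorem finsum_blockCoeff_mul_eq_zero (hM : Cfsg.IsPModular p M) {H : Subgroup G}
    {b : Set (Cfsg.IrrCharacter H)} (hb : Cfsg.IsPBlock M b) {x y : G} {i : ℕ}
    (hx : orderOf x = p ^ i) (hy : ¬ p ∣ orderOf y) (hxy : Commute x y) (hyH : y ∈ H)
    (hC : Subgroup.centralizer ({x} : Set G) ≤ H) (χ : Cfsg.IrrCharacter G)
    (hne : ∀ ξ ∈ b, Cfsg.Agent.Lib.BrauerMap.Induced.inducedBar M H ξ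
      (blockIdemBar (isPBlock_blockOf (M := M) χ)) = 0) :
    ∑ᶠ k : H, Cfsg.blockCoeff b k * (χ : G → ℂ) ((k : G) * (x * y)) = 0 := by
  classical
  haveI := Fintype.ofFinite G
  haveI := Fintype.ofFinite H
  haveI := Fact.mk hM.1
  haveI := charP_residue hM
  set hB := isPBlock_blockOf (M := M) χ
  set e' := blockIdemR hB
  set ε := blockIdemR hb
  set f := e'.1 * extHom (localRing M) H ε.1 with hfdef
  have hxH : x ∈ H := hC (Subgroup.mem_centralizer_singleton_iff.mpr rfl)
  have hcomm : ∀ z : H, Commute (single (z : G) 1) (extHom (localRing M) H ε.1) := fun z => by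
    rw [← extHom_single]
    exact (show Commute (single z 1) ε.1 from
      Subalgebra.mem_center_iff.mp ε.2 (single z 1)).map (extHom (localRing M) H)
  have hce : ∀ w, Commute w e'.1 := fun w => Subalgebra.mem_center_iff.mp e'.2 w
  have hf : f * f = f := by
    rw [hfdef, mul_assoc, ← mul_assoc (extHom _ H ε.1), (hce _).eq, mul_assoc e'.1, ← map_mul,
      ← Subalgebra.coe_mul, blockIdemR_mul_self, ← mul_assoc, ← Subalgebra.coe_mul,
      blockIdemR_mul_self]
  have hfc : ∀ z ∈ H, Commute (single z 1) f := fun z hz =>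
    (hce _).mul_right (hcomm ⟨z, hz⟩)
  have hfix : ∀ v ∈ Subgroup.centralizer ({x} : Set G), residue M (f.coeff v) = 0 := by
    set P := Subgroup.zpowers x with hPdef
    have hP : IsPGroup p P := IsPGroup.of_card (n := i) (by rw [Nat.card_zpowers, hx])
    have hCP : Subgroup.centralizer (P : Set G) = Subgroup.centralizer ({x} : Set G) := by
      refine le_antisymm (Subgroup.centralizer_le fun z hz => ?_) fun z hz => ?_
      · rw [Set.mem_singleton_iff.mp hz]
        exact Subgroup.mem_zpowers x
      · have hzx : Commute z x := Subgroup.mem_centralizer_singleton_iff.mp hz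
        refine Subgroup.mem_centralizer_iff.mpr ?_
        rintro _ ⟨n, rfl⟩
        exact (hzx.zpow_right n).eq.symm
    set fb := MonoidAlgebra.mapRingHom G (residue M) f with hfb
    set q : Subalgebra.center (Cfsg.AlgInt ⧸ M) (MonoidAlgebra (Cfsg.AlgInt ⧸ M) H) :=
      resCenter H (blockIdemBar hB) * blockIdemBar hb with hq
    obtain ⟨n, hn⟩ : IsNilpotent q := by
      refine isNilpotent_of_omegaBar_eq_zero fun θ => ?_
      rw [hq, map_mul, omegaBar_blockIdemBar]
      split_ifs with hθ
      · have := hne θ hθ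
        rw [mul_one]
        exact this
      · rw [mul_zero]
    have hqcoeff : ∀ v : H, fb.coeff (v : G) = (q : MonoidAlgebra _ H).coeff v := by
      intro v
      rw [hfb, hfdef, map_mul, map_extHom]
      exact coeff_center_mul_extHom H (blockIdemBar hB) _ v
    have hfxP : IsFixedBy P fb := by
      intro z hz v
      have hzH : z ∈ H := (Subgroup.zpowers_le.mpr hxH) hz
      have h1 := ((hfc z hzH).map (MonoidAlgebra.mapRingHom G (residue M))).eq
      rw [mapRingHom_single, map_one] at h1
      have h2 := congrArg (fun t : MonoidAlgebra (Cfsg.AlgInt ⧸ M) G => t.coeff (z * v)) h1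
      simp only [coeff_single_mul_apply, coeff_mul_single_apply, one_mul, mul_one,
        inv_mul_cancel_left] at h2
      exact h2.symm
    have hqP : IsFixedBy P (extHom (Cfsg.AlgInt ⧸ M) H q.1) := by
      intro z hz v
      have hzH : z ∈ H := (Subgroup.zpowers_le.mpr hxH) hz
      by_cases hv : v ∈ H
      · rw [show z * v * z⁻¹ = ((⟨z, hzH⟩ * ⟨v, hv⟩ * ⟨z, hzH⟩⁻¹ : H) : G) from rfl,
          coeff_extHom, (mem_center_iff_coeff _).mp q.2]
        exact (coeff_extHom H q.1 ⟨v, hv⟩).symm
      · rw [coeff_extHom_of_notMem H _ hv, coeff_extHom_of_notMem H _ fun h => hv ?_]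
        have h3 := H.mul_mem (H.mul_mem (H.inv_mem hzH) h) hzH
        simpa [mul_assoc] using h3
    set C := Subgroup.centralizer (P : Set G) with hCdef
    have hbr : brauerTo P C fb = brauerTo P C (extHom (Cfsg.AlgInt ⧸ M) H q.1) := by
      ext v
      simp only [coeff_brauerTo]
      rw [if_pos v.2, if_pos v.2]
      have hvH : (v : G) ∈ H := hC (hCP ▸ v.2)
      rw [show (v : G) = ((⟨v, hvH⟩ : H) : G) from rfl, hqcoeff, coeff_extHom]
    have hpow : ∀ (t : MonoidAlgebra (Cfsg.AlgInt ⧸ M) G), IsFixedBy P t → ∀ m : ℕ,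
        IsFixedBy P (t ^ m) ∧ brauerTo P C (t ^ m) = brauerTo P C t ^ m := by
      intro t ht m
      induction m with
      | zero =>
        refine ⟨fun z hz v => ?_, by rw [pow_zero, pow_zero, brauerTo_one]⟩
        rw [pow_zero, one_def, coeff_single]
        simp only [Finsupp.single_apply]
        refine if_congr ⟨fun e => ?_, fun e => by rw [← e]; simp⟩ rfl rfl
        have e2 := congrArg (fun t => z⁻¹ * t * z) e
        simpa [mul_assoc] using e2
      | succ m ih =>
        refine ⟨?_, ?_⟩
        · intro z hz v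
          rw [pow_succ, coeff_mul_sum, coeff_mul_sum]
          refine (Fintype.sum_equiv (MulAut.conj z).toEquiv _ _ fun a => ?_).symm
          simp only [MulEquiv.toEquiv_eq_coe, EquivLike.coe_coe, MulAut.conj_apply]
          rw [ih.1 z hz, ← ht z hz (a⁻¹ * v)]
          congr 2
          group
        · rw [pow_succ, brauerTo_mul hP le_rfl ih.1 ht, ih.2, pow_succ]
    have hidem : IsIdempotentElem (brauerTo P C fb) := by
      change _ * _ = _
      rw [← brauerTo_mul hP le_rfl hfxP hfxP, hfb, ← map_mul, hf]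
    have hnil : IsNilpotent (brauerTo P C fb) := by
      refine ⟨n, ?_⟩
      rw [hbr, ← (hpow _ hqP n).2, ← map_pow, ← SubmonoidClass.coe_pow, hn]
      simp only [ZeroMemClass.coe_zero, map_zero]
      ext v
      simp [coeff_brauerTo]
    have h0 : brauerTo P C fb = 0 := hidem.eq_zero_of_isNilpotent hnil
    intro v hv
    have h1 := congrArg
      (fun t : MonoidAlgebra (Cfsg.AlgInt ⧸ M) C => t.coeff ⟨v, hCP.ge hv⟩) h0
    simp only [coeff_brauerTo, hfb, coeff_mapRingHom] at h1
    rwa [if_pos (show v ∈ Subgroup.centralizer (P : Set G) from hCP.ge hv)] at h1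
  have key := lin_single_mul_eq_zero hM hf hx hy hxy (hfc x hxH) (hfc y hyH) hfix χ
  rw [hfdef, map_mul (MonoidAlgebra.mapRingHom G (localRing M).subtype), map_extHom, ← mul_assoc,
    show MonoidAlgebra.mapRingHom G (localRing M).subtype e'.1 =
      (idem (Cfsg.blockOf M (χ : G → ℂ))).1 from congrArg Subtype.val (mapCenter_blockIdemR hB),
    show MonoidAlgebra.mapRingHom H (localRing M).subtype ε.1 = (idem b).1 from
      congrArg Subtype.val (mapCenter_blockIdemR hb),
    Subalgebra.mem_center_iff.mp (idem _).2 (single (x * y) 1), mul_assoc,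
    lin_center_mul χ (idem _).2] at key
  have h1 : lin (χ : G → ℂ) (idem (Cfsg.blockOf M (χ : G → ℂ))).1 / (χ : G → ℂ) 1 = 1 := by
    rw [← omega_apply, omega_idem, if_pos (mem_blockOf_self χ)]
  rw [h1, one_mul] at key
  rw [finsum_eq_sum_of_fintype]
  refine Eq.trans ?_ key
  have hsum : (idem b).1 = ∑ k : H, single k (Cfsg.blockCoeff b k) := by
    refine MonoidAlgebra.coeff_injective (Finsupp.ext fun k => ?_)
    rw [coeff_sum, Finsupp.finsetSum_apply]
    simp [coeff_idem, coeff_single, Finsupp.single_apply]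
  rw [hsum, map_sum, Finset.mul_sum, map_sum]
  refine Finset.sum_congr rfl fun k _ => ?_
  rw [extHom_single, single_mul_single, lin_single, one_mul]
  congr 1
  have := char_conj_apply χ ((x * y) * k) (k : G)
  simpa [mul_assoc] using this

theorem inducedBar_eq_omegaBar {H : Subgroup G} {b : Set (Cfsg.IrrCharacter H)}
    {B : Set (Cfsg.IrrCharacter G)} (hind : Cfsg.IsInducedBlock M H b B)
    {ξ : Cfsg.IrrCharacter H} (hξ : ξ ∈ b) {ψ : Cfsg.IrrCharacter G} (hψ : ψ ∈ B)
    (z : Subalgebra.center (Cfsg.AlgInt ⧸ M) (MonoidAlgebra (Cfsg.AlgInt ⧸ M) G)) :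
    Cfsg.Agent.Lib.BrauerMap.Induced.inducedBar M H ξ z = omegaBar M ψ z := by
  haveI : Finite (ConjClasses G) := Quotient.finite _
  haveI := Fintype.ofFinite (ConjClasses G)
  have hz : z = ∑ c : ConjClasses G,
      z.1.coeff c.out • classSumC (Cfsg.AlgInt ⧸ M) c.out := by
    refine Subtype.ext ?_
    rw [AddSubmonoidClass.coe_finsetSum]
    exact eq_sum_classSum z.2
  rw [hz, map_sum, map_sum]
  refine Finset.sum_congr rfl fun c _ => ?_
  rw [map_smul, map_smul, Cfsg.Agent.Lib.BrauerMap.Induced.inducedBar_classSumC,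
    omegaBar_classSumC]
  exact congrArg _ ((Cfsg.Agent.Lib.BrauerMap.Induced.induced_congr_iff ξ ψ).mp
    (hind.2.2 ξ hξ ψ hψ) c.out)

end Cfsg.Agent.Lib.Blocks
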