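import Mathlib
import Cfsg.Agent.Lib.Blocks.ContribRank
import Cfsg.Agent.Lib.Blocks.SecondMain
import Cfsg.Agent.Lib.BrauerPairs.InducedPair

/-!
# The part of a class function in a block

The part of `f` in a block is the convolution with the block idempotent, commutes with the
restriction to p-regular elements, and for `c ↦ χ(uc)` vanishes on p-regular elements when the block
of `C(u)` does not give a pair of the block of `χ`.
-/

set_option autoImplicit false
set_option linter.style.haveILetI false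

namespace Cfsg.Agent.Lib.Blocks.BlockPart

open MonoidAlgebra
open Cfsg.Agent.Lib.Characters.Basic Cfsg.Agent.Lib.Characters.Complete
open Cfsg.Agent.Lib.Blocks Cfsg.Agent.Lib.Blocks.Contrib
open Cfsg.Agent.Lib.Induced.Basic

universe u

variable {G : Type u} [Group G]

section Any

variable [Fintype G]

open scoped Classical in
theorem sum_blockCoeff_mul_apply (A : Set (Cfsg.IrrCharacter G)) (φ : Cfsg.IrrCharacter G)
    (g : G) : ∑ k : G, Cfsg.blockCoeff A k * (φ : G → ℂ) (g * k) =
      if φ ∈ A then (φ : G → ℂ) g else 0 := by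
  have h := lin_center_mul φ (idem A).2 (single g 1)
  rw [← omega_apply, omega_idem, lin_single, one_mul, lin_apply] at h
  rw [show (if φ ∈ A then (φ : G → ℂ) g else 0) =
    (if φ ∈ A then 1 else 0) * (φ : G → ℂ) g by split_ifs <;> simp, ← h]
  refine Fintype.sum_equiv (Equiv.mulRight g) _ _ fun k => ?_
  rw [Equiv.coe_mulRight, coeff_mul_single_apply, mul_inv_cancel_right, mul_one, coeff_idem,
    show g * k = g * (k * g) * g⁻¹ by group, isClassFunction_irr φ]

theorem sum_smul_apply [Fintype (Cfsg.IrrCharacter G)] (a : Cfsg.IrrCharacter G → ℂ) (g : G) :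
    (∑ φ : Cfsg.IrrCharacter G, a φ • (φ : G → ℂ)) g =
      ∑ φ : Cfsg.IrrCharacter G, a φ * (φ : G → ℂ) g := by
  rw [Finset.sum_apply]
  rfl

theorem blockPart_apply (A : Set (Cfsg.IrrCharacter G)) (f : G → ℂ) (g : G) :
    Cfsg.blockPart A f g = ∑ φ ∈ (Set.toFinite A).toFinset,
      Cfsg.classInner f φ * (φ : G → ℂ) g := by
  rw [Cfsg.blockPart, finsum_mem_eq_finite_toFinset_sum _ (Set.toFinite A)]
  refine Finset.sum_congr rfl fun φ _ => ?_
  convert rfl

theorem blockPart_eq_sum (A : Set (Cfsg.IrrCharacter G)) {f : G → ℂ}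
    (hf : Cfsg.IsClassFunction G f) (g : G) :
    Cfsg.blockPart A f g = ∑ k : G, Cfsg.blockCoeff A k * f (g * k) := by
  classical
  haveI := Fintype.ofFinite (Cfsg.IrrCharacter G)
  conv_rhs => rw [classFunction_eq_sum hf]
  simp only [sum_smul_apply, Finset.mul_sum]
  rw [Finset.sum_comm]
  simp only [mul_left_comm (Cfsg.blockCoeff A _), ← Finset.mul_sum, sum_blockCoeff_mul_apply,
    mul_ite, mul_zero]
  rw [← Finset.sum_filter, blockPart_apply]
  exact Finset.sum_congr (by ext; simp) fun φ _ => rfl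

theorem isClassFunction_blockPart (A : Set (Cfsg.IrrCharacter G)) (f : G → ℂ) :
    Cfsg.IsClassFunction G (Cfsg.blockPart A f) := by
  intro g x
  rw [blockPart_apply, blockPart_apply]
  exact Finset.sum_congr rfl fun φ _ => by rw [isClassFunction_irr φ]

/-- The pairing of two class functions only sees their coefficients. -/
theorem sum_mul_inv_eq [Fintype (Cfsg.IrrCharacter G)] {f h : G → ℂ}
    (hf : Cfsg.IsClassFunction G f) (hh : Cfsg.IsClassFunction G h) :
    ∑ x : G, f x * h x⁻¹ = (Nat.card G : ℂ) *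
      ∑ φ : Cfsg.IrrCharacter G, Cfsg.classInner f φ * Cfsg.classInner h φ := by
  classical
  have key : ∀ φ ψ : Cfsg.IrrCharacter G, ∑ x : G, (φ : G → ℂ) x * (ψ : G → ℂ) x⁻¹ =
      (Nat.card G : ℂ) * (if φ = ψ then 1 else 0) := by
    intro φ ψ
    rw [← classInner_irr, Cfsg.classInner, ← mul_assoc,
      mul_inv_cancel₀ (Nat.cast_ne_zero.mpr Nat.card_pos.ne'), one_mul]
    exact Finset.sum_congr rfl fun x _ => by rw [apply_inv (isCharacter_irr ψ)]
  conv_lhs => rw [classFunction_eq_sum hf, classFunction_eq_sum hh]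
  simp only [sum_smul_apply, Finset.sum_mul, Finset.mul_sum]
  rw [Finset.sum_comm]
  refine Finset.sum_congr rfl fun φ _ => ?_
  rw [Finset.sum_comm]
  have e : ∀ ψ : Cfsg.IrrCharacter G, ∑ x : G, Cfsg.classInner f ψ * (ψ : G → ℂ) x *
      (Cfsg.classInner h φ * (φ : G → ℂ) x⁻¹) =
      Cfsg.classInner f ψ * Cfsg.classInner h φ * ((Nat.card G : ℂ) * (if ψ = φ then 1 else 0)) := by
    intro ψ
    rw [← key, Finset.mul_sum]
    exact Finset.sum_congr rfl fun x _ => by ring
  simp only [e, mul_ite, mul_one, mul_zero, Finset.sum_ite_eq', Finset.mem_univ, if_true]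
  ring

open scoped Classical in
theorem classInner_blockPart (A : Set (Cfsg.IrrCharacter G)) {f : G → ℂ}
    (φ : Cfsg.IrrCharacter G) :
    Cfsg.classInner (Cfsg.blockPart A f) φ = if φ ∈ A then Cfsg.classInner f φ else 0 := by
  have e : Cfsg.blockPart A f = ∑ ψ ∈ (Set.toFinite A).toFinset,
      Cfsg.classInner f ψ • (ψ : G → ℂ) := by
    funext g
    rw [blockPart_apply, Finset.sum_apply]
    exact Finset.sum_congr rfl fun ψ _ => rfl
  rw [e, classInner_sum_left]
  simp only [classInner_smul_left, classInner_irr, mul_ite, mul_one, mul_zero, Finset.sum_ite_eq',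
    Set.Finite.mem_toFinset]

/-- Taking the part in a block is self adjoint. -/
theorem sum_blockPart_mul_inv (A : Set (Cfsg.IrrCharacter G)) {f h : G → ℂ}
    (hf : Cfsg.IsClassFunction G f) (hh : Cfsg.IsClassFunction G h) :
    ∑ x : G, Cfsg.blockPart A f x * Cfsg.blockPart A h x⁻¹ =
      ∑ x : G, Cfsg.blockPart A f x * h x⁻¹ := by
  haveI := Fintype.ofFinite (Cfsg.IrrCharacter G)
  rw [sum_mul_inv_eq (isClassFunction_blockPart A f) (isClassFunction_blockPart A h),
    sum_mul_inv_eq (isClassFunction_blockPart A f) hh]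
  congr 1
  refine Finset.sum_congr rfl fun φ _ => ?_
  simp only [classInner_blockPart]
  split_ifs <;> simp

end Any

variable [Fintype G] {p : ℕ} [Fact p.Prime] {M : Ideal Cfsg.AlgInt} [M.IsMaximal]
  (hM : Cfsg.IsPModular p M) {B : Set (Cfsg.IrrCharacter G)} (hB : Cfsg.IsPBlock M B)

omit [Fact p.Prime] in
theorem isClassFunction_regular {f : G → ℂ} (hf : Cfsg.IsClassFunction G f) :
    Cfsg.IsClassFunction G (Cfsg.pRegularPart p f) := by
  intro g x
  rw [pRegularPart_apply, pRegularPart_apply, hf,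
    show orderOf (x * g * x⁻¹) = orderOf g from (MulAut.conj x).orderOf_eq g]

include hM hB in
open scoped Classical in
/-- The regular part of a member of the block stays in the block. -/
theorem sum_blockCoeff_mul_regular (φ : Cfsg.IrrCharacter G) (g : G) :
    ∑ k : G, Cfsg.blockCoeff B k * Cfsg.pRegularPart p (φ : G → ℂ) (g * k) =
      if φ ∈ B then Cfsg.pRegularPart p (φ : G → ℂ) g else 0 := by
  have hp : (p : ℂ) ^ (Nat.card G).factorization p ≠ 0 :=
    pow_ne_zero _ (Nat.cast_ne_zero.mpr (Fact.out : p.Prime).ne_zero)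
  have hC := isPBlock_blockOf (M := M) φ
  have hφC : φ ∈ Cfsg.blockOf M (φ : G → ℂ) := sameBlock_refl φ
  have e : ∀ x : G, Cfsg.pRegularPart p (φ : G → ℂ) x =
      ((p : ℂ) ^ (Nat.card G).factorization p)⁻¹ * ∑ ψ ∈ bset (Cfsg.blockOf M (φ : G → ℂ)),
        (contribN p φ ψ : ℂ) * (ψ : G → ℂ) x := fun x => by
    rw [sum_bset_apply hM hC hφC, ← mul_assoc, inv_mul_cancel₀ hp, one_mul, pRegularPart_apply]
  have hmem : ∀ ψ ∈ bset (Cfsg.blockOf M (φ : G → ℂ)), (ψ ∈ B ↔ φ ∈ B) := by
    intro ψ hψ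
    rw [mem_bset] at hψ
    constructor
    · intro h
      exact ((isPBlock_eq_blockOf hB h).trans (isPBlock_eq_blockOf hC hψ).symm) ▸ hφC
    · intro h
      exact ((isPBlock_eq_blockOf hB h).trans (isPBlock_eq_blockOf hC hφC).symm) ▸ hψ
  simp only [e, Finset.mul_sum]
  rw [Finset.sum_comm]
  have e2 : ∀ ψ ∈ bset (Cfsg.blockOf M (φ : G → ℂ)), ∑ k : G, Cfsg.blockCoeff B k *
      (((p : ℂ) ^ (Nat.card G).factorization p)⁻¹ * ((contribN p φ ψ : ℂ) * (ψ : G → ℂ) (g * k))) =
      if φ ∈ B then ((p : ℂ) ^ (Nat.card G).factorization p)⁻¹ *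
        ((contribN p φ ψ : ℂ) * (ψ : G → ℂ) g) else 0 := by
    intro ψ hψ
    simp only [mul_left_comm (Cfsg.blockCoeff B _), ← Finset.mul_sum, sum_blockCoeff_mul_apply,
      hmem ψ hψ]
    split_ifs <;> simp
  rw [Finset.sum_congr rfl e2]
  split_ifs
  · rfl
  · exact Finset.sum_const_zero

include hM hB in
/-- The restriction to regular elements commutes with the part in a block. -/
theorem regular_blockPart {f : G → ℂ} (hf : Cfsg.IsClassFunction G f) :
    Cfsg.pRegularPart p (Cfsg.blockPart B f) = Cfsg.blockPart B (Cfsg.pRegularPart p f) := by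
  classical
  haveI := Fintype.ofFinite (Cfsg.IrrCharacter G)
  funext g
  rw [blockPart_eq_sum B (isClassFunction_regular hf)]
  have e : ∀ x : G, Cfsg.pRegularPart p f x =
      ∑ φ : Cfsg.IrrCharacter G, Cfsg.classInner f φ * Cfsg.pRegularPart p (φ : G → ℂ) x := by
    intro x
    simp only [pRegularPart_apply]
    split_ifs
    · simp
    · conv_lhs => rw [classFunction_eq_sum hf]
      rw [sum_smul_apply]
  simp only [e, Finset.mul_sum]
  rw [Finset.sum_comm]
  simp only [mul_left_comm (Cfsg.blockCoeff B _), ← Finset.mul_sum,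
    sum_blockCoeff_mul_regular hM hB]
  simp only [pRegularPart_apply, blockPart_eq_sum B hf]
  by_cases hg : p ∣ orderOf g
  · simp [hg]
  · simp only [if_neg hg, mul_ite, mul_zero]
    conv_lhs => arg 2; ext k; rw [classFunction_eq_sum hf, sum_smul_apply, Finset.mul_sum]
    rw [Finset.sum_comm]
    simp only [mul_left_comm (Cfsg.blockCoeff B _), ← Finset.mul_sum, sum_blockCoeff_mul_apply,
      mul_ite, mul_zero]

end Cfsg.Agent.Lib.Blocks.BlockPart
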