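import Cfsg.Agent.Lib.Blocks.Induced
import Cfsg.Agent.Lib.BrauerPairs.Embed

/-!
# Brauer's first main theorem

Blocks of the normaliser of a `p`-subgroup `D` with defect group `D` correspond to the blocks of
the group with defect group `D`: both correspond to the orbits of maximal pairs at `D`.
-/

namespace Cfsg.Agent.Lib.Blocks

open MonoidAlgebra Cfsg.Agent.Lib.BrauerMap.Basic Cfsg.Agent.Lib.BrauerMap.ClassSum
open Cfsg.Agent.Lib.BrauerPairs.Center Cfsg.Agent.Lib.BrauerPairs.Trunc
open Cfsg.Agent.Lib.BrauerPairs.Pairs Cfsg.Agent.Lib.BrauerPairs.Maximal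
open Cfsg.Agent.Lib.BrauerPairs.Transport Cfsg.Agent.Lib.BrauerPairs.Embed
open Cfsg.Agent.Lib.BrauerPairs.Bridge (Res charP_res blk blkOf blkOf_of_mem toSet toSet_blk
  isPBlock_toSet exists_mem isDefectGroup_iff blk_toSet)
open Cfsg.Agent.Lib.BrauerMap.Induced (inducedBar inducedBar_classSumC induced_congr_iff
  inducedBar_eq_brauer)

universe u

attribute [local instance] Ideal.Quotient.field

variable {M : Ideal Cfsg.AlgInt} [M.IsMaximal] {p : ℕ} [Fact p.Prime] [CharP (Res M) p]
variable {G : Type u} [Group G] [Finite G] {D : Subgroup G}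

local notation "N[" D "]" => Subgroup.normalizer ((D : Subgroup G) : Set G)
local notation "C[" D "]" => Subgroup.centralizer ((D : Subgroup G) : Set G)

/-- A block of the normaliser with a pair at `D` takes the values of that pair. -/
theorem pair_value {φ : Blk (Res M) N[D]} {f : Blk (Res M) C[D]}
    (h : PairOf p φ ⟨D.subgroupOf N[D],
      down Subgroup.le_normalizer (Subgroup.centralizer_le_normalizer _) f⟩)
    (z : ZAlg (Res M) N[D]) :
    φ z = val D f (ext N[D] (z : MonoidAlgebra (Res M) N[D])) := by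
  rw [← h.apply_eq z]
  exact val_down _ _ f (isFixedBy_of_mem_center _ z.2)

/-- A block of the normaliser with a pair at `D` induces the block of that pair. -/
theorem isInducedBlock_toSet_pairBlk (hD : IsPGroup p D) {φ : Blk (Res M) N[D]}
    {f : Blk (Res M) C[D]}
    (h : PairOf p φ ⟨D.subgroupOf N[D],
      down Subgroup.le_normalizer (Subgroup.centralizer_le_normalizer _) f⟩) :
    Cfsg.IsInducedBlock M N[D] (toSet φ)
      (toSet (pairBlk (a := (⟨D, f⟩ : Idx (Res M) G)) hD)) := by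
  obtain ⟨ξ, hξ⟩ := exists_mem φ
  obtain ⟨χ, hχ⟩ := exists_mem (pairBlk (a := (⟨D, f⟩ : Idx (Res M) G)) hD)
  refine isInducedBlock_of_inducedBar_eq (isPBlock_toSet _) (isPBlock_toSet _) hξ hχ fun g => ?_
  rw [inducedBar_eq_brauer hD Subgroup.le_normalizer (Subgroup.centralizer_le_normalizer _)
    le_rfl ξ, AlgHom.toLinearMap_apply]
  show blkOf M ξ (brauerHom hD (Subgroup.centralizer_le_normalizer _) le_rfl
    (classSumC (Res M) g)) = blkOf M χ (classSumC (Res M) g)
  have e1 : blkOf M ξ = φ := hξ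
  have e2 : blkOf M χ = pairBlk (a := (⟨D, f⟩ : Idx (Res M) G)) hD := hχ
  rw [e1, e2, pairBlk_apply, pair_value h]
  refine val_congr f ?_
  ext c
  rw [coeff_br, coeff_br]
  refine (coeff_ext N[D] _ ⟨c, Subgroup.centralizer_le_normalizer _ c.2⟩).trans ?_
  rw [brauerHom_apply, coeff_brauerTo, if_pos c.2]

omit [Fact p.Prime] [CharP (Res M) p] in
theorem eq_of_isInducedBlock {H : Subgroup G} {b : Set (Cfsg.IrrCharacter H)}
    {B B' : Set (Cfsg.IrrCharacter G)} (h : Cfsg.IsInducedBlock M H b B)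
    (h' : Cfsg.IsInducedBlock M H b B') : B = B' := by
  obtain ⟨ξ, hξ⟩ := isPBlock_nonempty h.1
  obtain ⟨χ, hχ⟩ := isPBlock_nonempty h.2.1
  obtain ⟨χ', hχ'⟩ := isPBlock_nonempty h'.2.1
  rw [isPBlock_eq_blockOf h.2.1 hχ, isPBlock_eq_blockOf h'.2.1 hχ', blockOf_eq_iff]
  exact AlgHom.ext fun z =>
    (inducedBar_eq_omegaBar h hξ hχ z).symm.trans (inducedBar_eq_omegaBar h' hξ hχ' z)

/-- A block of the normaliser with defect group `D` has a maximal pair at `D`, which is maximal
in the group. -/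
theorem exists_pair_of_isDef {φ : Blk (Res M) N[D]} (hφ : IsDef p φ (D.subgroupOf N[D])) :
    ∃ f : Blk (Res M) C[D],
      PairOf p φ ⟨D.subgroupOf N[D],
        down Subgroup.le_normalizer (Subgroup.centralizer_le_normalizer _) f⟩ ∧
      Top p (⟨D, f⟩ : Idx (Res M) G) := by
  obtain ⟨μ, hμ⟩ := exists_pairOf_isDef hφ
  refine ⟨up Subgroup.le_normalizer (Subgroup.centralizer_le_normalizer _) μ, ?_, ?_⟩
  · rwa [down_up]
  · rw [← top_down_iff Subgroup.le_normalizer le_rfl, down_up]
    exact top_of_isDef hμ hφ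

/-- **First main theorem.** -/
theorem first_main (hD : IsPGroup p D) :
    (∀ b : Set (Cfsg.IrrCharacter N[D]), Cfsg.IsPBlock M b →
      Cfsg.IsDefectGroup p M b (D.subgroupOf N[D]) →
      ∃ B : Set (Cfsg.IrrCharacter G), Cfsg.IsPBlock M B ∧ Cfsg.IsDefectGroup p M B D ∧
        Cfsg.IsInducedBlock M N[D] b B) ∧
    ∀ B : Set (Cfsg.IrrCharacter G), Cfsg.IsPBlock M B → Cfsg.IsDefectGroup p M B D →
      ∃! b : Set (Cfsg.IrrCharacter N[D]), Cfsg.IsPBlock M b ∧
        Cfsg.IsDefectGroup p M b (D.subgroupOf N[D]) ∧ Cfsg.IsInducedBlock M N[D] b B := by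
  constructor
  · intro b hb hbD
    obtain ⟨f, hf, htop⟩ := exists_pair_of_isDef ((isDefectGroup_iff hb _).mp hbD)
    have hind := isInducedBlock_toSet_pairBlk hD hf
    rw [toSet_blk] at hind
    refine ⟨_, isPBlock_toSet _, ?_, hind⟩
    rw [isDefectGroup_iff (isPBlock_toSet _), blk_toSet]
    exact isDef_of_top htop (pairOf_iff.mpr ⟨hD, rfl⟩)
  · intro B hB hBD
    obtain ⟨f, hf⟩ := exists_pairOf_isDef ((isDefectGroup_iff hB D).mp hBD)
    have htop := top_of_isDef hf ((isDefectGroup_iff hB D).mp hBD)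
    obtain ⟨_, hfB⟩ := pairOf_iff.mp hf
    have hD' : IsPGroup p (D.subgroupOf N[D]) :=
      hD.of_equiv (Subgroup.subgroupOfEquivOfLe Subgroup.le_normalizer).symm
    set φ := pairBlk (a := (⟨D.subgroupOf N[D],
      down Subgroup.le_normalizer (Subgroup.centralizer_le_normalizer _) f⟩ :
        Idx (Res M) N[D])) hD' with hφ
    have hpair : PairOf p φ ⟨D.subgroupOf N[D],
        down Subgroup.le_normalizer (Subgroup.centralizer_le_normalizer _) f⟩ :=
      pairOf_iff.mpr ⟨hD', rfl⟩
    refine ⟨toSet φ, ⟨isPBlock_toSet _, ?_, ?_⟩, ?_⟩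
    · rw [isDefectGroup_iff (isPBlock_toSet _), blk_toSet]
      exact isDef_of_top ((top_down_iff Subgroup.le_normalizer le_rfl f).mpr htop) hpair
    · have hind := isInducedBlock_toSet_pairBlk hD hpair
      rwa [hfB, toSet_blk] at hind
    · rintro b ⟨hb, hbD, hbB⟩
      obtain ⟨f', hf', htop'⟩ := exists_pair_of_isDef ((isDefectGroup_iff hb _).mp hbD)
      have hind := isInducedBlock_toSet_pairBlk hD hf'
      rw [toSet_blk] at hind
      have hBe := eq_of_isInducedBlock hbB hind
      have hψ : blk hB = pairBlk (a := (⟨D, f'⟩ : Idx (Res M) G)) hD :=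
        Cfsg.Agent.Lib.BrauerPairs.Bridge.toSet_injective ((toSet_blk hB).trans hBe)
      obtain ⟨x, hx⟩ := top_conj htop htop' hf (pairOf_iff.mpr ⟨hD, hψ.symm⟩)
      have hxN : x ∈ N[D] := Subgroup.mem_normalizer_iff_map_conj_eq.mpr (congrArg Sigma.fst hx)
      rw [← toSet_blk hb]
      refine congrArg toSet (AlgHom.ext fun z => ?_)
      rw [pair_value hf' z, pair_value hpair z]
      set a := ext N[D] (z : MonoidAlgebra (Res M) N[D]) with ha
      have hfix : IsFixedBy N[D] a := isFixedBy_ext_of_center z.2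
      have hca : conjA x a = a := (isFixedBy_iff _ _).mp hfix x hxN
      have hfC : IsFixedBy C[D] a := isFixedBy_mono (Subgroup.centralizer_le_normalizer _) hfix
      have hfC' : IsFixedBy C[(cPair x (⟨D, f⟩ : Idx (Res M) G)).1] (conjA x a) := by
        rw [hca, hx]
        exact hfC
      have h1 : val (cPair x (⟨D, f⟩ : Idx (Res M) G)).1 (cPair x (⟨D, f⟩ : Idx (Res M) G)).2
          (conjA x a) = val D f a :=
        val_cBlk x D _ (mem_centralizer_map_iff x D) f a hfC hfC'
      rw [hca, hx] at h1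
      exact h1

end Cfsg.Agent.Lib.Blocks
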