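import Cfsg.Agent.Lib.Blocks.HeightZeroValue
import Cfsg.Agent.Lib.Blocks.SecondMain
import Cfsg.Agent.Lib.BrauerPairs.LocalDefect
import Cfsg.Agent.Lib.BrauerMap.PrincipalSection

/-!
# Induced blocks and defect groups

Classes on which the central character of a block does not vanish modulo `M`, and what they say
about the defect groups of an induced block.
-/

namespace Cfsg.Agent.Lib.Blocks

open MonoidAlgebra Cfsg.Agent.Lib.BrauerMap.Basic Cfsg.Agent.Lib.BrauerMap.ClassSum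
open Cfsg.Agent.Lib.Characters.Basic
open Cfsg.Agent.Lib.BrauerMap.Induced (inducedBar inducedBar_classSumC induced_congr_iff
  inducedBar_eq_brauer inducedCentralChar_eq_sum)
open Cfsg.Agent.Lib.BrauerMap.PrincipalSection (isPPart_unique)
open Cfsg.Agent.Lib.BrauerPairs.Trunc Cfsg.Agent.Lib.BrauerPairs.Maximal
open Cfsg.Agent.Lib.BrauerPairs.Bridge (Res charP_res blk blkOf blkOf_of_mem isDefectGroup_iff
  exists_blkOf_eq)

universe u

attribute [local instance] Ideal.Quotient.field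

variable {M : Ideal Cfsg.AlgInt} [M.IsMaximal] {p : ℕ} {G : Type u} [Group G] [Finite G]

theorem inducedBar_eq_resCenter {H : Subgroup G} (ξ : Cfsg.IrrCharacter H)
    (z : Subalgebra.center (Cfsg.AlgInt ⧸ M) (MonoidAlgebra (Cfsg.AlgInt ⧸ M) G)) :
    inducedBar M H ξ z = omegaBar M ξ (resCenter H z) := rfl

theorem inducedBar_eq_of_mem {H : Subgroup G} {b : Set (Cfsg.IrrCharacter H)}
    (hb : Cfsg.IsPBlock M b) {ξ ξ' : Cfsg.IrrCharacter H} (h : ξ ∈ b) (h' : ξ' ∈ b) :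
    inducedBar M H ξ = inducedBar M H ξ' :=
  LinearMap.ext fun z => by
    rw [inducedBar_eq_resCenter, inducedBar_eq_resCenter, omegaBar_eq_of_mem hb h h']

/-- A block induces the block whose central character its induced central character is. -/
theorem isInducedBlock_of_inducedBar_eq {H : Subgroup G} {b : Set (Cfsg.IrrCharacter H)}
    {B : Set (Cfsg.IrrCharacter G)} (hb : Cfsg.IsPBlock M b) (hB : Cfsg.IsPBlock M B)
    {ξ : Cfsg.IrrCharacter H} (hξ : ξ ∈ b) {χ : Cfsg.IrrCharacter G} (hχ : χ ∈ B)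
    (h : ∀ g : G, inducedBar M H ξ (classSumC (Cfsg.AlgInt ⧸ M) g) =
      omegaBar M χ (classSumC (Cfsg.AlgInt ⧸ M) g)) : Cfsg.IsInducedBlock M H b B := by
  refine ⟨hb, hB, fun ξ' hξ' χ' hχ' => (induced_congr_iff ξ' χ').mpr fun g => ?_⟩
  rw [← inducedBar_classSumC, ← omegaBar_classSumC, inducedBar_eq_of_mem hb hξ' hξ,
    omegaBar_eq_of_mem hB hχ' hχ]
  exact h g

theorem inducedBlockDefined_of_le_normalizer (hM : Cfsg.IsPModular p M) [Fact p.Prime]
    {P H : Subgroup G} (hP : IsPGroup p P) (hPH : P ≤ H)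
    (hC : Subgroup.centralizer (P : Set G) ≤ H) (hN : H ≤ Subgroup.normalizer (P : Set G))
    {b : Set (Cfsg.IrrCharacter H)} (hb : Cfsg.IsPBlock M b) :
    Cfsg.InducedBlockDefined M H b := by
  haveI := charP_residue hM
  obtain ⟨ξ, hξ⟩ := isPBlock_nonempty hb
  obtain ⟨ψ, hψ⟩ := exists_omegaBar_eq ((omegaBar M ξ).comp (brauerHom hP hC hN))
  refine ⟨_, isInducedBlock_of_inducedBar_eq hb (isPBlock_blockOf ψ) hξ (mem_blockOf_self ψ)
    fun g => ?_⟩
  rw [inducedBar_eq_brauer hP hPH hC hN ξ, AlgHom.toLinearMap_apply, hψ]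

/-- If the induced central character does not vanish at `g`, the central character of the block
of the subgroup does not vanish at some conjugate of `g` in the subgroup. -/
theorem exists_conj_centralChar_ne {H : Subgroup G} {b : Set (Cfsg.IrrCharacter H)}
    {B : Set (Cfsg.IrrCharacter G)} (hind : Cfsg.IsInducedBlock M H b B) {g : G}
    (hg : ∃ χ ∈ B, ¬ Cfsg.MemLocalIdeal M (Cfsg.centralChar (χ : G → ℂ) g))
    {ξ : Cfsg.IrrCharacter H} (hξ : ξ ∈ b) :
    ∃ h : H, IsConj g (h : G) ∧ ¬ Cfsg.MemLocalIdeal M (Cfsg.centralChar (ξ : H → ℂ) h) := by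
  classical
  obtain ⟨χ, hχ, hne⟩ := hg
  by_contra hno
  push Not at hno
  haveI : Finite (ConjClasses H) := Quotient.finite _
  haveI := Fintype.ofFinite (ConjClasses H)
  apply hne
  have h1 := hind.2.2 ξ hξ χ hχ g
  rw [inducedCentralChar_eq_sum] at h1
  have h0 : Cfsg.MemLocalIdeal M (∑ c : ConjClasses H with IsConj g (c.out : G),
      Cfsg.centralChar (ξ : H → ℂ) c.out) :=
    memLocalIdeal_sum _ fun c hc => hno c.out (Finset.mem_filter.mp hc).2
  have h2 := memLocalIdeal_sub h0 h1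
  rwa [sub_sub_cancel] at h2

/-- A class on which the central character of the block does not vanish meets the centraliser of
each defect group. -/
theorem exists_conj_mem_centralizer (hM : Cfsg.IsPModular p M)
    {B : Set (Cfsg.IrrCharacter G)} (hB : Cfsg.IsPBlock M B) {D : Subgroup G}
    (hD : Cfsg.IsDefectGroup p M B D) {g : G}
    (hg : ∃ χ ∈ B, ¬ Cfsg.MemLocalIdeal M (Cfsg.centralChar (χ : G → ℂ) g)) :
    ∃ t : G, t * g * t⁻¹ ∈ Subgroup.centralizer (D : Set G) := by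
  haveI := Fact.mk hM.1
  have hDp := isPGroup_isDefectGroup hD
  obtain ⟨y, hy, S, hS⟩ := hD
  obtain ⟨P⟩ : Nonempty (Sylow p (Subgroup.centralizer ({g} : Set G))) := inferInstance
  obtain ⟨x, hx⟩ := exists_conj_le_of_blockCoeff hM hB hg P hy.2.1 hDp
    (hS ▸ Subgroup.map_subtype_le _)
  refine ⟨x⁻¹, Subgroup.mem_centralizer_iff.mpr fun d hd => ?_⟩
  have h1 : x * d * x⁻¹ * g = g * (x * d * x⁻¹) := Subgroup.mem_centralizer_singleton_iff.mp
    (Subgroup.map_subtype_le _ (hx ⟨d, hd, rfl⟩))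
  simpa [mul_assoc] using congrArg (fun z => x⁻¹ * z * x) h1

theorem isPPart_map {H : Subgroup G} {h z : H} (hz : Cfsg.IsPPart p h z) :
    Cfsg.IsPPart p (h : G) (z : G) := by
  obtain ⟨y, hzy, hc, ⟨k, hk⟩, hy⟩ := hz
  exact ⟨y, congrArg Subtype.val hzy, congrArg Subtype.val hc.eq,
    ⟨k, by rw [Subgroup.orderOf_coe, hk]⟩, by rwa [Subgroup.orderOf_coe]⟩

omit [Finite G] in
theorem isPPart_conj {g z : G} (hz : Cfsg.IsPPart p g z) (t : G) :
    Cfsg.IsPPart p (t * g * t⁻¹) (t * z * t⁻¹) := by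
  obtain ⟨y, hzy, hc, ⟨k, hk⟩, hy⟩ := hz
  refine ⟨t * y * t⁻¹, ?_, hc.map (MulAut.conj t).toMonoidHom, ⟨k, ?_⟩, ?_⟩
  · rw [← hzy]; group
  · rw [show t * z * t⁻¹ = MulAut.conj t z from rfl, (MulAut.conj t).orderOf_eq, hk]
  · rwa [show t * y * t⁻¹ = MulAut.conj t y from rfl, (MulAut.conj t).orderOf_eq]

/-- A class on which the central character of the block does not vanish has a member centralising
the defect group with `p`-part in its centre. -/
theorem exists_conj_pPart_mem_center (hM : Cfsg.IsPModular p M)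
    {B : Set (Cfsg.IrrCharacter G)} (hB : Cfsg.IsPBlock M B) {P : Subgroup G}
    (hP : Cfsg.IsDefectGroup p M B P) {g : G}
    (hg : ∃ χ ∈ B, ¬ Cfsg.MemLocalIdeal M (Cfsg.centralChar (χ : G → ℂ) g)) :
    ∃ x : G, IsConj g x ∧ x ∈ Subgroup.centralizer (P : Set G) ∧
      ∀ z : G, Cfsg.IsPPart p x z → z ∈ P ∧ ∀ w ∈ P, z * w = w * z := by
  classical
  haveI := Fact.mk hM.1
  haveI := charP_res hM
  have hdef := (isDefectGroup_iff hB P).mp hP
  obtain ⟨ν, hν⟩ := exists_pairOf_isDef hdef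
  have htop := top_of_isDef hν hdef
  haveI : Finite (ConjClasses (Subgroup.centralizer (P : Set G))) := Quotient.finite _
  haveI := Fintype.ofFinite (ConjClasses (Subgroup.centralizer (P : Set G)))
  obtain ⟨χ, hχ, hne⟩ := hg
  have h1 : Cfsg.Agent.Lib.BrauerPairs.Bridge.blk hB (classSumC (Res M) g) ≠ 0 := by
    rw [← blkOf_of_mem hB hχ]
    intro h0
    exact hne ((memLocalIdeal_centralChar_iff χ g).mpr ((omegaBar_classSumC χ g).symm.trans h0))
  rw [← hν.apply_eq] at h1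
  change val P ν _ ≠ 0 at h1
  rw [val_eq ν (isFixedBy_of_mem_center _ (classSumC (Res M) g).2)] at h1
  have hsum : (⟨br P ((classSumC (Res M) g : _) : MonoidAlgebra (Res M) G),
      br_mem_center (isFixedBy_of_mem_center _ (classSumC (Res M) g).2)⟩ :
        Subalgebra.center (Res M) (MonoidAlgebra (Res M) (Subgroup.centralizer (P : Set G)))) =
      ∑ c : ConjClasses (Subgroup.centralizer (P : Set G))
        with IsConj g (c.out : G) ∧ (c.out : G) ∈ Subgroup.centralizer (P : Set G),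
        classSumC (Res M) c.out := by
    refine Subtype.ext ?_
    rw [AddSubmonoidClass.coe_finsetSum]
    exact (brauerTo_classSum (k := Res M) P (Subgroup.centralizer (P : Set G))
      (Subgroup.centralizer_le_normalizer _) g).trans
      (Finset.sum_congr (by ext c; simp [-Subtype.coe_prop]) fun _ _ => rfl)
  rw [hsum, map_sum] at h1
  obtain ⟨c, hcmem, hc⟩ := Finset.exists_ne_zero_of_sum_ne_zero h1
  obtain ⟨hconj, hcC⟩ : IsConj g (c.out : G) ∧ (c.out : G) ∈ Subgroup.centralizer (P : Set G) :=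
    (Finset.mem_filter.mp hcmem).2
  refine ⟨(c.out : G), hconj, hcC, fun z hz => ?_⟩
  obtain ⟨θ, hθ⟩ := exists_blkOf_eq ν
  have hb := isPBlock_blockOf (M := M) θ
  have hθne : (θ : (Subgroup.centralizer (P : Set G)) → ℂ) c.out ≠ 0 := by
    intro h0
    apply hc
    rw [← hθ]
    show omegaBar M θ (classSumC (Res M) c.out) = 0
    rw [omegaBar_classSumC]
    refine residue_eq_zero_iff.mpr ?_
    rw [coe_ccR, Cfsg.centralChar, h0]
    simpa using memLocalIdeal_zero
  obtain ⟨D', hD'⟩ := exists_isDefectGroup (p := p) hb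
  obtain ⟨z', hz'⟩ := exists_isPPart hM.1 c.out
  have hzz : (z' : G) = z := isPPart_unique hM.1 (isPPart_map hz') hz
  obtain ⟨t, ht⟩ : ∃ t : (Subgroup.centralizer (P : Set G)), t⁻¹ * z' * t ∈ D' := by
    by_contra hno
    push Not at hno
    exact hθne (char_eq_zero_of_pPart_notMem hM hb hD' hz' hno (mem_blockOf_self θ))
  have hdef' := (isDefectGroup_iff hb D').mp hD'
  rw [← blkOf_of_mem hb (mem_blockOf_self θ), hθ] at hdef'
  obtain ⟨x, hx1, hx2⟩ := Cfsg.Agent.Lib.BrauerPairs.LocalDefect.exists_map_isDef_le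
    (ψ := blk hB) (a := ⟨P, ν⟩) (b := ⟨P, ν⟩) htop hν Relation.ReflTransGen.refl
    (Subgroup.centralizer_le_normalizer _) ν rfl
    (Cfsg.Agent.Lib.BrauerPairs.Conj.isFixedBy_bext _ ν) hdef'
  have hxP : P.map (MulAut.conj x).toMonoidHom = P :=
    Subgroup.eq_of_le_of_card_ge hx1.subgroup_le (card_map_conj x P).ge
  have hmem : ((t⁻¹ * z' * t : (Subgroup.centralizer (P : Set G))) : G) ∈ P := by
    have h3 := hx2 ⟨_, ⟨_, ht, rfl⟩, rfl⟩
    obtain ⟨q, hq, hqe⟩ := hxP.ge h3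
    rwa [(MulAut.conj x).injective hqe] at hq
  refine ⟨?_, fun w hw => (Subgroup.mem_centralizer_iff.mp (hzz ▸ z'.2) w hw).symm⟩
  have htc : Commute (t : G) ((t⁻¹ * z' * t : (Subgroup.centralizer (P : Set G))) : G) :=
    (Subgroup.mem_centralizer_iff.mp t.2 _ hmem).symm
  have h4 : ((t⁻¹ * z' * t : (Subgroup.centralizer (P : Set G))) : G) = (z' : G) := by
    calc ((t⁻¹ * z' * t : (Subgroup.centralizer (P : Set G))) : G) = (t : G) * ((t⁻¹ * z' * t : (Subgroup.centralizer (P : Set G))) : G) * (t : G)⁻¹ := by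
          rw [htc.eq, mul_inv_cancel_right]
      _ = _ := by simp [mul_assoc]
  rwa [← hzz, ← h4]

/-- The defect groups of a block lie in defect groups of the block it induces. -/
theorem exists_defectGroup_ge_of_induced (hM : Cfsg.IsPModular p M) {H : Subgroup G}
    {b : Set (Cfsg.IrrCharacter H)} {B : Set (Cfsg.IrrCharacter G)}
    (hind : Cfsg.IsInducedBlock M H b B) {D : Subgroup H} (hD : Cfsg.IsDefectGroup p M b D) :
    ∃ E : Subgroup G, Cfsg.IsDefectGroup p M B E ∧ D.map H.subtype ≤ E := by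
  haveI := Fact.mk hM.1
  obtain ⟨y, hy⟩ := exists_isDefectClass hind.2.1
  obtain ⟨ξ, hξ⟩ := isPBlock_nonempty hind.1
  obtain ⟨h, hyh, hne⟩ :=
    exists_conj_centralChar_ne hind (isDefectClass_exists_ne hind.2.1 hy) hξ
  obtain ⟨t, ht⟩ := exists_conj_mem_centralizer hM hind.1 hD ⟨ξ, hξ, hne⟩
  set c : G := ((t * h * t⁻¹ : H) : G) with hcdef
  have hyc : IsConj y c := hyh.trans (isConj_iff.mpr ⟨(t : G), by simp [hcdef]⟩)
  have hle : D.map H.subtype ≤ Subgroup.centralizer ({c} : Set G) := by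
    rintro _ ⟨d, hd, rfl⟩
    exact Subgroup.mem_centralizer_singleton_iff.mpr
      (congrArg Subtype.val (Subgroup.mem_centralizer_iff.mp ht d hd))
  have hDp : IsPGroup p (D.map H.subtype) := (isPGroup_isDefectGroup hD).map _
  obtain ⟨S, hS⟩ := (hDp.of_equiv (Subgroup.subgroupOfEquivOfLe hle).symm).exists_le_sylow
  refine ⟨_, ⟨c, ⟨blockCoeff_eq_of_isConj B hyc ▸ hy.1, blockCoeff_eq_of_isConj B hyc ▸ hy.2.1,
    fun χ hχ => centralChar_eq_of_isConj χ hyc ▸ hy.2.2 χ hχ⟩, S, rfl⟩, fun d hd => ?_⟩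
  exact ⟨⟨d, hle hd⟩, hS hd, rfl⟩

/-- Central elements of a defect group of an induced block fuse into the centre of a defect group
of the block. -/
theorem exists_conj_mem_center (hM : Cfsg.IsPModular p M) {H : Subgroup G}
    {b : Set (Cfsg.IrrCharacter H)} {B : Set (Cfsg.IrrCharacter G)}
    (hind : Cfsg.IsInducedBlock M H b B) {D : Subgroup H} (hD : Cfsg.IsDefectGroup p M b D)
    {P : Subgroup G} (hP : Cfsg.IsDefectGroup p M B P) {x : G} (hx : x ∈ P)
    (hxc : ∀ w ∈ P, x * w = w * x) :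
    ∃ g : G, g * x * g⁻¹ ∈ D.map H.subtype ∧
      ∀ w ∈ D.map H.subtype, (g * x * g⁻¹) * w = w * (g * x * g⁻¹) := by
  haveI := Fact.mk hM.1
  have hPp := isPGroup_isDefectGroup hP
  obtain ⟨k, hk⟩ := IsPGroup.iff_orderOf.mp hPp ⟨x, hx⟩
  have hk' : ∃ k : ℕ, orderOf x = p ^ k :=
    ⟨k, by rw [← hk, ← Subgroup.orderOf_coe (⟨x, hx⟩ : P)]⟩
  obtain ⟨y, hy, S, rfl⟩ := hP
  obtain ⟨x', hx', rfl⟩ := hx
  have hxy : Commute (x' : G) y := Subgroup.mem_centralizer_singleton_iff.mp x'.2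
  have hle : (S : Subgroup (Subgroup.centralizer ({y} : Set G))).map
      (Subgroup.centralizer ({y} : Set G)).subtype ≤
        Subgroup.centralizer ({(x' : G) * y} : Set G) := by
    rintro _ ⟨w, hw, rfl⟩
    refine Subgroup.mem_centralizer_singleton_iff.mpr ?_
    exact (Commute.mul_right (hxc _ ⟨w, hw, rfl⟩).symm
      (Subgroup.mem_centralizer_singleton_iff.mp w.2) : Commute (w : G) ((x' : G) * y))
  obtain ⟨χ, hχ⟩ := isPBlock_nonempty hind.2.1
  obtain ⟨ξ, hξ⟩ := isPBlock_nonempty hind.1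
  obtain ⟨h, hconj, hne⟩ := exists_conj_centralChar_ne hind ⟨χ, hχ,
    not_memLocalIdeal_centralChar_mul_defectClass hM hind.2.1 hy hxy hk' S hle hχ⟩ hξ
  obtain ⟨h₁, hh₁, -, hz₁⟩ := exists_conj_pPart_mem_center hM hind.1 hD ⟨ξ, hξ, hne⟩
  obtain ⟨z, hz⟩ := exists_isPPart hM.1 h₁
  obtain ⟨hzD, hzc⟩ := hz₁ z hz
  obtain ⟨g, hg⟩ := isConj_iff.mp
    (hconj.trans (Cfsg.Agent.Lib.BrauerMap.Induced.isConj_coe hh₁))
  have hreg := not_dvd_orderOf_isDefectClass hM hind.2.1 hy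
  have hzeq : g * (x' : G) * g⁻¹ = (z : G) :=
    isPPart_unique hM.1 (hg ▸ isPPart_conj ⟨y, rfl, hxy, hk', hreg⟩ g) (isPPart_map hz)
  refine ⟨g, ?_⟩
  show g * (x' : G) * g⁻¹ ∈ _ ∧ ∀ w ∈ D.map H.subtype,
    (g * (x' : G) * g⁻¹) * w = w * (g * (x' : G) * g⁻¹)
  rw [hzeq]
  refine ⟨⟨z, hzD, rfl⟩, ?_⟩
  rintro _ ⟨w, hw, rfl⟩
  exact congrArg Subtype.val (hzc w hw)

theorem blockDefect_eq_zero_iff (hM : Cfsg.IsPModular p M) {B : Set (Cfsg.IrrCharacter G)}
    (hB : Cfsg.IsPBlock M B) {D : Subgroup G} (hD : Cfsg.IsDefectGroup p M B D) :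
    Cfsg.blockDefect p B = 0 ↔ D = ⊥ := by
  rw [← Subgroup.card_eq_one, card_isDefectGroup hM hB hD]
  exact ⟨fun h => by rw [h, pow_zero], fun h => (pow_eq_one_iff.mp h).resolve_left hM.1.ne_one⟩

theorem blockDefect_eq_zero_iff_of_induced (hM : Cfsg.IsPModular p M) {H : Subgroup G}
    {b : Set (Cfsg.IrrCharacter H)} {B : Set (Cfsg.IrrCharacter G)}
    (hind : Cfsg.IsInducedBlock M H b B) :
    Cfsg.blockDefect p b = 0 ↔ Cfsg.blockDefect p B = 0 := by
  haveI := Fact.mk hM.1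
  obtain ⟨D, hD⟩ := exists_isDefectGroup (p := p) hind.1
  obtain ⟨P, hP, hle⟩ := exists_defectGroup_ge_of_induced hM hind hD
  rw [blockDefect_eq_zero_iff hM hind.1 hD, blockDefect_eq_zero_iff hM hind.2.1 hP]
  constructor
  · intro hbot
    by_contra hne
    haveI : Nontrivial P := P.nontrivial_iff_ne_bot.mpr hne
    haveI := (isPGroup_isDefectGroup hP).center_nontrivial
    obtain ⟨x, hx⟩ := exists_ne (1 : Subgroup.center P)
    obtain ⟨g, hg, -⟩ := exists_conj_mem_center hM hind hD hP (x : P).2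
      (fun w hw => congrArg Subtype.val (Subgroup.mem_center_iff.mp x.2 ⟨w, hw⟩).symm)
    rw [hbot, Subgroup.map_bot, Subgroup.mem_bot, conj_eq_one_iff] at hg
    exact hx (Subtype.ext (Subtype.ext hg))
  · intro hbot
    rw [hbot, le_bot_iff] at hle
    exact (Subgroup.map_eq_bot_iff_of_injective _ H.subtype_injective).mp hle

end Cfsg.Agent.Lib.Blocks
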