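import Cfsg.Agent.Lib.Blocks.Contrib
import Cfsg.Agent.Lib.BC78.Central

/-!
# Induced blocks and the regular inner products

For `b ^ G = B` the central character of a member of `b` on a class function of `G` restricted to
the subgroup is congruent to that of a member of `B`.  With the regular part of a height-zero
character this shows that the degree of the `b`-part of its restriction has exact valuation.
-/

namespace Cfsg.Agent.Lib.Blocks.Contrib

open Cfsg.Agent.Lib.Characters.Basic Cfsg.Agent.Lib.Characters.Complete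
open Cfsg.Agent.Lib.H80.ClassMult
open scoped ComplexConjugate

universe u

variable {G : Type u} [Group G] [Finite G] {p : ℕ} [Fact p.Prime] {M : Ideal Cfsg.AlgInt}
  [M.IsMaximal]

/-- A sum against a class function, class by class. -/
theorem sum_classFun_mul [Fintype G] [Fintype (ConjClasses G)] {H : Subgroup G} [Fintype H]
    {f : G → ℂ} (hf : Cfsg.IsClassFunction G f) (ξ : H → ℂ) :
    (∑ h : H, f h * ξ h) / ξ 1 =
      ∑ c : ConjClasses G, f c.out * Cfsg.inducedCentralChar H ξ c.out := by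
  classical
  rw [Finset.sum_div, ← Finset.sum_fiberwise Finset.univ (fun h : H => ConjClasses.mk (h : G))]
  refine Finset.sum_congr rfl fun c _ => ?_
  have hc : ∀ h : H, ConjClasses.mk (h : G) = c ↔ IsConj c.out (h : G) := fun h => by
    conv_lhs => rw [← Quotient.out_eq c]
    exact ConjClasses.mk_eq_mk_iff_isConj.trans isConj_comm
  rw [Cfsg.inducedCentralChar, finsum_mem_eq_finite_toFinset_sum _ (Set.toFinite _),
    Finset.mul_sum]
  refine Finset.sum_congr ?_ fun h hh => ?_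
  · ext h
    simp [hc h]
  · simp only [Finset.mem_filter, Finset.mem_univ, true_and, Set.Finite.mem_toFinset,
      Set.mem_setOf_eq] at hh
    rw [classFunction_apply_of_isConj hf hh, mul_div_assoc]

theorem sum_classFun_mul_self [Fintype G] [Fintype (ConjClasses G)]
    {f : G → ℂ} (hf : Cfsg.IsClassFunction G f) (χ : Cfsg.IrrCharacter G) :
    (∑ g : G, f g * (χ : G → ℂ) g) / (χ : G → ℂ) 1 =
      ∑ c : ConjClasses G, f c.out * Cfsg.centralChar (χ : G → ℂ) c.out := by
  have h := omega_eq_sum χ (ofClassFun f (fun u g => hf g u))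
  rw [omega_apply, lin_apply] at h
  simpa only [coeff_ofClassFun] using h

/-- For an induced block the extended central characters agree. -/
theorem sum_div_sub_mem_of_induced [Fintype G] {H : Subgroup G} [Fintype H]
    {b : Set (Cfsg.IrrCharacter H)} {B : Set (Cfsg.IrrCharacter G)}
    (hind : Cfsg.IsInducedBlock M H b B) {f : G → ℂ} (hf : Cfsg.IsClassFunction G f)
    (hfR : ∀ g, f g ∈ localRing M) {ξ : Cfsg.IrrCharacter H} (hξ : ξ ∈ b)
    {χ : Cfsg.IrrCharacter G} (hχ : χ ∈ B) :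
    Cfsg.MemLocalIdeal M ((∑ h : H, f h * (ξ : H → ℂ) h) / (ξ : H → ℂ) 1 -
      (∑ g : G, f g * (χ : G → ℂ) g) / (χ : G → ℂ) 1) := by
  classical
  rw [sum_classFun_mul hf, sum_classFun_mul_self hf, ← Finset.sum_sub_distrib]
  refine memLocalIdeal_sum _ fun c _ => ?_
  rw [← mul_sub]
  exact memLocalIdeal_mul_left (hfR _) (hind.2.2 ξ hξ χ hχ c.out)

/-- The regular part of the restriction of `χ`, paired with `ψ`. -/
theorem classInner_regular_restrict [Fintype G] (H : Subgroup G) [Fintype H]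
    (χ : Cfsg.IrrCharacter G) (ψ : Cfsg.IrrCharacter H) :
    Cfsg.classInner (fun h : H => if p ∣ orderOf h then (0 : ℂ)
        else ((p ^ (Nat.card H).factorization p : ℕ) : ℂ) * (χ : G → ℂ) h) (ψ : H → ℂ) =
      (primeToCard p H : ℂ)⁻¹ *
        ∑ h : H, (if p ∣ orderOf (h : G) then (0 : ℂ) else (χ : G → ℂ) (h : G)⁻¹) *
          (ψ : H → ℂ) h := by
  rw [Cfsg.classInner, Finset.mul_sum, Finset.mul_sum, natCast_card_eq p H]
  refine Fintype.sum_equiv (Equiv.inv H) _ _ fun h => ?_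
  have hp0 : (p : ℂ) ≠ 0 := Nat.cast_ne_zero.mpr (Fact.out : p.Prime).ne_zero
  have hm : (primeToCard p H : ℂ) ≠ 0 := Nat.cast_ne_zero.mpr (primeToCard_pos p).ne'
  simp only [Equiv.inv_apply, InvMemClass.coe_inv, inv_inv, orderOf_inv, Subgroup.orderOf_coe]
  rw [← apply_inv (isCharacter_irr ψ)]
  split_ifs
  · simp
  · push_cast
    field_simp

/-- The multiplicities of the constituents of a restriction. -/
noncomputable def mult [Fintype G] (H : Subgroup G) [Fintype H] (χ : Cfsg.IrrCharacter G)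
    (ξ : Cfsg.IrrCharacter H) : ℕ :=
  Classical.choose (exists_classInner_nat (isCharacter_comp H.subtype (isCharacter_irr χ))
    (isCharacter_irr ξ))

theorem classInner_restrict [Fintype G] (H : Subgroup G) [Fintype H]
    (χ : Cfsg.IrrCharacter G) (ξ : Cfsg.IrrCharacter H) :
    Cfsg.classInner (fun h : H => (χ : G → ℂ) h) (ξ : H → ℂ) = (mult H χ ξ : ℂ) :=
  Classical.choose_spec (exists_classInner_nat (isCharacter_comp H.subtype (isCharacter_irr χ))
    (isCharacter_irr ξ))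

theorem restrict_eq_sum [Fintype G] (H : Subgroup G) [Fintype H]
    [Fintype (Cfsg.IrrCharacter H)] (χ : Cfsg.IrrCharacter G) (h : H) :
    (χ : G → ℂ) h = ∑ ξ : Cfsg.IrrCharacter H, (mult H χ ξ : ℂ) * (ξ : H → ℂ) h := by
  have h1 := congrFun (classFunction_eq_sum (θ := fun x : H => (χ : G → ℂ) x)
    (isClassFunction_of_isCharacter (isCharacter_comp H.subtype (isCharacter_irr χ)))) h
  simpa [Finset.sum_apply, classInner_restrict] using h1

/-- The pairing with the regular part of the restriction through the matrix of the subgroup. -/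
theorem sum_regular_restrict [Fintype G] (H : Subgroup G) [Fintype H] (hM : Cfsg.IsPModular p M)
    {b : Set (Cfsg.IrrCharacter H)} (hb : Cfsg.IsPBlock M b) (χ : Cfsg.IrrCharacter G)
    {ψ : Cfsg.IrrCharacter H} (hψ : ψ ∈ b) :
    ∑ h : H, (if p ∣ orderOf (h : G) then (0 : ℂ) else (χ : G → ℂ) (h : G)⁻¹) * (ψ : H → ℂ) h =
      (primeToCard p H : ℂ) *
        ((∑ ξ ∈ bset b, (mult H χ ξ : ℤ) * contribN p ξ ψ : ℤ) : ℂ) := by
  classical
  letI := Fintype.ofFinite (Cfsg.IrrCharacter H)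
  push_cast
  rw [Finset.mul_sum, Finset.sum_congr rfl fun ξ _ => show
      (primeToCard p H : ℂ) * ((mult H χ ξ : ℂ) * (contribN p ξ ψ : ℂ)) =
        (mult H χ ξ : ℂ) * regSum p (ξ : H → ℂ) (ψ : H → ℂ) by rw [regSum_eq_contribN]; ring,
    Finset.sum_subset (Finset.subset_univ (bset b)) fun ξ _ hξ => by
      rw [regSum_eq_contribN, contribN_comm, contribN_eq_zero hM hb hψ
        (fun h => hξ (mem_bset.mpr h))]; simp]
  simp only [regSum_eq_sum, Finset.mul_sum]
  rw [Finset.sum_comm]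
  refine Fintype.sum_equiv (Equiv.inv H) _ _ fun h => ?_
  simp only [Equiv.inv_apply, InvMemClass.coe_inv, inv_inv, orderOf_inv, Subgroup.orderOf_coe]
  split_ifs
  · simp
  · rw [← InvMemClass.coe_inv, restrict_eq_sum, Finset.sum_mul]
    exact Finset.sum_congr rfl fun ξ _ => by rw [mul_assoc]

/-- Modulo one more power of `p` the row of a height-zero character is proportional to the
degrees. -/
theorem row_congr (hM : Cfsg.IsPModular p M) {B : Set (Cfsg.IrrCharacter G)}
    (hB : Cfsg.IsPBlock M B) {χ φ : Cfsg.IrrCharacter G} (hχ : χ ∈ B) (hφ : φ ∈ B)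
    (h0 : vdeg p χ = minVdeg p B) {r : ℤ} (hr : contribN p χ χ = (p : ℤ) ^ minVdeg p B * r) :
    (p : ℤ) ^ (minVdeg p B + 1) ∣
      contribN p φ χ * (udeg p χ : ℤ) - r * (Cfsg.charDegree (φ : G → ℂ) : ℤ) := by
  obtain ⟨s, hs⟩ := pow_vdeg_dvd_contribN hM φ χ
  have hc := contribN_congr hM hB hφ hχ χ hs (h0.symm ▸ hr)
  rw [hs, ← pow_vdeg_mul_udeg p φ, pow_succ]
  push_cast
  have e : (p : ℤ) ^ vdeg p φ * s * (udeg p χ : ℤ) -
      r * ((p : ℤ) ^ vdeg p φ * (udeg p φ : ℤ)) =
      (p : ℤ) ^ vdeg p φ * (s * udeg p χ - r * udeg p φ) := by ring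
  rw [e]
  exact mul_dvd_mul (pow_dvd_pow _ (minVdeg_le hφ)) hc

section induced

variable [Fintype G] {H : Subgroup G} [Fintype H] (hM : Cfsg.IsPModular p M)
  {b : Set (Cfsg.IrrCharacter H)} {B : Set (Cfsg.IrrCharacter G)}
  (hind : Cfsg.IsInducedBlock M H b B)
include hM hind

/-- The congruence behind everything: the pairing on `H` over the degree equals the pairing
on `G` over the degree, modulo the local ideal. -/
theorem regular_restrict_congr (χ : Cfsg.IrrCharacter G) {φ : Cfsg.IrrCharacter G} (hφ : φ ∈ B)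
    {ψ : Cfsg.IrrCharacter H} (hψ : ψ ∈ b) :
    Cfsg.MemLocalIdeal M
      ((∑ h : H, (if p ∣ orderOf (h : G) then (0 : ℂ) else (χ : G → ℂ) (h : G)⁻¹) *
          (ψ : H → ℂ) h) / (ψ : H → ℂ) 1 -
        (primeToCard p G : ℂ) * contribN p φ χ / (φ : G → ℂ) 1) := by
  have h := sum_div_sub_mem_of_induced hind (regular_conj_classFun (p := p) χ)
    (regular_conj_mem χ) hψ hφ
  rwa [sum_regular_conj, regSum_eq_contribN] at h

omit hind in
theorem not_mem_ideal_of_height_zero (hB : Cfsg.IsPBlock M B) {χ : Cfsg.IrrCharacter G}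
    (hχ : χ ∈ B) (h0 : vdeg p χ = minVdeg p B) :
    ¬ Cfsg.MemLocalIdeal M ((primeToCard p G : ℂ) * contribN p χ χ / (χ : G → ℂ) 1) := by
  have hp : p.Prime := Fact.out
  intro h
  obtain ⟨r, hr⟩ := pow_vdeg_dvd_contribN hM χ χ
  have h2 := memLocalIdeal_mul_right h
    (ratio_mem_localRing hM (udeg p χ) (primeToCard p G) (not_dvd_primeToCard hp))
  have h3 : (primeToCard p G : ℂ) * contribN p χ χ / (χ : G → ℂ) 1 *
      ((udeg p χ : ℂ) / (primeToCard p G : ℂ)) = (r : ℂ) := by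
    have : (udeg p χ : ℂ) ≠ 0 := Nat.cast_ne_zero.mpr (udeg_ne_zero hp χ)
    have : (primeToCard p G : ℂ) ≠ 0 := Nat.cast_ne_zero.mpr (primeToCard_pos p).ne'
    have : (p : ℂ) ≠ 0 := Nat.cast_ne_zero.mpr hp.ne_zero
    rw [apply_one_eq p χ, hr]
    push_cast
    field_simp
  rw [h3, memLocalIdeal_intCast_iff hM] at h2
  refine not_dvd_contribN hM hB hχ h0 hχ ?_
  rw [hr, pow_succ]
  exact mul_dvd_mul_left _ h2

/-- The degree of the `b`-part of the restriction of a height-zero character has exact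
valuation. -/
theorem not_dvd_sum_mult {χ : Cfsg.IrrCharacter G} (hχ : χ ∈ B)
    (h0 : vdeg p χ = minVdeg p B) :
    ¬ (p : ℤ) ^ (minVdeg p b + 1) ∣
      ∑ ξ ∈ bset b, (mult H χ ξ : ℤ) * (Cfsg.charDegree (ξ : H → ℂ) : ℤ) := by
  classical
  have hp : p.Prime := Fact.out
  have hb := hind.1
  obtain ⟨ψ, hψ, hψ0⟩ := exists_height_zero (p := p) hb
  intro hd
  set C : ℤ := ∑ ξ ∈ bset b, (mult H χ ξ : ℤ) * contribN p ξ ψ with hC
  obtain ⟨r, hr⟩ := pow_minVdeg_dvd_contribN hM hψ ψ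
  have hC1 : (p : ℤ) ^ (minVdeg p b + 1) ∣ C * (udeg p ψ : ℤ) := by
    have h1 : (p : ℤ) ^ (minVdeg p b + 1) ∣ ∑ ξ ∈ bset b, (mult H χ ξ : ℤ) *
        (contribN p ξ ψ * (udeg p ψ : ℤ) - r * (Cfsg.charDegree (ξ : H → ℂ) : ℤ)) :=
      Finset.dvd_sum fun ξ hξ => (row_congr hM hb hψ (mem_bset.mp hξ) hψ0 hr).mul_left _
    have h2 : C * (udeg p ψ : ℤ) = (∑ ξ ∈ bset b, (mult H χ ξ : ℤ) *
        (contribN p ξ ψ * (udeg p ψ : ℤ) - r * (Cfsg.charDegree (ξ : H → ℂ) : ℤ))) +
        r * ∑ ξ ∈ bset b, (mult H χ ξ : ℤ) * (Cfsg.charDegree (ξ : H → ℂ) : ℤ) := by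
      rw [hC, Finset.sum_mul, Finset.mul_sum, ← Finset.sum_add_distrib]
      exact Finset.sum_congr rfl fun ξ _ => by ring
    rw [h2]
    exact dvd_add h1 (hd.mul_left r)
  have hC2 : (p : ℤ) ^ (minVdeg p b + 1) ∣ C := by
    refine IsCoprime.dvd_of_dvd_mul_right ?_ hC1
    exact (Int.isCoprime_iff_nat_coprime.mpr (by
      simpa using (hp.coprime_iff_not_dvd.mpr (not_dvd_udeg hp ψ)))).pow_left
  obtain ⟨c, hc⟩ := hC2
  have h := regular_restrict_congr hM hind χ hχ hψ
  rw [sum_regular_restrict H hM hb χ hψ, ← hC, apply_one_eq p ψ, hψ0, hc] at h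
  refine not_mem_ideal_of_height_zero hM hind.2.1 hχ h0 ?_
  have hl : Cfsg.MemLocalIdeal M ((primeToCard p H : ℂ) *
      (((p : ℤ) ^ (minVdeg p b + 1) * c : ℤ) : ℂ) /
        ((p : ℂ) ^ minVdeg p b * (udeg p ψ : ℂ))) := by
    have hu : (udeg p ψ : ℂ) ≠ 0 := Nat.cast_ne_zero.mpr (udeg_ne_zero hp ψ)
    have hp0 : (p : ℂ) ≠ 0 := Nat.cast_ne_zero.mpr hp.ne_zero
    have := memLocalIdeal_mul_right (natCast_prime_mem_localIdeal hM)
      (mul_mem (intCast_mem (localRing M) c)
        (ratio_mem_localRing hM (primeToCard p H) (udeg p ψ) (not_dvd_udeg hp ψ)))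
    convert this using 1
    push_cast
    field_simp
    ring
  have := memLocalIdeal_sub hl h
  simpa using this

/-- Blau: some height-zero constituent in `b` has multiplicity prime to `p`. -/
theorem exists_height_zero_mult {χ : Cfsg.IrrCharacter G} (hχ : χ ∈ B)
    (h0 : vdeg p χ = minVdeg p B) :
    ∃ ξ ∈ b, vdeg p ξ = minVdeg p b ∧ ¬ p ∣ mult H χ ξ := by
  by_contra hno
  push Not at hno
  refine not_dvd_sum_mult hM hind hχ h0 (Finset.dvd_sum fun ξ hξ => ?_)
  have hξb := mem_bset.mp hξ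
  rcases (minVdeg_le (p := p) hξb).eq_or_lt with he | hlt
  · obtain ⟨k, hk⟩ := hno ξ hξb he.symm
    rw [hk, ← pow_vdeg_mul_udeg p ξ, ← he]
    exact ⟨(k : ℤ) * udeg p ξ, by push_cast; ring⟩
  · refine dvd_mul_of_dvd_right ?_ _
    rw [← pow_vdeg_mul_udeg p ξ]
    push_cast
    exact dvd_mul_of_dvd_left (pow_dvd_pow _ hlt) _

end induced

end Cfsg.Agent.Lib.Blocks.Contrib
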