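import Mathlib
import Cfsg.Agent.Lib.Blocks.BlockPart
import Cfsg.Agent.Lib.BrauerMap.PrincipalSection

/-!
# Generalized decomposition at a section

For a p-element `u` and a block `e` of `C(u)`, the products of the `e`-parts of `c ↦ χ(uc)` and
`c ↦ χ(u⁻¹c)` over the regular elements sum over all `χ` to `|C(u)| l(e)`.
-/

set_option autoImplicit false
set_option linter.style.haveILetI false

namespace Cfsg.Agent.Lib.Blocks.SectionPart

open MonoidAlgebra
open Cfsg.Agent.Lib.Characters.Basic Cfsg.Agent.Lib.Blocks Cfsg.Agent.Lib.Blocks.Contrib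
open Cfsg.Agent.Lib.Blocks.BlockPart Cfsg.Agent.Lib.Induced.Basic

universe u

variable {G : Type u} [Group G]

/-- The function `c ↦ χ(uc)` on the centralizer of `u`. -/
def sect (x : G) (H : Subgroup G) (χ : G → ℂ) : H → ℂ := fun c => χ (x * (c : G))

theorem sect_apply (x : G) (H : Subgroup G) (χ : G → ℂ) (c : H) : sect x H χ c = χ (x * (c : G)) :=
  rfl

theorem commute_of_mem {x : G} {H : Subgroup G}
    (hH : H = Subgroup.centralizer (Subgroup.zpowers x : Set G)) {v : G} (hv : v ∈ H) :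
    Commute x v := by
  subst hH
  exact hv x (Subgroup.mem_zpowers x)

theorem isClassFunction_sect {x : G} {H : Subgroup G}
    (hH : ∀ v ∈ H, Commute x v) {χ : G → ℂ} (hχ : Cfsg.IsClassFunction G χ) :
    Cfsg.IsClassFunction H (sect x H χ) := by
  intro c v
  rw [sect_apply, sect_apply]
  refine Eq.trans ?_ (hχ (x * (c : G)) (v : G))
  congr 1
  show x * ((v : G) * (c : G) * (v : G)⁻¹) = (v : G) * (x * (c : G)) * (v : G)⁻¹
  rw [← mul_assoc (v : G) x, ← (hH v v.2).eq]
  group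

variable [Fintype G] {p : ℕ} [Fact p.Prime] {M : Ideal Cfsg.AlgInt} [M.IsMaximal]

omit [M.IsMaximal] in
/-- A regular translate: the p-part of `x s` is `x`. -/
theorem isPPart_mul {x : G} (hx : ∃ k : ℕ, orderOf x = p ^ k) {s : G} (hs : ¬ p ∣ orderOf s)
    (h : Commute x s) : Cfsg.IsPPart p (x * s) x := ⟨s, rfl, h, hx, hs⟩

open scoped Classical in
/-- Column orthogonality in a section. -/
theorem sum_sect_mul [Fintype (Cfsg.IrrCharacter G)] {x : G} (hx : ∃ k : ℕ, orderOf x = p ^ k)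
    {H : Subgroup G} [Fintype H] (hH : H = Subgroup.centralizer (Subgroup.zpowers x : Set G))
    (a b : H) (ha : ¬ p ∣ orderOf (a : G)) (hb : ¬ p ∣ orderOf (b : G)) :
    ∑ χ : Cfsg.IrrCharacter G, (χ : G → ℂ) (x * (a : G)) * (χ : G → ℂ) (x⁻¹ * (b : G)⁻¹) =
      ∑ v : H, if a = v * b * v⁻¹ then (1 : ℂ) else 0 := by
  have hxa := commute_of_mem hH a.2
  have hxb := commute_of_mem hH b.2
  rw [show x⁻¹ * (b : G)⁻¹ = (x * (b : G))⁻¹ by rw [mul_inv_rev, hxb.inv_inv.eq],
    Cfsg.Agent.Lib.BrauerMap.PrincipalSection.sum_irr_mul_inv]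
  refine (Finset.sum_of_injOn (fun v : H => (v : G))
    (fun _ _ _ _ h => Subtype.ext h) (fun _ _ => Finset.mem_univ _) (fun v _ hv => ?_)
    (fun v _ => ?_)).symm
  · refine if_neg fun h => hv ⟨⟨v, ?_⟩, Finset.mem_univ _, rfl⟩
    have h1 := Cfsg.Agent.Lib.BrauerMap.PrincipalSection.isPPart_conj (isPPart_mul hx hb hxb) v
    rw [← h] at h1
    have h2 := Cfsg.Agent.Lib.BrauerMap.PrincipalSection.isPPart_unique Fact.out
      (isPPart_mul hx ha hxa) h1
    rw [hH, Cfsg.Agent.Lib.BrauerMap.SecondMain.mem_centralizer_zpowers_iff]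
    show v * x = x * v
    conv_rhs => rw [h2, inv_mul_cancel_right]
  · refine if_congr ?_ rfl rfl
    have hxv := commute_of_mem hH v.2
    rw [show (v : G) * (x * (b : G)) * (v : G)⁻¹ = x * ((v : G) * (b : G) * (v : G)⁻¹) by
      rw [← mul_assoc (v : G), ← hxv.eq]; group]
    exact ⟨fun h => by rw [h]; rfl, fun h => Subtype.ext (mul_left_cancel h)⟩

/-- The sum over all characters of the regular products of the parts in a block. -/
theorem sum_regular_blockPart_mul (hM : Cfsg.IsPModular p M) [Fintype (Cfsg.IrrCharacter G)]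
    {x : G} (hx : ∃ k : ℕ, orderOf x = p ^ k) {H : Subgroup G} [Fintype H]
    (hH : H = Subgroup.centralizer (Subgroup.zpowers x : Set G))
    {e : Set (Cfsg.IrrCharacter H)} (he : Cfsg.IsPBlock M e) :
    ∑ χ : Cfsg.IrrCharacter G, ∑ s : H,
      Cfsg.pRegularPart p (Cfsg.blockPart e (sect x H (χ : G → ℂ))) s *
        Cfsg.blockPart e (sect x⁻¹ H (χ : G → ℂ)) s⁻¹ =
      (Nat.card H : ℂ) * (Cfsg.blockRank p e : ℂ) := by
  classical
  have hcomm : ∀ v ∈ H, Commute x v := fun v hv => commute_of_mem hH hv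
  have hcomm' : ∀ v ∈ H, Commute x⁻¹ v := fun v hv => (hcomm v hv).inv_left
  have hf : ∀ χ : Cfsg.IrrCharacter G, Cfsg.IsClassFunction H (sect x H (χ : G → ℂ)) :=
    fun χ => isClassFunction_sect hcomm (isClassFunction_irr χ)
  have hh : ∀ χ : Cfsg.IrrCharacter G, Cfsg.IsClassFunction H (sect x⁻¹ H (χ : G → ℂ)) :=
    fun χ => isClassFunction_sect hcomm' (isClassFunction_irr χ)
  have key : ∀ χ : Cfsg.IrrCharacter G, ∑ s : H,
      Cfsg.pRegularPart p (Cfsg.blockPart e (sect x H (χ : G → ℂ))) s *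
        Cfsg.blockPart e (sect x⁻¹ H (χ : G → ℂ)) s⁻¹ =
      ∑ s : H, ∑ k : H, if p ∣ orderOf s ∨ p ∣ orderOf (s * k) then 0 else
        Cfsg.blockCoeff e k *
          ((χ : G → ℂ) (x * ((s * k : H) : G)) * (χ : G → ℂ) (x⁻¹ * ((s : H) : G)⁻¹)) := by
    intro χ
    simp only [regular_blockPart hM he (hf χ)]
    rw [sum_blockPart_mul_inv e (isClassFunction_regular (hf χ)) (hh χ)]
    refine Finset.sum_congr rfl fun s _ => ?_
    by_cases hs : p ∣ orderOf s
    · rw [Finset.sum_eq_zero fun k _ => if_pos (Or.inl hs), ← regular_blockPart hM he (hf χ),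
        pRegularPart_apply, if_pos hs, zero_mul]
    rw [blockPart_eq_sum e (isClassFunction_regular (hf χ)), Finset.sum_mul]
    refine Finset.sum_congr rfl fun k _ => ?_
    rw [pRegularPart_apply]
    by_cases hk : p ∣ orderOf (s * k)
    · rw [if_pos hk, if_pos (Or.inr hk), mul_zero, zero_mul]
    · rw [if_neg hk, if_neg (by tauto), sect_apply, sect_apply, mul_assoc]
      rfl
  have h67 : (Nat.card H : ℂ) * (Cfsg.blockRank p e : ℂ) =
      ∑ s : H, if p ∣ orderOf s then 0 else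
        ∑ᶠ ξ ∈ e, (ξ : H → ℂ) s * (ξ : H → ℂ) s⁻¹ := by
    have h : ((∑ ξ ∈ bset e, contribN p ξ ξ : ℤ) : ℂ) * (primeToCard p H : ℂ) =
        (Nat.card H : ℂ) * (Cfsg.blockRank p e : ℂ) := by
      rw [sum_contribN_self hM he, natCast_card_eq p H]
      push_cast
      ring
    rw [← h]
    simp only [finsum_mem_bset, Int.cast_sum, Finset.sum_mul]
    have hr : ∀ ξ : Cfsg.IrrCharacter H, (contribN p ξ ξ : ℂ) * (primeToCard p H : ℂ) =
        ∑ s : H, if p ∣ orderOf s then 0 else (ξ : H → ℂ) s * (ξ : H → ℂ) s⁻¹ := fun ξ => by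
      rw [mul_comm, ← regSum_eq_contribN, regSum_eq_sum]
    simp only [hr]
    rw [Finset.sum_comm]
    refine Finset.sum_congr rfl fun s _ => ?_
    split_ifs <;> simp
  rw [Finset.sum_congr rfl fun χ _ => key χ, Finset.sum_comm, h67]
  refine Finset.sum_congr rfl fun s _ => ?_
  rw [Finset.sum_comm]
  by_cases hs : p ∣ orderOf s
  · rw [if_pos hs]
    exact Finset.sum_eq_zero fun k _ => Finset.sum_eq_zero fun χ _ => if_pos (Or.inl hs)
  rw [if_neg hs, ← sum_blockCoeff_conj]
  have hs' : ¬ p ∣ orderOf ((s : H) : G) := by rwa [Subgroup.orderOf_coe]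
  have e1 : ∀ k : H, (∑ χ : Cfsg.IrrCharacter G, if p ∣ orderOf s ∨ p ∣ orderOf (s * k) then 0 else
      Cfsg.blockCoeff e k *
        ((χ : G → ℂ) (x * ((s * k : H) : G)) * (χ : G → ℂ) (x⁻¹ * ((s : H) : G)⁻¹))) =
      ∑ v : H, if k = s⁻¹ * (v * s * v⁻¹) then Cfsg.blockCoeff e k else 0 := by
    intro k
    by_cases hk : p ∣ orderOf (s * k)
    · simp only [if_pos (Or.inr hk : p ∣ orderOf s ∨ p ∣ orderOf (s * k)), Finset.sum_const_zero]
      refine (Finset.sum_eq_zero fun v _ => if_neg fun h => hs ?_).symm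
      rw [h, mul_inv_cancel_left, show orderOf (v * s * v⁻¹) = orderOf s from
        (MulAut.conj v).orderOf_eq s] at hk
      exact hk
    · simp only [if_neg (by tauto : ¬ (p ∣ orderOf s ∨ p ∣ orderOf (s * k))), ← Finset.mul_sum]
      rw [sum_sect_mul hx hH (s * k) s (by rwa [Subgroup.orderOf_coe]) hs', Finset.mul_sum]
      refine Finset.sum_congr rfl fun v _ => ?_
      rw [mul_ite, mul_one, mul_zero]
      refine if_congr ⟨fun h => ?_, fun h => ?_⟩ rfl rfl
      · rw [← h, inv_mul_cancel_left]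
      · rw [h, mul_inv_cancel_left]
  rw [Finset.sum_congr rfl fun k _ => e1 k, Finset.sum_comm]
  refine Finset.sum_congr rfl fun v _ => ?_
  rw [Finset.sum_ite_eq', if_pos (Finset.mem_univ _)]

/-- The regular part in a block that gives no pair of the block of `χ` vanishes. -/
theorem blockPart_sect_eq_zero (hM : Cfsg.IsPModular p M) {x : G}
    (hx : ∃ k : ℕ, orderOf x = p ^ k) {H : Subgroup G} [Fintype H]
    (hH : H = Subgroup.centralizer (Subgroup.zpowers x : Set G))
    {e : Set (Cfsg.IrrCharacter H)} {B : Set (Cfsg.IrrCharacter G)}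
    (hind : Cfsg.IsInducedBlock M H e B) {χ : Cfsg.IrrCharacter G} (hχ : χ ∉ B) {s : H}
    (hs : ¬ p ∣ orderOf s) : Cfsg.blockPart e (sect x H (χ : G → ℂ)) s = 0 := by
  classical
  obtain ⟨i, hi⟩ := hx
  rw [blockPart_eq_sum e (isClassFunction_sect (fun v hv => commute_of_mem hH hv)
    (isClassFunction_irr χ))]
  have h := finsum_blockCoeff_mul_eq_zero (G := G) hM hind.1 hi
    (y := (s : G)) (by rwa [Subgroup.orderOf_coe]) (commute_of_mem hH s.2) s.2 (by
      rw [hH]
      intro v hv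
      rw [Cfsg.Agent.Lib.BrauerMap.SecondMain.mem_centralizer_zpowers_iff]
      exact Subgroup.mem_centralizer_singleton_iff.mp hv) χ (fun ξ hξ => by
      obtain ⟨ψ, hψ⟩ := isPBlock_nonempty hind.2.1
      rw [inducedBar_eq_omegaBar hind hξ hψ, omegaBar_blockIdemBar, if_neg]
      intro hmem
      exact hχ (((isPBlock_eq_blockOf hind.2.1 hψ).trans (blockOf_eq_of_mem hmem)) ▸
        mem_blockOf_self χ))
  rw [finsum_eq_sum_of_fintype] at h
  rw [← h]
  refine Finset.sum_congr rfl fun k _ => ?_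
  rw [sect_apply]
  refine congrArg _ ?_
  rw [← isClassFunction_irr χ ((k : G) * (x * (s : G))) (k : G)⁻¹]
  refine congrArg _ ?_
  rw [Subgroup.coe_mul]
  group

end Cfsg.Agent.Lib.Blocks.SectionPart
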