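import Mathlib
import Cfsg.Agent.Lib.Blocks.SectionPart
import Cfsg.Agent.Lib.Blocks.ContribInduced
import Cfsg.Agent.Lib.BC78.PowChar
import Cfsg.Agent.Lib.GaloisMean.Basic

/-!
# The contribution matrix of a block of the centralizer of a p-element

For a p-element `y` and a block `b` of `C(y)` the contributions
`X(χ, ψ) = p^d m^b(χ, ψ)` are algebraic integers permuted by Galois automorphisms, with
`∑ |X|² = p^(2d) l(b)`, and are units at `M` for height-zero `χ`, `ψ` when `b` has full defect.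
-/

set_option autoImplicit false
set_option linter.style.haveILetI false
set_option linter.unusedSectionVars false

namespace Cfsg.Agent.Lib.Blocks.SectionMatrix

open scoped ComplexConjugate
open Cfsg.Agent.Lib.Characters.Basic Cfsg.Agent.Lib.Blocks Cfsg.Agent.Lib.Blocks.Contrib
open Cfsg.Agent.Lib.Blocks.BlockPart Cfsg.Agent.Lib.Blocks.SectionPart
open Cfsg.Agent.Lib.Induced.Basic Cfsg.Agent.Lib.BC78.Galois

universe u

variable {G : Type u} [Group G] [Fintype G] {p : ℕ} [Fact p.Prime] {M : Ideal Cfsg.AlgInt}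
  [M.IsMaximal] {H : Subgroup G} [Fintype H]

/-- The scalar of a central element on an irreducible character. -/
noncomputable def lam (x : H) (θ : Cfsg.IrrCharacter H) : ℂ := (θ : H → ℂ) x / (θ : H → ℂ) 1

theorem apply_central_mul {x : H} (hx : ∀ c, Commute x c) (θ : Cfsg.IrrCharacter H) (c : H) :
    (θ : H → ℂ) (x * c) = lam x θ * (θ : H → ℂ) c := by
  have hz : (MonoidAlgebra.single x (1 : ℂ)) ∈
      Subalgebra.center ℂ (MonoidAlgebra ℂ H) := by
    rw [Subalgebra.mem_center_iff]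
    intro z
    induction z using MonoidAlgebra.induction_linear with
    | zero => simp
    | add a b ha hb => simp only [add_mul, mul_add, ha, hb]
    | single a r =>
      rw [MonoidAlgebra.single_mul_single, MonoidAlgebra.single_mul_single, (hx a).eq, mul_comm r]
  have h := lin_center_mul θ hz (MonoidAlgebra.single c 1)
  rwa [MonoidAlgebra.single_mul_single, one_mul, lin_single, lin_single, lin_single, one_mul,
    one_mul, one_mul] at h

theorem apply_pow_mul {x : H} (hx : ∀ c, Commute x c) (θ : Cfsg.IrrCharacter H) (j : ℕ) (c : H) :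
    (θ : H → ℂ) (x ^ j * c) = lam x θ ^ j * (θ : H → ℂ) c := by
  induction j with
  | zero => simp
  | succ j ih => rw [pow_succ', mul_assoc, apply_central_mul hx, ih, pow_succ', mul_assoc]

theorem lam_pow {x : H} (hx : ∀ c, Commute x c) {n : ℕ} (hn : x ^ n = 1)
    (θ : Cfsg.IrrCharacter H) : lam x θ ^ n = 1 := by
  have h := apply_pow_mul hx θ n 1
  rw [hn, mul_one] at h
  exact mul_right_cancel₀ (apply_one_ne_zero θ) (h.symm.trans (one_mul _).symm)

theorem conj_lam {x : H} (hx : ∀ c, Commute x c) (θ : Cfsg.IrrCharacter H) :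
    conj (lam x θ) = (lam x θ)⁻¹ := by
  refine (Complex.inv_eq_conj (Complex.norm_eq_one_of_pow_eq_one
    (lam_pow hx (pow_orderOf_eq_one x) θ) (orderOf_pos x).ne')).symm

theorem restrict_pow_mul {x : H} (hx : ∀ c, Commute x c) [Fintype (Cfsg.IrrCharacter H)]
    (χ : Cfsg.IrrCharacter G) (j : ℕ) (c : H) :
    (χ : G → ℂ) ((x : G) ^ j * (c : G)) =
      ∑ θ : Cfsg.IrrCharacter H, (mult H χ θ : ℂ) * lam x θ ^ j * (θ : H → ℂ) c := by
  rw [← SubgroupClass.coe_pow, ← Subgroup.coe_mul, restrict_eq_sum]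
  exact Finset.sum_congr rfl fun θ _ => by rw [apply_pow_mul hx, mul_assoc]

/-- The coefficient of `c ↦ χ(xc)` at `θ`. -/
noncomputable def acoef (x : H) (χ : Cfsg.IrrCharacter G) (θ : Cfsg.IrrCharacter H) : ℂ :=
  (mult H χ θ : ℂ) * lam x θ

theorem restrict_mul {x : H} (hx : ∀ c, Commute x c) [Fintype (Cfsg.IrrCharacter H)]
    (χ : Cfsg.IrrCharacter G) (c : H) :
    (χ : G → ℂ) ((x : G) * (c : G)) =
      ∑ θ : Cfsg.IrrCharacter H, acoef x χ θ * (θ : H → ℂ) c := by
  simpa [acoef] using restrict_pow_mul hx χ 1 c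

theorem classInner_sect {x : H} (hx : ∀ c, Commute x c) (χ : Cfsg.IrrCharacter G)
    (θ : Cfsg.IrrCharacter H) :
    Cfsg.classInner (sect (x : G) H (χ : G → ℂ)) θ = acoef x χ θ := by
  classical
  haveI := Fintype.ofFinite (Cfsg.IrrCharacter H)
  have e : sect (x : G) H (χ : G → ℂ) =
      ∑ φ : Cfsg.IrrCharacter H, acoef x χ φ • (φ : H → ℂ) := by
    funext c
    rw [Finset.sum_apply, sect_apply, restrict_mul hx]
    rfl
  rw [e, classInner_sum_left]
  simp only [classInner_smul_left, classInner_irr, mul_ite, mul_one, mul_zero, Finset.sum_ite_eq',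
    Finset.mem_univ, if_true]

/-- A relation on regular elements gives a relation against the contribution numbers. -/
theorem sum_mul_contribN_eq_zero [Fintype (Cfsg.IrrCharacter H)] (f : Cfsg.IrrCharacter H → ℂ)
    (h : ∀ s : H, ¬ p ∣ orderOf s → ∑ θ : Cfsg.IrrCharacter H, f θ * (θ : H → ℂ) s = 0)
    (ζ : Cfsg.IrrCharacter H) :
    ∑ θ : Cfsg.IrrCharacter H, f θ * (contribN p θ ζ : ℂ) = 0 := by
  have h1 : (primeToCard p H : ℂ) * ∑ θ : Cfsg.IrrCharacter H, f θ * (contribN p θ ζ : ℂ) = 0 := by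
    rw [Finset.mul_sum]
    simp only [mul_left_comm (primeToCard p H : ℂ), ← regSum_eq_contribN, regSum_eq_sum,
      Finset.mul_sum]
    rw [Finset.sum_comm]
    refine Finset.sum_eq_zero fun s _ => ?_
    by_cases hs : p ∣ orderOf s
    · simp [hs]
    · simp only [if_neg hs, ← mul_assoc, ← Finset.sum_mul, h s hs, zero_mul]
  exact (mul_eq_zero.mp h1).resolve_left (Nat.cast_ne_zero.mpr (primeToCard_pos p).ne')

variable (hM : Cfsg.IsPModular p M) {b : Set (Cfsg.IrrCharacter H)} (hb : Cfsg.IsPBlock M b)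

include hM hb in
theorem sum_mul_contribN_bset [Fintype (Cfsg.IrrCharacter H)] (f : Cfsg.IrrCharacter H → ℂ)
    {ζ : Cfsg.IrrCharacter H} (hζ : ζ ∈ b) :
    ∑ θ : Cfsg.IrrCharacter H, f θ * (contribN p θ ζ : ℂ) =
      ∑ θ ∈ bset b, f θ * (contribN p θ ζ : ℂ) := by
  refine (Finset.sum_subset (Finset.subset_univ _) fun θ _ hθ => ?_).symm
  rw [contribN_comm, contribN_eq_zero hM hb hζ (fun h => hθ (mem_bset.mpr h)), Int.cast_zero,
    mul_zero]

/-- The row of `χ` against the contribution numbers of `b`. -/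
noncomputable def row (p : ℕ) (b : Set (Cfsg.IrrCharacter H)) (x : H) (χ : Cfsg.IrrCharacter G)
    (ζ : Cfsg.IrrCharacter H) : ℂ :=
  ∑ θ ∈ bset b, acoef x χ θ * (contribN p θ ζ : ℂ)

/-- `x` is a p-element and `H` its centralizer. -/
structure Pelt (p : ℕ) (x : H) : Prop where
  pow : ∃ k : ℕ, orderOf (x : G) = p ^ k
  eq : H = Subgroup.centralizer (Subgroup.zpowers (x : G) : Set G)

theorem Pelt.commute {x : H} (hx : Pelt p x) (c : H) : Commute x c :=
  Subtype.ext (commute_of_mem hx.eq c.2).eq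

include hM in
theorem row_eq_zero {x : H} (hx : Pelt p x) {B : Set (Cfsg.IrrCharacter G)}
    (hind : Cfsg.IsInducedBlock M H b B) {χ : Cfsg.IrrCharacter G} (hχ : χ ∉ B)
    {ζ : Cfsg.IrrCharacter H} (hζ : ζ ∈ b) : row p b x χ ζ = 0 := by
  classical
  haveI := Fintype.ofFinite (Cfsg.IrrCharacter H)
  set f : Cfsg.IrrCharacter H → ℂ := fun θ => if θ ∈ b then acoef x χ θ else 0
  have h := sum_mul_contribN_eq_zero (p := p) f (fun s hs => ?_) ζ
  · rw [sum_mul_contribN_bset hM hind.1 f hζ] at h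
    rw [row, ← h]
    exact Finset.sum_congr rfl fun θ hθ => by simp only [f, if_pos (mem_bset.mp hθ)]
  · have h0 := blockPart_sect_eq_zero hM hx.pow hx.eq hind hχ hs
    rw [blockPart_apply] at h0
    rw [← h0]
    simp only [f, ite_mul, zero_mul, ← Finset.sum_filter]
    exact Finset.sum_congr (by ext; simp) fun θ _ => by rw [classInner_sect hx.commute]

include hM hb in
theorem mul_row [Fintype (Cfsg.IrrCharacter H)] {x : H} (hx : Pelt p x) (χ : Cfsg.IrrCharacter G)
    {ζ : Cfsg.IrrCharacter H} (hζ : ζ ∈ b) :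
    (primeToCard p H : ℂ) * row p b x χ ζ =
      ∑ s : H, if p ∣ orderOf s then 0 else
        (χ : G → ℂ) ((x : G) * (s : G)) * (ζ : H → ℂ) s⁻¹ := by
  rw [row, ← sum_mul_contribN_bset hM hb _ hζ, Finset.mul_sum]
  simp only [mul_left_comm (primeToCard p H : ℂ), ← regSum_eq_contribN, regSum_eq_sum,
    Finset.mul_sum]
  rw [Finset.sum_comm]
  refine Finset.sum_congr rfl fun s _ => ?_
  by_cases hs : p ∣ orderOf s
  · simp [hs]
  · simp only [if_neg hs, ← mul_assoc, ← Finset.sum_mul, ← restrict_mul hx.commute]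

include hM in
/-- Column orthogonality for the rows. -/
theorem sum_row_mul {x : H} (hx : Pelt p x) {B : Set (Cfsg.IrrCharacter G)}
    (hind : Cfsg.IsInducedBlock M H b B) {ζ ζ' : Cfsg.IrrCharacter H} (hζ : ζ ∈ b)
    (hζ' : ζ' ∈ b) :
    ∑ χ ∈ bset B, row p b x χ ζ * conj (row p b x χ ζ') =
      (p : ℂ) ^ (Nat.card H).factorization p * (contribN p ζ ζ' : ℂ) := by
  classical
  haveI := Fintype.ofFinite (Cfsg.IrrCharacter G)
  haveI := Fintype.ofFinite (Cfsg.IrrCharacter H)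
  have hb := hind.1
  rw [Finset.sum_subset (Finset.subset_univ (bset B)) fun χ _ hχ => by
    rw [row_eq_zero hM hx hind (fun h => hχ (mem_bset.mpr h)) hζ, zero_mul]]
  set m := (primeToCard p H : ℂ) with hm
  have hm0 : m ≠ 0 := Nat.cast_ne_zero.mpr (primeToCard_pos p).ne'
  refine mul_left_cancel₀ (mul_ne_zero hm0 hm0) ?_
  have hc : ∀ χ : Cfsg.IrrCharacter G, m * conj (row p b x χ ζ') = ∑ t : H,
      if p ∣ orderOf t then 0 else
        (χ : G → ℂ) ((x : G)⁻¹ * (t : G)⁻¹) * (ζ' : H → ℂ) t := by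
    intro χ
    rw [show m = conj m by rw [hm, map_natCast], ← map_mul, mul_row hM hb hx χ hζ', map_sum]
    refine Finset.sum_congr rfl fun t _ => ?_
    split_ifs
    · exact map_zero _
    · rw [map_mul, ← apply_inv (isCharacter_irr χ), ← apply_inv (isCharacter_irr ζ'), inv_inv,
        mul_inv_rev, ((commute_of_mem hx.eq t.2).inv_inv).eq]
  rw [Finset.mul_sum]
  calc ∑ χ : Cfsg.IrrCharacter G, m * m * (row p b x χ ζ * conj (row p b x χ ζ'))
      = ∑ χ : Cfsg.IrrCharacter G, (m * row p b x χ ζ) * (m * conj (row p b x χ ζ')) :=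
        Finset.sum_congr rfl fun χ _ => by ring
    _ = ∑ s : H, ∑ t : H, if p ∣ orderOf s ∨ p ∣ orderOf t then 0 else
          (ζ : H → ℂ) s⁻¹ * (ζ' : H → ℂ) t * ∑ v : H, if s = v * t * v⁻¹ then (1 : ℂ) else 0 := by
        rw [Finset.sum_congr rfl fun χ _ => by rw [hc χ, hm, mul_row hM hb hx χ hζ, Finset.sum_mul_sum]]
        simp only [Finset.mul_sum]
        rw [Finset.sum_comm]
        refine Finset.sum_congr rfl fun s _ => ?_
        rw [Finset.sum_comm]
        refine Finset.sum_congr rfl fun t _ => ?_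
        by_cases hs : p ∣ orderOf s
        · simp [hs]
        by_cases ht : p ∣ orderOf t
        · simp [ht]
        simp only [if_neg hs, if_neg ht, if_neg (not_or.mpr ⟨hs, ht⟩)]
        rw [← Finset.mul_sum, ← sum_sect_mul hx.pow hx.eq s t (by rwa [Subgroup.orderOf_coe])
          (by rwa [Subgroup.orderOf_coe]), Finset.mul_sum]
        exact Finset.sum_congr rfl fun χ _ => by ring
    _ = ∑ s : H, if p ∣ orderOf s then 0 else
          (Nat.card H : ℂ) * ((ζ : H → ℂ) s⁻¹ * (ζ' : H → ℂ) s) := by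
        refine Finset.sum_congr rfl fun s _ => ?_
        by_cases hs : p ∣ orderOf s
        · simp [hs]
        rw [if_neg hs]
        calc _ = ∑ v : H, ∑ t : H, (if t = v⁻¹ * s * v then
              (ζ : H → ℂ) s⁻¹ * (ζ' : H → ℂ) t else 0) := by
              rw [Finset.sum_comm]
              refine Finset.sum_congr rfl fun t _ => ?_
              by_cases ht : p ∣ orderOf t
              · rw [if_pos (Or.inr ht)]
                refine (Finset.sum_eq_zero fun v _ => if_neg fun h => hs ?_).symm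
                rwa [h, show orderOf (v⁻¹ * s * v) = orderOf s by
                  simpa using (MulAut.conj v⁻¹).orderOf_eq s] at ht
              · rw [if_neg (not_or.mpr ⟨hs, ht⟩), Finset.mul_sum]
                refine Finset.sum_congr rfl fun v _ => ?_
                rw [mul_ite, mul_one, mul_zero]
                refine if_congr ⟨fun h => ?_, fun h => ?_⟩ rfl rfl
                · rw [h]; group
                · rw [h]; group
          _ = _ := by
              have e : ∀ v : H, (ζ' : H → ℂ) (v⁻¹ * s * v) = (ζ' : H → ℂ) s := fun v => by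
                simpa using isClassFunction_irr ζ' s v⁻¹
              simp only [Finset.sum_ite_eq', Finset.mem_univ, if_true, e, Finset.sum_const,
                nsmul_eq_mul, Nat.card_eq_fintype_card, Finset.card_univ]
    _ = (Nat.card H : ℂ) * regSum p (ζ' : H → ℂ) (ζ : H → ℂ) := by
        rw [regSum_eq_sum, Finset.mul_sum]
        refine Finset.sum_congr rfl fun s _ => ?_
        split_ifs
        · rw [mul_zero]
        · ring
    _ = _ := by
        rw [regSum_eq_contribN, natCast_card_eq p H, contribN_comm, hm]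
        ring

/-- The contribution numbers over the least degree power. -/
noncomputable def nq (p : ℕ) (b : Set (Cfsg.IrrCharacter H)) (ξ η : Cfsg.IrrCharacter H) : ℤ :=
  contribN p ξ η / (p : ℤ) ^ minVdeg p b

include hM hb in
theorem pow_mul_nq {ξ : Cfsg.IrrCharacter H} (hξ : ξ ∈ b) (η : Cfsg.IrrCharacter H) :
    (p : ℤ) ^ minVdeg p b * nq p b ξ η = contribN p ξ η :=
  Int.mul_ediv_cancel' (pow_minVdeg_dvd_contribN hM hξ η)

theorem nq_comm (ξ η : Cfsg.IrrCharacter H) : nq p b ξ η = nq p b η ξ := by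
  rw [nq, nq, contribN_comm]

include hM hb in
theorem nq_sq {ξ η : Cfsg.IrrCharacter H} (hξ : ξ ∈ b) (hη : η ∈ b) :
    ∑ ζ ∈ bset b, nq p b ξ ζ * nq p b ζ η =
      (p : ℤ) ^ Cfsg.blockDefect p b * nq p b ξ η := by
  have h0 : ((p : ℤ) ^ minVdeg p b) * ((p : ℤ) ^ minVdeg p b) ≠ 0 :=
    mul_ne_zero (pow_ne_zero _ (mod_cast (Fact.out : p.Prime).ne_zero))
      (pow_ne_zero _ (mod_cast (Fact.out : p.Prime).ne_zero))
  refine mul_left_cancel₀ h0 ?_
  rw [Finset.mul_sum]
  calc ∑ ζ ∈ bset b, ((p : ℤ) ^ minVdeg p b * (p : ℤ) ^ minVdeg p b) *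
        (nq p b ξ ζ * nq p b ζ η) = ∑ ζ ∈ bset b, contribN p ξ ζ * contribN p ζ η :=
        Finset.sum_congr rfl fun ζ hζ => by
          rw [← pow_mul_nq hM hb hξ ζ, ← pow_mul_nq hM hb (mem_bset.mp hζ) η]; ring
    _ = _ := by
        rw [sum_bset_mul hM hb hξ, ← minVdeg_add_blockDefect hb, pow_add,
          ← pow_mul_nq hM hb hξ η]
        ring

include hM hb in
theorem sum_nq_self : ∑ ξ ∈ bset b, nq p b ξ ξ =
    (p : ℤ) ^ Cfsg.blockDefect p b * (Cfsg.blockRank p b : ℤ) := by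
  have h0 : ((p : ℤ) ^ minVdeg p b) ≠ 0 := pow_ne_zero _ (mod_cast (Fact.out : p.Prime).ne_zero)
  refine mul_left_cancel₀ h0 ?_
  rw [Finset.mul_sum, Finset.sum_congr rfl fun ξ hξ => pow_mul_nq hM hb (mem_bset.mp hξ) ξ,
    sum_contribN_self hM hb, ← minVdeg_add_blockDefect hb, pow_add]
  ring

/-- The row over the least degree power. -/
noncomputable def rowq (p : ℕ) (b : Set (Cfsg.IrrCharacter H)) (x : H) (χ : Cfsg.IrrCharacter G)
    (ζ : Cfsg.IrrCharacter H) : ℂ :=
  ∑ θ ∈ bset b, acoef x χ θ * (nq p b θ ζ : ℂ)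

include hM hb in
theorem pow_mul_rowq (x : H) (χ : Cfsg.IrrCharacter G) (ζ : Cfsg.IrrCharacter H) :
    (p : ℂ) ^ minVdeg p b * rowq p b x χ ζ = row p b x χ ζ := by
  rw [rowq, row, Finset.mul_sum]
  refine Finset.sum_congr rfl fun θ hθ => ?_
  rw [← pow_mul_nq hM hb (mem_bset.mp hθ) ζ]
  push_cast
  ring

include hM in
theorem sum_rowq_mul {x : H} (hx : Pelt p x) {B : Set (Cfsg.IrrCharacter G)}
    (hind : Cfsg.IsInducedBlock M H b B) {ζ ζ' : Cfsg.IrrCharacter H} (hζ : ζ ∈ b)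
    (hζ' : ζ' ∈ b) :
    ∑ χ ∈ bset B, rowq p b x χ ζ * conj (rowq p b x χ ζ') =
      (p : ℂ) ^ Cfsg.blockDefect p b * (nq p b ζ ζ' : ℂ) := by
  have hb := hind.1
  have h0 : ((p : ℂ) ^ minVdeg p b) * ((p : ℂ) ^ minVdeg p b) ≠ 0 :=
    mul_ne_zero (pow_ne_zero _ (Nat.cast_ne_zero.mpr (Fact.out : p.Prime).ne_zero))
      (pow_ne_zero _ (Nat.cast_ne_zero.mpr (Fact.out : p.Prime).ne_zero))
  refine mul_left_cancel₀ h0 ?_
  rw [Finset.mul_sum]
  calc ∑ χ ∈ bset B, ((p : ℂ) ^ minVdeg p b * (p : ℂ) ^ minVdeg p b) *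
        (rowq p b x χ ζ * conj (rowq p b x χ ζ')) =
        ∑ χ ∈ bset B, row p b x χ ζ * conj (row p b x χ ζ') :=
        Finset.sum_congr rfl fun χ _ => by
          rw [← pow_mul_rowq hM hb x χ ζ, ← pow_mul_rowq hM hb x χ ζ', map_mul, map_pow,
            map_natCast]
          ring
    _ = _ := by
        rw [sum_row_mul hM hx hind hζ hζ', ← minVdeg_add_blockDefect hb, pow_add,
          ← pow_mul_nq hM hb hζ ζ']
        push_cast
        ring

/-- `p^d` times the contribution of `b` at `χ`, `ψ`. -/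
noncomputable def cX (p : ℕ) (b : Set (Cfsg.IrrCharacter H)) (x : H)
    (χ ψ : Cfsg.IrrCharacter G) : ℂ :=
  ∑ ζ ∈ bset b, rowq p b x χ ζ * conj (acoef x ψ ζ)

theorem conj_cX (x : H) (χ ψ : Cfsg.IrrCharacter G) : conj (cX p b x χ ψ) = cX p b x ψ χ := by
  simp only [cX, rowq, map_sum, map_mul, map_intCast, Complex.conj_conj, Finset.sum_mul]
  rw [Finset.sum_comm]
  exact Finset.sum_congr rfl fun ζ _ => Finset.sum_congr rfl fun θ _ => by rw [nq_comm]; ring

include hM in
/-- The squares sum to `p^(2d) l(b)`. -/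
theorem sum_cX_mul {x : H} (hx : Pelt p x) {B : Set (Cfsg.IrrCharacter G)}
    (hind : Cfsg.IsInducedBlock M H b B) :
    ∑ χ ∈ bset B, ∑ ψ ∈ bset B, cX p b x χ ψ * cX p b x ψ χ =
      (p : ℂ) ^ (2 * Cfsg.blockDefect p b) * (Cfsg.blockRank p b : ℂ) := by
  classical
  have hb := hind.1
  set q := (p : ℂ) ^ Cfsg.blockDefect p b with hq
  have hq0 : q ≠ 0 := pow_ne_zero _ (Nat.cast_ne_zero.mpr (Fact.out : p.Prime).ne_zero)
  let E : Cfsg.IrrCharacter H → Cfsg.IrrCharacter H → ℂ := fun η ζ =>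
    ∑ χ ∈ bset B, rowq p b x χ η * conj (acoef x χ ζ)
  have hstep1 : ∑ χ ∈ bset B, ∑ ψ ∈ bset B, cX p b x χ ψ * cX p b x ψ χ =
      ∑ η ∈ bset b, ∑ ζ ∈ bset b, E η ζ * E ζ η := by
    simp only [cX, E, Finset.sum_mul_sum]
    rw [Finset.sum_congr rfl fun χ _ => Finset.sum_comm, Finset.sum_comm]
    refine Finset.sum_congr rfl fun η _ => ?_
    rw [Finset.sum_congr rfl fun χ _ => Finset.sum_comm, Finset.sum_comm]
    refine Finset.sum_congr rfl fun ζ _ => ?_
    exact Finset.sum_congr rfl fun χ _ => Finset.sum_congr rfl fun ψ _ => by ring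
  have hEN : ∀ η ∈ bset b, ∀ η' ∈ bset b,
      ∑ ζ ∈ bset b, E η ζ * (nq p b ζ η' : ℂ) = q * (nq p b η η' : ℂ) := by
    intro η hη η' hη'
    rw [hq, ← sum_rowq_mul hM hx hind (mem_bset.mp hη) (mem_bset.mp hη')]
    simp only [E, Finset.sum_mul]
    rw [Finset.sum_comm]
    refine Finset.sum_congr rfl fun χ _ => ?_
    conv_rhs => rw [rowq.eq_def p b x χ η', map_sum, Finset.mul_sum]
    refine Finset.sum_congr rfl fun ζ _ => ?_
    rw [map_mul, map_intCast]
    ring
  have hNP : ∀ η : Cfsg.IrrCharacter H, ∀ ζ : Cfsg.IrrCharacter H, E η ζ =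
      ∑ ξ ∈ bset b, (nq p b η ξ : ℂ) *
        ∑ χ ∈ bset B, acoef x χ ξ * conj (acoef x χ ζ) := by
    intro η ζ
    simp only [E, rowq, Finset.sum_mul, Finset.mul_sum]
    rw [Finset.sum_comm]
    exact Finset.sum_congr rfl fun ξ _ => Finset.sum_congr rfl fun χ _ => by rw [nq_comm]; ring
  have hEE : ∀ η ∈ bset b, ∑ ζ ∈ bset b, E η ζ * E ζ η = q * E η η := by
    intro η hη
    conv_lhs => arg 2; ext ζ; arg 2; rw [hNP ζ η]
    simp only [Finset.mul_sum (bset b) _ (E η _)]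
    rw [Finset.sum_comm, hNP η η, Finset.mul_sum (bset b) _ q]
    refine Finset.sum_congr rfl fun ξ hξ => ?_
    simp only [← mul_assoc, ← Finset.sum_mul]
    rw [hEN η hη ξ hξ]
  have htr : ∑ η ∈ bset b, E η η = q * (Cfsg.blockRank p b : ℂ) := by
    refine mul_left_cancel₀ hq0 ?_
    calc q * ∑ η ∈ bset b, E η η
        = ∑ η ∈ bset b, ∑ ξ ∈ bset b, (q * (nq p b η ξ : ℂ)) *
            ∑ χ ∈ bset B, acoef x χ ξ * conj (acoef x χ η) := by
          rw [Finset.mul_sum]
          refine Finset.sum_congr rfl fun η _ => ?_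
          rw [hNP, Finset.mul_sum]
          exact Finset.sum_congr rfl fun ξ _ => by rw [mul_assoc]
      _ = ∑ η ∈ bset b, ∑ ξ ∈ bset b, ∑ ζ ∈ bset b, (nq p b η ζ : ℂ) * (nq p b ζ ξ : ℂ) *
            ∑ χ ∈ bset B, acoef x χ ξ * conj (acoef x χ η) := by
          refine Finset.sum_congr rfl fun η hη => Finset.sum_congr rfl fun ξ hξ => ?_
          rw [← Finset.sum_mul]
          congr 1
          have h := congrArg (fun z : ℤ => (z : ℂ))
            (nq_sq hM hb (mem_bset.mp hη) (mem_bset.mp hξ))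
          push_cast at h
          rw [hq, h]
      _ = ∑ η ∈ bset b, ∑ ζ ∈ bset b, (nq p b η ζ : ℂ) * E ζ η := by
          refine Finset.sum_congr rfl fun η _ => ?_
          rw [Finset.sum_comm]
          refine Finset.sum_congr rfl fun ζ _ => ?_
          rw [hNP ζ η, Finset.mul_sum (bset b) _ (nq p b η ζ : ℂ)]
          exact Finset.sum_congr rfl fun ξ _ => by rw [mul_assoc]
      _ = ∑ ζ ∈ bset b, q * (nq p b ζ ζ : ℂ) := by
          rw [Finset.sum_comm]
          refine Finset.sum_congr rfl fun ζ hζ => ?_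
          rw [← hEN ζ hζ ζ hζ]
          exact Finset.sum_congr rfl fun η _ => mul_comm _ _
      _ = q * (q * (Cfsg.blockRank p b : ℂ)) := by
          rw [← Finset.mul_sum]
          have h := congrArg (fun z : ℤ => (z : ℂ)) (sum_nq_self hM hb)
          push_cast at h
          rw [h, hq]
  rw [hstep1, Finset.sum_congr rfl hEE, ← Finset.mul_sum, htr, hq, two_mul, pow_add, mul_assoc]

/-- The contribution with given scalars, in any field. -/
noncomputable def formX {K : Type*} [Field K] (p : ℕ) (b : Set (Cfsg.IrrCharacter H))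
    (L : Cfsg.IrrCharacter H → K) (χ ψ : Cfsg.IrrCharacter G) : K :=
  ∑ ζ ∈ bset b, (∑ θ ∈ bset b, (mult H χ θ : K) * L θ * (nq p b θ ζ : K)) *
    ((mult H ψ ζ : K) * (L ζ)⁻¹)

theorem map_formX {K K' : Type*} [Field K] [Field K'] (φ : K →+* K')
    (L : Cfsg.IrrCharacter H → K) (χ ψ : Cfsg.IrrCharacter G) :
    φ (formX p b L χ ψ) = formX p b (fun θ => φ (L θ)) χ ψ := by
  simp only [formX, map_sum, map_mul, map_natCast, map_intCast, map_inv₀]

theorem cX_eq_formX {x : H} (hx : ∀ c, Commute x c) (χ ψ : Cfsg.IrrCharacter G) :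
    cX p b x χ ψ = formX p b (lam x) χ ψ := by
  simp only [cX, formX, rowq, acoef, map_mul, map_natCast, conj_lam hx]

theorem isIntegral_lam {x : H} (hx : ∀ c, Commute x c) (θ : Cfsg.IrrCharacter H) :
    IsIntegral ℤ (lam x θ) :=
  IsIntegral.of_pow (orderOf_pos x) (by rw [lam_pow hx (pow_orderOf_eq_one x)]; exact isIntegral_one)

theorem isIntegral_cX {x : H} (hx : ∀ c, Commute x c) (χ ψ : Cfsg.IrrCharacter G) :
    IsIntegral ℤ (cX p b x χ ψ) := by
  have hn : ∀ n : ℕ, IsIntegral ℤ (n : ℂ) := fun n => isIntegral_algebraMap (x := (n : ℤ))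
  have hz : ∀ n : ℤ, IsIntegral ℤ (n : ℂ) := fun n => isIntegral_algebraMap (x := n)
  refine IsIntegral.sum _ fun ζ _ => IsIntegral.mul
    (IsIntegral.sum _ fun θ _ => ((hn _).mul (isIntegral_lam hx θ)).mul (hz _)) ?_
  rw [acoef, map_mul, map_natCast, conj_lam hx]
  refine (hn _).mul (IsIntegral.of_pow (orderOf_pos x) ?_)
  rw [inv_pow, lam_pow hx (pow_orderOf_eq_one x), inv_one]
  exact isIntegral_one

/-- A twist of `χ` by a power map fixing the regular elements. -/
noncomputable def twistChar {k : ℕ} (hk : k.Coprime (Nat.card G)) (χ : Cfsg.IrrCharacter G) :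
    Cfsg.IrrCharacter G :=
  ⟨fun g => (χ : G → ℂ) (g ^ k), BC78.PowChar.isIrrCharacter_pow χ.2 hk⟩

theorem twistChar_injective {k : ℕ} (hk : k.Coprime (Nat.card G)) :
    Function.Injective (twistChar (G := G) hk) := by
  intro χ ψ h
  apply Subtype.ext
  funext g
  obtain ⟨g', rfl⟩ := (powCoprime (G := G) hk.symm).surjective g
  exact congrFun (congrArg Subtype.val h) g'

include hM in
theorem twistChar_mem {k : ℕ} (hk : k.Coprime (Nat.card G))
    (hreg : ∀ g : G, ¬ p ∣ orderOf g → g ^ k = g) {B : Set (Cfsg.IrrCharacter G)}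
    (hB : Cfsg.IsPBlock M B) {χ : Cfsg.IrrCharacter G} (hχ : χ ∈ B) : twistChar hk χ ∈ B := by
  obtain ⟨φ, hφ, h0⟩ := exists_height_zero (p := p) hB
  by_contra hn
  have h1 : contribN p φ (twistChar hk χ) = contribN p φ χ := by
    have e : regSum p (φ : G → ℂ) (twistChar hk χ : G → ℂ) = regSum p (φ : G → ℂ) (χ : G → ℂ) := by
      rw [regSum_eq_sum, regSum_eq_sum]
      refine Finset.sum_congr rfl fun g _ => ?_
      split_ifs with hg
      · rfl
      · show _ * (χ : G → ℂ) (g⁻¹ ^ k) = _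
        rw [hreg g⁻¹ (by rwa [orderOf_inv])]
    rw [regSum_eq_contribN, regSum_eq_contribN] at e
    exact_mod_cast mul_left_cancel₀ (Nat.cast_ne_zero.mpr (primeToCard_pos p).ne') e
  rw [contribN_eq_zero hM hB hφ hn] at h1
  exact contribN_ne_zero hM hB hφ h0 hχ h1.symm

theorem coe_orderOf_dvd {x : H} : orderOf x ∣ Nat.card G := by
  rw [← Subgroup.orderOf_coe]
  exact orderOf_dvd_natCard _

include hM hb in
/-- A Galois automorphism permutes the contributions. -/
theorem exists_twist {x : H} (hx : Pelt p x) (σ : Alg ≃ₐ[ℚ] Alg) :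
    ∃ (k : ℕ) (hk : k.Coprime (Nat.card G)), (∀ g : G, ¬ p ∣ orderOf g → g ^ k = g) ∧
      ∀ (χ ψ : Cfsg.IrrCharacter G) (hm : cX p b x χ ψ ∈ Alg),
        ((σ ⟨cX p b x χ ψ, hm⟩ : Alg) : ℂ) = cX p b x (twistChar hk χ) (twistChar hk ψ) := by
  classical
  haveI := Fintype.ofFinite (Cfsg.IrrCharacter H)
  have hp : p.Prime := Fact.out
  obtain ⟨k, hk, hσ⟩ := exists_exponent σ (n := Nat.card G) Nat.card_pos.ne'
  set P := p ^ (Nat.card G).factorization p with hP
  have hcop : P.Coprime (primeToCard p G) :=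
    (hp.coprime_iff_not_dvd.mpr (not_dvd_primeToCard hp)).pow_left _
  obtain ⟨k', hk'1, hk'2⟩ := Nat.chineseRemainder hcop k 1
  have hk'c : k'.Coprime (Nat.card G) := by
    rw [← primeToCard_mul p G, ← hP, Nat.coprime_mul_iff_right]
    refine ⟨?_, ?_⟩
    · rw [Nat.coprime_iff_gcd_eq_one, hk'1.gcd_eq, ← Nat.coprime_iff_gcd_eq_one]
      exact hk.coprime_dvd_right ⟨_, (primeToCard_mul p G).symm⟩
    · rw [Nat.coprime_iff_gcd_eq_one, hk'2.gcd_eq, Nat.gcd_one_left]
  have hreg : ∀ g : G, ¬ p ∣ orderOf g → g ^ k' = g := by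
    intro g hg
    conv_rhs => rw [← pow_one g]
    refine pow_eq_pow_iff_modEq.mpr (hk'2.of_dvd ?_)
    have h1 : orderOf g ∣ P * primeToCard p G := by
      rw [hP, primeToCard_mul]
      exact orderOf_dvd_natCard g
    exact ((hp.coprime_iff_not_dvd.mpr hg).symm.pow_right _).dvd_of_dvd_mul_left h1
  have hxP : orderOf x ∣ P := by
    obtain ⟨j, hj⟩ := hx.pow
    rw [← Subgroup.orderOf_coe, hj, hP]
    refine pow_dvd_pow _ ((hp.pow_dvd_iff_le_factorization Nat.card_pos.ne').mp ?_)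
    rw [← hj]
    exact orderOf_dvd_natCard _
  have hxk : (x : G) ^ k' = (x : G) ^ k := by
    rw [pow_eq_pow_iff_modEq, Subgroup.orderOf_coe]
    exact hk'1.of_dvd hxP
  refine ⟨k', hk'c, hreg, fun χ ψ hm => ?_⟩
  have hlam : ∀ θ : Cfsg.IrrCharacter H, lam x θ ∈ Alg := fun θ =>
    mem_alg_of_isIntegral (isIntegral_lam hx.commute θ)
  have hσl : ∀ θ : Cfsg.IrrCharacter H,
      ((σ ⟨lam x θ, hlam θ⟩ : Alg) : ℂ) = lam x θ ^ k := by
    intro θ
    refine hσ _ ?_ (hlam θ)
    obtain ⟨t, ht⟩ := coe_orderOf_dvd (x := x)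
    exact lam_pow hx.commute (by rw [ht, pow_mul, pow_orderOf_eq_one, one_pow]) θ
  have e1 : (⟨cX p b x χ ψ, hm⟩ : Alg) = formX p b (fun θ => (⟨lam x θ, hlam θ⟩ : Alg)) χ ψ := by
    apply Subtype.ext
    refine (cX_eq_formX hx.commute χ ψ).trans ?_
    exact (map_formX (Alg.val.toRingHom) (fun θ => (⟨lam x θ, hlam θ⟩ : Alg)) χ ψ).symm
  rw [e1]
  refine (map_formX ((Alg.val.toRingHom).comp (σ.toAlgHom.toRingHom))
    (fun θ => (⟨lam x θ, hlam θ⟩ : Alg)) χ ψ).trans ?_
  rw [show (fun θ => ((Alg.val.toRingHom).comp σ.toAlgHom.toRingHom) (⟨lam x θ, hlam θ⟩ : Alg)) =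
    fun θ => lam x θ ^ k from funext hσl]
  -- the rows of the twisted characters
  have hrow : ∀ (φ : Cfsg.IrrCharacter G) (ζ : Cfsg.IrrCharacter H), ζ ∈ bset b →
      ∑ θ ∈ bset b, (mult H φ θ : ℂ) * lam x θ ^ k * (nq p b θ ζ : ℂ) =
        rowq p b x (twistChar hk'c φ) ζ := by
    intro φ ζ hζ
    have h := sum_mul_contribN_eq_zero (p := p) (fun θ => (mult H φ θ : ℂ) * lam x θ ^ k -
      acoef x (twistChar hk'c φ) θ) (fun s hs => by
      simp only [sub_mul, Finset.sum_sub_distrib]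
      rw [← restrict_pow_mul hx.commute, ← restrict_mul hx.commute, sub_eq_zero]
      show _ = (φ : G → ℂ) (((x : G) * (s : G)) ^ k')
      rw [(commute_of_mem hx.eq s.2).mul_pow, hxk,
        hreg _ (by rwa [Subgroup.orderOf_coe])]) ζ
    rw [sum_mul_contribN_bset hM hb _ (mem_bset.mp hζ)] at h
    have hp0 : (p : ℂ) ^ minVdeg p b ≠ 0 := pow_ne_zero _ (Nat.cast_ne_zero.mpr hp.ne_zero)
    rw [← sub_eq_zero, rowq, ← Finset.sum_sub_distrib]
    refine (mul_eq_zero.mp ?_).resolve_left hp0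
    rw [← h, Finset.mul_sum]
    refine Finset.sum_congr rfl fun θ hθ => ?_
    rw [← pow_mul_nq hM hb (mem_bset.mp hθ) ζ]
    push_cast
    ring
  have hcl : ∀ θ : Cfsg.IrrCharacter H, conj (lam x θ ^ k) = (lam x θ ^ k)⁻¹ := fun θ => by
    rw [map_pow, conj_lam hx.commute, inv_pow]
  calc formX p b (fun θ => lam x θ ^ k) χ ψ
      = ∑ ζ ∈ bset b, rowq p b x (twistChar hk'c χ) ζ *
          conj ((mult H ψ ζ : ℂ) * lam x ζ ^ k) := by
        refine Finset.sum_congr rfl fun ζ hζ => ?_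
        rw [hrow χ ζ hζ, map_mul, map_natCast, hcl]
    _ = ∑ θ ∈ bset b, acoef x (twistChar hk'c χ) θ * conj (rowq p b x (twistChar hk'c ψ) θ) := by
        simp only [rowq, Finset.sum_mul]
        rw [Finset.sum_comm]
        refine Finset.sum_congr rfl fun θ hθ => ?_
        have h2 := hrow ψ θ hθ
        rw [rowq] at h2
        rw [← h2, map_sum, Finset.mul_sum]
        refine Finset.sum_congr rfl fun ζ _ => ?_
        simp only [map_mul, map_natCast, map_intCast]
        rw [nq_comm θ ζ]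
        ring
    _ = cX p b x (twistChar hk'c χ) (twistChar hk'c ψ) := by
        rw [← conj_cX, cX, map_sum]
        refine Finset.sum_congr rfl fun θ _ => ?_
        rw [map_mul, Complex.conj_conj, mul_comm]

/-- The quotient of the degree by the least power of `p` in the block. -/
noncomputable def qdeg (p : ℕ) (b : Set (Cfsg.IrrCharacter H)) (θ : Cfsg.IrrCharacter H) : ℕ :=
  p ^ (vdeg p θ - minVdeg p b) * udeg p θ

theorem pow_mul_qdeg {θ : Cfsg.IrrCharacter H} (hθ : θ ∈ b) :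
    p ^ minVdeg p b * qdeg p b θ = Cfsg.charDegree (θ : H → ℂ) := by
  rw [qdeg, ← mul_assoc, ← pow_add, Nat.add_sub_cancel' (minVdeg_le hθ), pow_vdeg_mul_udeg]

include hM hb in
theorem nq_congr {η₀ ξ : Cfsg.IrrCharacter H} (hη₀ : η₀ ∈ b) (h0 : vdeg p η₀ = minVdeg p b)
    (hξ : ξ ∈ b) (η : Cfsg.IrrCharacter H) :
    ((nq p b ξ η : ZMod p)) * (udeg p η₀ : ZMod p) =
      (nq p b η₀ η : ZMod p) * (qdeg p b ξ : ZMod p) := by
  obtain ⟨e, he⟩ : ∃ e, vdeg p ξ = minVdeg p b + e :=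
    ⟨_, (Nat.add_sub_cancel' (minVdeg_le hξ)).symm⟩
  obtain ⟨r, hr⟩ := pow_vdeg_dvd_contribN hM ξ η
  have hs : contribN p η₀ η = (p : ℤ) ^ vdeg p η₀ * nq p b η₀ η := by
    rw [h0]; exact (pow_mul_nq hM hb hη₀ η).symm
  have h := contribN_congr hM hb hξ hη₀ η hr hs
  have e1 : nq p b ξ η = (p : ℤ) ^ e * r := by
    rw [nq, hr, he, pow_add, mul_assoc,
      Int.mul_ediv_cancel_left _ (pow_ne_zero _ (mod_cast (Fact.out : p.Prime).ne_zero))]
  have h2 := (ZMod.intCast_zmod_eq_zero_iff_dvd _ p).mpr h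
  push_cast at h2
  rw [e1, qdeg, he, Nat.add_sub_cancel_left]
  push_cast
  linear_combination (p : ZMod p) ^ e * h2

include hM in
/-- The contributions of height-zero characters are units at `M`. -/
theorem cX_not_mem {x : H} (hx : Pelt p x) {B : Set (Cfsg.IrrCharacter G)}
    (hind : Cfsg.IsInducedBlock M H b B) {χ ψ : Cfsg.IrrCharacter G} (hχ : χ ∈ B) (hψ : ψ ∈ B)
    (hχ0 : vdeg p χ = minVdeg p B) (hψ0 : vdeg p ψ = minVdeg p B) :
    ¬ Cfsg.MemLocalIdeal M (cX p b x χ ψ) := by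
  classical
  have hb := hind.1
  haveI := charP_residue hM
  obtain ⟨η₀, hη₀, h0⟩ := exists_height_zero (p := p) hb
  set r : ZMod p := (nq p b η₀ η₀ : ZMod p) with hr
  set u : ZMod p := (udeg p η₀ : ZMod p) with hu
  have hr0 : r ≠ 0 := by
    intro h
    rw [hr, ZMod.intCast_zmod_eq_zero_iff_dvd] at h
    refine not_dvd_contribN hM hb hη₀ h0 hη₀ ?_
    rw [h0, ← pow_mul_nq hM hb hη₀ η₀, pow_succ]
    exact mul_dvd_mul_left _ h
  have hu0 : u ≠ 0 := by
    intro h
    rw [hu, CharP.cast_eq_zero_iff (ZMod p) p] at h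
    exact not_dvd_udeg Fact.out η₀ h
  have hs : ∀ φ : Cfsg.IrrCharacter G, φ ∈ B → vdeg p φ = minVdeg p B →
      ∑ θ ∈ bset b, (mult H φ θ : ZMod p) * (qdeg p b θ : ZMod p) ≠ 0 := by
    intro φ hφ hφ0 h
    refine not_dvd_sum_mult hM hind hφ hφ0 ?_
    have h' : (p : ℤ) ∣ ∑ θ ∈ bset b, (mult H φ θ : ℤ) * (qdeg p b θ : ℤ) := by
      rw [← ZMod.intCast_zmod_eq_zero_iff_dvd]
      push_cast
      exact h
    rw [pow_succ]
    refine (mul_dvd_mul_left ((p : ℤ) ^ minVdeg p b) h').trans (dvd_of_eq ?_)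
    rw [Finset.mul_sum]
    refine Finset.sum_congr rfl fun θ hθ => ?_
    rw [← pow_mul_qdeg (p := p) (mem_bset.mp hθ)]
    push_cast
    ring
  set S : ℤ := ∑ ζ ∈ bset b, (∑ θ ∈ bset b, (mult H χ θ : ℤ) * nq p b θ ζ) * (mult H ψ ζ : ℤ)
    with hS
  have hS0 : (S : ZMod p) ≠ 0 := by
    intro h
    have hterm : ∀ θ ∈ bset b, ∀ ζ ∈ bset b, (nq p b θ ζ : ZMod p) * (u * u) =
        r * ((qdeg p b θ : ZMod p) * (qdeg p b ζ : ZMod p)) := by
      intro θ hθ ζ hζ
      rw [← mul_assoc, hu, nq_congr hM hb hη₀ h0 (mem_bset.mp hθ) ζ, nq_comm η₀ ζ,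
        mul_right_comm, nq_congr hM hb hη₀ h0 (mem_bset.mp hζ) η₀, hr]
      ring
    have key : (S : ZMod p) * (u * u) = r *
        ((∑ θ ∈ bset b, (mult H χ θ : ZMod p) * (qdeg p b θ : ZMod p)) *
          ∑ θ ∈ bset b, (mult H ψ θ : ZMod p) * (qdeg p b θ : ZMod p)) := by
      rw [hS, Finset.sum_mul_sum, Finset.mul_sum]
      push_cast
      simp only [Finset.sum_mul, Finset.mul_sum]
      rw [Finset.sum_comm]
      refine Finset.sum_congr rfl fun θ hθ => Finset.sum_congr rfl fun ζ hζ => ?_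
      linear_combination (mult H χ θ : ZMod p) * (mult H ψ ζ : ZMod p) * hterm θ hθ ζ hζ
    rw [h, zero_mul] at key
    exact mul_ne_zero hr0 (mul_ne_zero (hs χ hχ hχ0) (hs ψ hψ hψ0)) key.symm
  intro h
  have hli : ∀ θ : Cfsg.IrrCharacter H, lam x θ ∈ localRing M := fun θ =>
    mem_localRing_of_isIntegral (isIntegral_lam hx.commute θ)
  obtain ⟨j, hj⟩ := hx.pow
  rw [Subgroup.orderOf_coe] at hj
  have hroot : ∀ z : localRing M, z ^ p ^ j = 1 → residue M z = 1 := by
    intro z hz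
    have h1 : residue M z ^ p ^ j = 1 := by rw [← map_pow, hz, map_one]
    have h2 : (residue M z - 1) ^ p ^ j = 0 := by rw [sub_pow_char_pow, h1, one_pow, sub_self]
    exact sub_eq_zero.mp (pow_eq_zero_iff (pow_ne_zero _ (Fact.out : p.Prime).ne_zero) |>.mp h2)
  have hlp : ∀ θ : Cfsg.IrrCharacter H, lam x θ ^ p ^ j = 1 := fun θ =>
    lam_pow hx.commute (hj ▸ pow_orderOf_eq_one x) θ
  have hli' : ∀ θ : Cfsg.IrrCharacter H, (lam x θ)⁻¹ ∈ localRing M := fun θ =>
    mem_localRing_of_isIntegral (IsIntegral.of_pow (pow_pos (Fact.out : p.Prime).pos j)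
      (by rw [inv_pow, hlp, inv_one]; exact isIntegral_one))
  set w : localRing M := ∑ ζ ∈ bset b, (∑ θ ∈ bset b,
      (mult H χ θ : localRing M) * ⟨lam x θ, hli θ⟩ * (nq p b θ ζ : localRing M)) *
    ((mult H ψ ζ : localRing M) * ⟨(lam x ζ)⁻¹, hli' ζ⟩) with hw
  have hw0 : residue M w = 0 := by
    rw [Cfsg.Agent.Lib.Blocks.residue_eq_zero_iff]
    convert h using 1
    rw [cX_eq_formX hx.commute, formX, hw]
    simp
  have hr1 : ∀ θ, residue M ⟨lam x θ, hli θ⟩ = 1 := fun θ =>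
    hroot _ (Subtype.ext (by push_cast; exact hlp θ))
  have hr2 : ∀ θ, residue M ⟨(lam x θ)⁻¹, hli' θ⟩ = 1 := fun θ =>
    hroot _ (Subtype.ext (by push_cast; rw [inv_pow, hlp, inv_one]))
  have hwS : residue M w = (S : Cfsg.AlgInt ⧸ M) := by
    rw [hw, hS]
    push_cast
    simp only [map_sum, map_mul, map_natCast, map_intCast, hr1, hr2, mul_one]
  rw [hw0] at hwS
  exact hS0 ((ZMod.intCast_zmod_eq_zero_iff_dvd _ p).mpr
    ((CharP.intCast_eq_zero_iff (Cfsg.AlgInt ⧸ M) p S).mp hwS.symm))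

include hM in
theorem cX_ne_zero {x : H} (hx : Pelt p x) {B : Set (Cfsg.IrrCharacter G)}
    (hind : Cfsg.IsInducedBlock M H b B) {χ ψ : Cfsg.IrrCharacter G} (hχ : χ ∈ B) (hψ : ψ ∈ B)
    (hχ0 : vdeg p χ = minVdeg p B) (hψ0 : vdeg p ψ = minVdeg p B) : cX p b x χ ψ ≠ 0 := fun h =>
  cX_not_mem hM hx hind hχ hψ hχ0 hψ0 (by
    rw [h, ← Subring.coe_zero (localRing M)]
    exact Cfsg.Agent.Lib.Blocks.residue_eq_zero_iff.mp (map_zero (residue M)))

include hM in
/-- The bound `k(B)² ≤ p^(2d) l(b)`. -/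
theorem card_sq_le {x : H} (hx : Pelt p x) {B : Set (Cfsg.IrrCharacter G)}
    (hind : Cfsg.IsInducedBlock M H b B) (hh : ∀ χ ∈ B, vdeg p χ = minVdeg p B) :
    Nat.card B ^ 2 ≤ p ^ (2 * Cfsg.blockDefect p b) * Cfsg.blockRank p b := by
  classical
  have hb := hind.1
  set s := bset B ×ˢ bset B
  let z : {a // a ∈ s} → ℝ := fun a => Complex.normSq (cX p b x a.1.1 a.1.2)
  have hz : ∀ a : {a // a ∈ s}, (z a : ℂ) = cX p b x a.1.1 a.1.2 * cX p b x a.1.2 a.1.1 :=
    fun a => by rw [← conj_cX x a.1.1 a.1.2, Complex.mul_conj]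
  have hint : ∀ a, IsIntegral ℤ (z a : ℂ) := fun a => by
    rw [hz]; exact (isIntegral_cX hx.commute _ _).mul (isIntegral_cX hx.commute _ _)
  have h := GaloisMean.Basic.card_le_sum z hint (fun a => Complex.normSq_pos.mpr (by
    have ha := Finset.mem_product.mp a.2
    exact cX_ne_zero hM hx hind (mem_bset.mp ha.1) (mem_bset.mp ha.2)
      (hh _ (mem_bset.mp ha.1)) (hh _ (mem_bset.mp ha.2)))) (fun σ => by
    obtain ⟨k, hk, hreg, hσ⟩ := exists_twist hM hb hx σ
    let e : {a // a ∈ s} → {a // a ∈ s} := fun a =>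
      ⟨(twistChar hk a.1.1, twistChar hk a.1.2), Finset.mem_product.mpr
        ⟨mem_bset.mpr (twistChar_mem hM hk hreg hind.2.1 (mem_bset.mp (Finset.mem_product.mp a.2).1)),
          mem_bset.mpr (twistChar_mem hM hk hreg hind.2.1
            (mem_bset.mp (Finset.mem_product.mp a.2).2))⟩⟩
    have he : Function.Injective e := fun a a' h => by
      have h1 := congrArg Subtype.val h
      simp only [e, Prod.mk.injEq] at h1
      exact Subtype.ext (Prod.ext (twistChar_injective hk h1.1) (twistChar_injective hk h1.2))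
    refine ⟨Equiv.ofBijective e (Finite.injective_iff_bijective.mp he), fun a => ?_⟩
    have hm1 := mem_alg_of_isIntegral (isIntegral_cX (p := p) (b := b) hx.commute a.1.1 a.1.2)
    have hm2 := mem_alg_of_isIntegral (isIntegral_cX (p := p) (b := b) hx.commute a.1.2 a.1.1)
    rw [show (⟨(z a : ℂ), mem_alg_of_isIntegral (hint a)⟩ : Alg) =
      (⟨_, hm1⟩ : Alg) * ⟨_, hm2⟩ from Subtype.ext (hz a), map_mul]
    push_cast
    rw [hσ _ _ hm1, hσ _ _ hm2]
    exact (hz (e a)).symm)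
  have hsum : ((∑ a, z a : ℝ) : ℂ) =
      (p : ℂ) ^ (2 * Cfsg.blockDefect p b) * (Cfsg.blockRank p b : ℂ) := by
    rw [← sum_cX_mul hM hx hind, ← Finset.sum_product',
      ← Finset.sum_coe_sort (bset B ×ˢ bset B), Complex.ofReal_sum]
    exact Finset.sum_congr rfl fun a _ => hz a
  have hsum' : (∑ a, z a) = ((p ^ (2 * Cfsg.blockDefect p b) * Cfsg.blockRank p b : ℕ) : ℝ) := by
    apply Complex.ofReal_injective
    rw [hsum]
    push_cast
    rfl
  rw [hsum', Fintype.card_coe, Finset.card_product, card_bset] at h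
  rw [sq]
  exact_mod_cast h

end Cfsg.Agent.Lib.Blocks.SectionMatrix
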