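import Mathlib
import Cfsg.Agent.Lib.Blocks.SectionMatrix
import Cfsg.Agent.Lib.Blocks.DefectGroup

/-!
# Major subsections

For a p-element `x` and a block `b` of its centralizer inducing `B` with the defect of `B`, no
character of `B` has vanishing contribution, and `k(B) ≤ p ^ d * l(b)`.
-/

set_option autoImplicit false
set_option linter.style.haveILetI false
set_option linter.unusedSectionVars false

namespace Cfsg.Agent.Lib.Blocks.MajorSection

open scoped ComplexConjugate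
open MonoidAlgebra Cfsg.Agent.Lib.BrauerMap.Basic Cfsg.Agent.Lib.BrauerMap.ClassSum
open Cfsg.Agent.Lib.Characters.Basic Cfsg.Agent.Lib.Blocks Cfsg.Agent.Lib.Blocks.Contrib
open Cfsg.Agent.Lib.Blocks.SectionPart Cfsg.Agent.Lib.Blocks.SectionMatrix
open Cfsg.Agent.Lib.BC78.Galois

universe u

variable {G : Type u} [Group G] [Fintype G] {p : ℕ} [Fact p.Prime] {M : Ideal Cfsg.AlgInt}
  [M.IsMaximal] {H : Subgroup G} [Fintype H]
  (hM : Cfsg.IsPModular p M) {b : Set (Cfsg.IrrCharacter H)} (hb : Cfsg.IsPBlock M b)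

include hM in
/-- The contributions of height-zero characters are outside the local ideal. -/
theorem not_memLocalIdeal_cX {x : H} (hx : Pelt p x) {B : Set (Cfsg.IrrCharacter G)}
    (hind : Cfsg.IsInducedBlock M H b B) {χ ψ : Cfsg.IrrCharacter G} (hχ : χ ∈ B) (hψ : ψ ∈ B)
    (hχ0 : vdeg p χ = minVdeg p B) (hψ0 : vdeg p ψ = minVdeg p B) :
    ¬ Cfsg.MemLocalIdeal M (cX p b x χ ψ) := by
  classical
  have hb := hind.1
  haveI := charP_residue hM
  obtain ⟨η₀, hη₀, h0⟩ := exists_height_zero (p := p) hb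
  set r : ZMod p := (nq p b η₀ η₀ : ZMod p) with hr
  set u : ZMod p := (udeg p η₀ : ZMod p) with hu
  have hr0 : r ≠ 0 := by
    intro h
    rw [hr, ZMod.intCast_zmod_eq_zero_iff_dvd] at h
    refine not_dvd_contribN hM hb hη₀ h0 hη₀ ?_
    rw [h0, ← pow_mul_nq hM hb hη₀ η₀, pow_succ]
    exact mul_dvd_mul_left _ h
  have hu0 : u ≠ 0 := by
    intro h
    rw [hu, CharP.cast_eq_zero_iff (ZMod p) p] at h
    exact not_dvd_udeg Fact.out η₀ h
  have hs : ∀ φ : Cfsg.IrrCharacter G, φ ∈ B → vdeg p φ = minVdeg p B →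
      ∑ θ ∈ bset b, (mult H φ θ : ZMod p) * (qdeg p b θ : ZMod p) ≠ 0 := by
    intro φ hφ hφ0 h
    refine not_dvd_sum_mult hM hind hφ hφ0 ?_
    have h' : (p : ℤ) ∣ ∑ θ ∈ bset b, (mult H φ θ : ℤ) * (qdeg p b θ : ℤ) := by
      rw [← ZMod.intCast_zmod_eq_zero_iff_dvd]
      push_cast
      exact h
    rw [pow_succ]
    refine (mul_dvd_mul_left ((p : ℤ) ^ minVdeg p b) h').trans (dvd_of_eq ?_)
    rw [Finset.mul_sum]
    refine Finset.sum_congr rfl fun θ hθ => ?_
    rw [← pow_mul_qdeg (p := p) (mem_bset.mp hθ)]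
    push_cast
    ring
  set S : ℤ := ∑ ζ ∈ bset b, (∑ θ ∈ bset b, (mult H χ θ : ℤ) * nq p b θ ζ) * (mult H ψ ζ : ℤ)
    with hS
  have hS0 : (S : ZMod p) ≠ 0 := by
    intro h
    have hterm : ∀ θ ∈ bset b, ∀ ζ ∈ bset b, (nq p b θ ζ : ZMod p) * (u * u) =
        r * ((qdeg p b θ : ZMod p) * (qdeg p b ζ : ZMod p)) := by
      intro θ hθ ζ hζ
      rw [← mul_assoc, hu, nq_congr hM hb hη₀ h0 (mem_bset.mp hθ) ζ, nq_comm η₀ ζ,
        mul_right_comm, nq_congr hM hb hη₀ h0 (mem_bset.mp hζ) η₀, hr]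
      ring
    have key : (S : ZMod p) * (u * u) = r *
        ((∑ θ ∈ bset b, (mult H χ θ : ZMod p) * (qdeg p b θ : ZMod p)) *
          ∑ θ ∈ bset b, (mult H ψ θ : ZMod p) * (qdeg p b θ : ZMod p)) := by
      rw [hS, Finset.sum_mul_sum, Finset.mul_sum]
      push_cast
      simp only [Finset.sum_mul, Finset.mul_sum]
      rw [Finset.sum_comm]
      refine Finset.sum_congr rfl fun θ hθ => Finset.sum_congr rfl fun ζ hζ => ?_
      linear_combination (mult H χ θ : ZMod p) * (mult H ψ ζ : ZMod p) * hterm θ hθ ζ hζ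
    rw [h, zero_mul] at key
    exact mul_ne_zero hr0 (mul_ne_zero (hs χ hχ hχ0) (hs ψ hψ hψ0)) key.symm
  intro h
  have hli : ∀ θ : Cfsg.IrrCharacter H, lam x θ ∈ localRing M := fun θ =>
    mem_localRing_of_isIntegral (isIntegral_lam hx.commute θ)
  obtain ⟨j, hj⟩ := hx.pow
  rw [Subgroup.orderOf_coe] at hj
  have hroot : ∀ z : localRing M, z ^ p ^ j = 1 → residue M z = 1 := by
    intro z hz
    have h1 : residue M z ^ p ^ j = 1 := by rw [← map_pow, hz, map_one]
    have h2 : (residue M z - 1) ^ p ^ j = 0 := by rw [sub_pow_char_pow, h1, one_pow, sub_self]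
    exact sub_eq_zero.mp (pow_eq_zero_iff (pow_ne_zero _ (Fact.out : p.Prime).ne_zero) |>.mp h2)
  have hlp : ∀ θ : Cfsg.IrrCharacter H, lam x θ ^ p ^ j = 1 := fun θ =>
    lam_pow hx.commute (hj ▸ pow_orderOf_eq_one x) θ
  have hli' : ∀ θ : Cfsg.IrrCharacter H, (lam x θ)⁻¹ ∈ localRing M := fun θ =>
    mem_localRing_of_isIntegral (IsIntegral.of_pow (pow_pos (Fact.out : p.Prime).pos j)
      (by rw [inv_pow, hlp, inv_one]; exact isIntegral_one))
  set w : localRing M := ∑ ζ ∈ bset b, (∑ θ ∈ bset b,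
      (mult H χ θ : localRing M) * ⟨lam x θ, hli θ⟩ * (nq p b θ ζ : localRing M)) *
    ((mult H ψ ζ : localRing M) * ⟨(lam x ζ)⁻¹, hli' ζ⟩) with hw
  have hwc : (w : ℂ) = cX p b x χ ψ := by
    rw [cX_eq_formX hx.commute, formX, hw]
    simp
  have hr1 : ∀ θ, residue M ⟨lam x θ, hli θ⟩ = 1 := fun θ =>
    hroot _ (Subtype.ext (by push_cast; exact hlp θ))
  have hr2 : ∀ θ, residue M ⟨(lam x θ)⁻¹, hli' θ⟩ = 1 := fun θ =>
    hroot _ (Subtype.ext (by push_cast; rw [inv_pow, hlp, inv_one]))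
  have hwS : residue M w = (S : Cfsg.AlgInt ⧸ M) := by
    rw [hw, hS]
    push_cast
    simp only [map_sum, map_mul, map_natCast, map_intCast, hr1, hr2, mul_one]
  rw [residue_eq_zero_iff.mpr (hwc ▸ h)] at hwS
  exact hS0 ((ZMod.intCast_zmod_eq_zero_iff_dvd _ p).mpr
    ((CharP.intCast_eq_zero_iff (Cfsg.AlgInt ⧸ M) p S).mp hwS.symm))

include hM hb in
/-- `p ^ d` times the contribution through the rows. -/
theorem pow_mul_cX (x : H) (χ ψ : Cfsg.IrrCharacter G) :
    (p : ℂ) ^ Cfsg.blockDefect p b * cX p b x χ ψ =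
      ∑ ζ ∈ bset b, rowq p b x χ ζ * conj (rowq p b x ψ ζ) := by
  simp only [cX, rowq, map_sum, map_mul, map_intCast, Finset.sum_mul, Finset.mul_sum]
  rw [Finset.sum_comm]
  conv_rhs => rw [Finset.sum_comm]
  conv_rhs => arg 2; ext η; rw [Finset.sum_comm]
  rw [Finset.sum_comm]
  refine Finset.sum_congr rfl fun η hη => Finset.sum_congr rfl fun θ hθ => ?_
  have h := congrArg (fun z : ℤ => (z : ℂ)) (nq_sq hM hb (mem_bset.mp hθ) (mem_bset.mp hη))
  push_cast at h
  calc _ = ((p : ℂ) ^ Cfsg.blockDefect p b * (nq p b θ η : ℂ)) *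
        (acoef x χ θ * conj (acoef x ψ η)) := by ring
    _ = _ := by
      rw [← h, Finset.sum_mul]
      exact Finset.sum_congr rfl fun ζ _ => by rw [nq_comm η ζ]; ring

include hM in
/-- The diagonal contributions sum to `p ^ d * l(b)`. -/
theorem sum_cX_self {x : H} (hx : Pelt p x) {B : Set (Cfsg.IrrCharacter G)}
    (hind : Cfsg.IsInducedBlock M H b B) :
    ∑ χ ∈ bset B, cX p b x χ χ = (p : ℂ) ^ Cfsg.blockDefect p b * (Cfsg.blockRank p b : ℂ) := by
  have hb := hind.1
  have h0 : (p : ℂ) ^ Cfsg.blockDefect p b ≠ 0 :=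
    pow_ne_zero _ (Nat.cast_ne_zero.mpr (Fact.out : p.Prime).ne_zero)
  refine mul_left_cancel₀ h0 ?_
  rw [Finset.mul_sum, Finset.sum_congr rfl fun χ _ => pow_mul_cX hM hb x χ χ, Finset.sum_comm,
    Finset.sum_congr rfl fun ζ hζ => sum_rowq_mul hM hx hind (mem_bset.mp hζ) (mem_bset.mp hζ),
    ← Finset.mul_sum]
  have h := congrArg (fun z : ℤ => (z : ℂ)) (sum_nq_self hM hb)
  push_cast at h
  rw [h]

theorem relTr_mem_center {R : Type*} [CommRing R] {a : MonoidAlgebra R G} (ha : IsFixedBy H a) :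
    relTr H a ∈ Subalgebra.center R (MonoidAlgebra R G) := by
  classical
  haveI := Fintype.ofFinite (G ⧸ H)
  rw [mem_center_iff_coeff]
  intro u g
  rw [coeff_relTr, coeff_relTr]
  refine Fintype.sum_equiv (MulAction.toPerm u⁻¹) _ _ fun c => ?_
  rw [MulAction.toPerm_apply, show (u⁻¹ • c : G ⧸ H) = QuotientGroup.mk (u⁻¹ * c.out) by
    conv_lhs => rw [← Quotient.out_eq c]
    rfl, coeff_out_mk ha]
  congr 1
  group

include hM in
/-- The class function of a section transfers the contributions to the block. -/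
theorem exists_center {x : H} (hx : Pelt p x) {B : Set (Cfsg.IrrCharacter G)}
    (hind : Cfsg.IsInducedBlock M H b B) (hd : Cfsg.blockDefect p b = Cfsg.blockDefect p B)
    (ψ : Cfsg.IrrCharacter G) :
    ∃ f : G → ℂ, Cfsg.IsClassFunction G f ∧ (∀ g, f g ∈ localRing M) ∧
      ∀ χ : Cfsg.IrrCharacter G, ∑ g : G, f g * (χ : G → ℂ) g =
        (primeToCard p G : ℂ) * (p : ℂ) ^ minVdeg p B * cX p b x χ ψ := by
  classical
  letI := Fintype.ofFinite (Cfsg.IrrCharacter H)
  have hb := hind.1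
  have hcomm := hx.commute
  set φ : H → ℂ := fun s => if p ∣ orderOf s then 0 else
    ∑ θ ∈ bset b, conj (acoef x ψ θ) * (θ : H → ℂ) s⁻¹ with hφ
  set f₀ : H → ℂ := fun h => φ (x⁻¹ * h) with hf₀
  have hφint : ∀ s, φ s ∈ localRing M := by
    intro s
    simp only [hφ]
    split_ifs
    · exact zero_mem _
    · refine sum_mem fun θ _ => mul_mem ?_ (mem_localRing_of_isIntegral
        (isIntegral_apply (isCharacter_irr θ) _))
      rw [acoef, map_mul, map_natCast, conj_lam hcomm]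
      refine mul_mem (natCast_mem _ _) (mem_localRing_of_isIntegral
        (IsIntegral.of_pow (orderOf_pos x) ?_))
      rw [inv_pow, lam_pow hcomm (pow_orderOf_eq_one x), inv_one]
      exact isIntegral_one
  have hf₀cl : ∀ u h : H, f₀ (u * h * u⁻¹) = f₀ h := by
    intro u h
    have e : x⁻¹ * (u * h * u⁻¹) = u * (x⁻¹ * h) * u⁻¹ := by
      rw [← mul_assoc x⁻¹, ← mul_assoc x⁻¹, ((hcomm u).inv_left).eq]
      group
    simp only [hf₀, hφ, e]
    rw [show orderOf (u * (x⁻¹ * h) * u⁻¹) = orderOf (x⁻¹ * h) from (MulAut.conj u).orderOf_eq _]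
    refine if_congr Iff.rfl rfl (Finset.sum_congr rfl fun θ _ => ?_)
    rw [show (u * (x⁻¹ * h) * u⁻¹)⁻¹ = u * (x⁻¹ * h)⁻¹ * u⁻¹ by group]
    rw [isClassFunction_irr θ _ u]
  set z₀ := ofClassFun (fun h => (⟨f₀ h, hφint _⟩ : localRing M))
    (fun u h => Subtype.ext (hf₀cl u h)) with hz₀
  set a := extHom (localRing M) H z₀.1 with ha
  have hfix : IsFixedBy H a := by
    intro u hu v
    by_cases hv : v ∈ H
    · rw [ha, show u * v * u⁻¹ = ((⟨u, hu⟩ * ⟨v, hv⟩ * ⟨u, hu⟩⁻¹ : H) : G) from rfl,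
        coeff_extHom, (mem_center_iff_coeff _).mp z₀.2]
      exact (coeff_extHom H z₀.1 ⟨v, hv⟩).symm
    · rw [ha, coeff_extHom_of_notMem H _ hv, coeff_extHom_of_notMem H _ fun h => hv ?_]
      have h3 := H.mul_mem (H.mul_mem (H.inv_mem hu) h) hu
      simpa [mul_assoc] using h3
  set Z := relTr H a with hZ
  refine ⟨fun g => ((Z.coeff g : localRing M) : ℂ), fun g u => ?_, fun g => SetLike.coe_mem _,
    fun χ => ?_⟩
  · exact congrArg Subtype.val ((mem_center_iff_coeff Z).mp (relTr_mem_center hfix) u g)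
  have e1 : ∑ g : G, ((Z.coeff g : localRing M) : ℂ) * (χ : G → ℂ) g =
      lin (χ : G → ℂ) (MonoidAlgebra.mapRingHom G (localRing M).subtype Z) := by
    rw [lin_apply]
    exact Finset.sum_congr rfl fun g _ => by rw [coeff_mapRingHom]; rfl
  have e2 : lin (χ : G → ℂ) (MonoidAlgebra.mapRingHom G (localRing M).subtype a) =
      ∑ h : H, f₀ h * (χ : G → ℂ) h := by
    have hsum : z₀.1 = ∑ h : H, single h (⟨f₀ h, hφint _⟩ : localRing M) := by
      refine MonoidAlgebra.coeff_injective (Finsupp.ext fun h => ?_)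
      rw [coeff_sum, Finsupp.finsetSum_apply, hz₀, coeff_ofClassFun]
      simp [coeff_single, Finsupp.single_apply]
    rw [ha, hsum, map_sum, map_sum, map_sum]
    exact Finset.sum_congr rfl fun h _ => by
      rw [extHom_single, mapRingHom_single, lin_single]; rfl
  have e3 : ∑ h : H, f₀ h * (χ : G → ℂ) h =
      (primeToCard p H : ℂ) * ((p : ℂ) ^ minVdeg p b * cX p b x χ ψ) := by
    calc ∑ h : H, f₀ h * (χ : G → ℂ) h = ∑ s : H, φ s * (χ : G → ℂ) ((x : G) * (s : G)) := by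
          refine (Fintype.sum_equiv (Equiv.mulLeft x) _ _ fun s => ?_).symm
          simp [hf₀, Equiv.coe_mulLeft]
      _ = ∑ θ ∈ bset b, conj (acoef x ψ θ) * ((primeToCard p H : ℂ) * row p b x χ θ) := by
          simp only [hφ, ite_mul, zero_mul, Finset.sum_mul]
          refine Eq.trans ?_ (Finset.sum_congr rfl fun θ hθ => by
            rw [mul_row hM hb hx χ (mem_bset.mp hθ), Finset.mul_sum]).symm
          conv_rhs => rw [Finset.sum_comm]
          refine Finset.sum_congr rfl fun s _ => ?_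
          by_cases hs : p ∣ orderOf s
          · simp [hs]
          · simp only [if_neg hs]
            exact Finset.sum_congr rfl fun θ _ => by ring
      _ = _ := by
          rw [cX, Finset.mul_sum, Finset.mul_sum]
          refine Finset.sum_congr rfl fun θ _ => ?_
          rw [← pow_mul_rowq hM hb x χ θ]
          ring
  rw [e1, hZ, map_relTr, lin_relTr, e2, e3]
  have hidx : (H.index : ℂ) * (primeToCard p H : ℂ) * (p : ℂ) ^ minVdeg p b =
      (primeToCard p G : ℂ) * (p : ℂ) ^ minVdeg p B := by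
    have h1 : (p : ℂ) ^ Cfsg.blockDefect p b ≠ 0 :=
      pow_ne_zero _ (Nat.cast_ne_zero.mpr (Fact.out : p.Prime).ne_zero)
    refine mul_right_cancel₀ h1 ?_
    have hG := natCast_card_eq p G
    have hH := natCast_card_eq p H
    have hcard : (H.index : ℂ) * (Nat.card H : ℂ) = (Nat.card G : ℂ) := by
      exact_mod_cast H.index_mul_card
    rw [hG, hH, ← minVdeg_add_blockDefect hb, ← minVdeg_add_blockDefect hind.2.1, ← hd,
      pow_add, pow_add] at hcard
    linear_combination hcard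
  rw [← mul_assoc, ← mul_assoc, hidx]

include hM in
/-- In a major subsection no diagonal contribution vanishes. -/
theorem cX_self_ne_zero {x : H} (hx : Pelt p x) {B : Set (Cfsg.IrrCharacter G)}
    (hind : Cfsg.IsInducedBlock M H b B) (hd : Cfsg.blockDefect p b = Cfsg.blockDefect p B)
    {χ : Cfsg.IrrCharacter G} (hχ : χ ∈ B) : cX p b x χ χ ≠ 0 := by
  classical
  intro h
  have hb := hind.1
  have hB := hind.2.1
  have hp : p.Prime := Fact.out
  obtain ⟨ψ, hψ, hψ0⟩ := exists_height_zero (p := p) hB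
  have hrow : ∀ ζ ∈ bset b, rowq p b x χ ζ = 0 := by
    have h1 := pow_mul_cX hM hb x χ χ
    rw [h, mul_zero] at h1
    simp only [Complex.mul_conj] at h1
    have h2 : ∑ ζ ∈ bset b, Complex.normSq (rowq p b x χ ζ) = 0 := by exact_mod_cast h1.symm
    exact fun ζ hζ => Complex.normSq_eq_zero.mp
      ((Finset.sum_eq_zero_iff_of_nonneg fun ζ _ => Complex.normSq_nonneg _).mp h2 ζ hζ)
  have h0 : cX p b x χ ψ = 0 := by
    rw [cX]
    exact Finset.sum_eq_zero fun ζ hζ => by rw [hrow ζ hζ, zero_mul]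
  obtain ⟨f, hf, hfR, hsum⟩ := exists_center hM hx hind hd ψ
  have hc := (sum_div_mem (M := M) hf hfR χ).2 hB hχ ψ hψ
  rw [hsum, hsum, h0, mul_zero, zero_div, zero_sub] at hc
  have hc1 := memLocalIdeal_neg hc
  rw [neg_neg, apply_one_eq p ψ, hψ0] at hc1
  have hp0 : (p : ℂ) ≠ 0 := Nat.cast_ne_zero.mpr hp.ne_zero
  have hu0 : (udeg p ψ : ℂ) ≠ 0 := Nat.cast_ne_zero.mpr (udeg_ne_zero hp ψ)
  have hm0 : (primeToCard p G : ℂ) ≠ 0 := Nat.cast_ne_zero.mpr (primeToCard_pos p).ne'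
  have hc2 := memLocalIdeal_mul_right hc1
    (ratio_mem_localRing hM (udeg p ψ) (primeToCard p G) (not_dvd_primeToCard hp))
  refine not_memLocalIdeal_cX hM hx hind hψ hψ hψ0 hψ0 ?_
  convert hc2 using 1
  field_simp

include hM in
/-- **Major subsections**: `k(B) ≤ p ^ d * l(b)`. -/
theorem card_le {x : H} (hx : Pelt p x) {B : Set (Cfsg.IrrCharacter G)}
    (hind : Cfsg.IsInducedBlock M H b B) (hd : Cfsg.blockDefect p b = Cfsg.blockDefect p B) :
    Nat.card B ≤ p ^ Cfsg.blockDefect p b * Cfsg.blockRank p b := by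
  classical
  have hb := hind.1
  let z : {a // a ∈ bset B} → ℝ := fun a =>
    (∑ ζ ∈ bset b, Complex.normSq (rowq p b x a.1 ζ)) / (p : ℝ) ^ Cfsg.blockDefect p b
  have hp0 : (p : ℂ) ^ Cfsg.blockDefect p b ≠ 0 :=
    pow_ne_zero _ (Nat.cast_ne_zero.mpr (Fact.out : p.Prime).ne_zero)
  have hz : ∀ a : {a // a ∈ bset B}, (z a : ℂ) = cX p b x a.1 a.1 := fun a => by
    refine mul_left_cancel₀ hp0 ?_
    rw [pow_mul_cX hM hb x]
    simp only [z, Complex.ofReal_div, Complex.ofReal_pow, Complex.ofReal_natCast,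
      Complex.ofReal_sum, Complex.mul_conj]
    field_simp
  have hint : ∀ a, IsIntegral ℤ (z a : ℂ) := fun a => by
    rw [hz]; exact isIntegral_cX hx.commute _ _
  have hpos : ∀ a, 0 < z a := fun a => by
    have h1 : 0 ≤ z a := div_nonneg (Finset.sum_nonneg fun ζ _ => Complex.normSq_nonneg _)
      (pow_nonneg (Nat.cast_nonneg p) _)
    refine h1.lt_of_ne fun e => cX_self_ne_zero hM hx hind hd (mem_bset.mp a.2) ?_
    rw [← hz, ← e, Complex.ofReal_zero]
  have h := GaloisMean.Basic.card_le_sum z hint hpos (fun σ => by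
    obtain ⟨k, hk, hreg, hσ⟩ := exists_twist hM hb hx σ
    let e : {a // a ∈ bset B} → {a // a ∈ bset B} := fun a =>
      ⟨twistChar hk a.1, mem_bset.mpr (twistChar_mem hM hk hreg hind.2.1 (mem_bset.mp a.2))⟩
    have he : Function.Injective e := fun a a' h =>
      Subtype.ext (twistChar_injective hk (congrArg Subtype.val h))
    refine ⟨Equiv.ofBijective e (Finite.injective_iff_bijective.mp he), fun a => ?_⟩
    have hm := mem_alg_of_isIntegral (isIntegral_cX (p := p) (b := b) hx.commute a.1 a.1)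
    rw [show (⟨(z a : ℂ), mem_alg_of_isIntegral (hint a)⟩ : Alg) = ⟨_, hm⟩ from
      Subtype.ext (hz a), hσ _ _ hm]
    exact (hz (e a)).symm)
  have hsum : ((∑ a, z a : ℝ) : ℂ) =
      (p : ℂ) ^ Cfsg.blockDefect p b * (Cfsg.blockRank p b : ℂ) := by
    rw [← sum_cX_self hM hx hind, ← Finset.sum_coe_sort (bset B), Complex.ofReal_sum]
    exact Finset.sum_congr rfl fun a _ => hz a
  have hsum' : (∑ a, z a) = ((p ^ Cfsg.blockDefect p b * Cfsg.blockRank p b : ℕ) : ℝ) := by
    apply Complex.ofReal_injective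
    rw [hsum]
    push_cast
    rfl
  rw [hsum', Fintype.card_coe, card_bset] at h
  exact_mod_cast h

end Cfsg.Agent.Lib.Blocks.MajorSection
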