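import Cfsg.Agent.Lib.Blocks.Contrib

/-!
# The Brauer–Feit bound and bounds on heights
-/

namespace Cfsg.Agent.Lib.Blocks.Contrib

universe u

variable {G : Type u} [Group G] [Finite G] {p : ℕ} [Fact p.Prime] {M : Ideal Cfsg.AlgInt}
  [M.IsMaximal] (hM : Cfsg.IsPModular p M) {B : Set (Cfsg.IrrCharacter G)}
  (hB : Cfsg.IsPBlock M B)
include hM hB

theorem pow_vdeg_sq_le {χ φ : Cfsg.IrrCharacter G} (h : contribN p χ φ ≠ 0) :
    (p : ℤ) ^ (2 * vdeg p φ) ≤ contribN p χ φ ^ 2 := by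
  rw [pow_mul']
  exact Int.le_of_dvd (lt_of_le_of_ne (sq_nonneg _) (pow_ne_zero 2 h).symm)
    (pow_dvd_pow_of_dvd (pow_vdeg_dvd_contribN_right hM χ φ) 2)

/-- Brauer–Feit, in the sharp form with heights. -/
theorem four_mul_sum_pow_height_le [DecidableEq (Cfsg.IrrCharacter G)]
    {χ : Cfsg.IrrCharacter G} (hχ : χ ∈ B) (h0 : vdeg p χ = minVdeg p B) :
    4 * ∑ φ ∈ (bset B).erase χ, p ^ (2 * Cfsg.blockHeight p B (φ : G → ℂ)) ≤
      p ^ (2 * Cfsg.blockDefect p B) := by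
  have h := four_mul_sum_erase_le hM hB hχ
  have hle : (p : ℤ) ^ (2 * minVdeg p B) *
      ∑ φ ∈ (bset B).erase χ, (p : ℤ) ^ (2 * Cfsg.blockHeight p B (φ : G → ℂ)) ≤
      ∑ φ ∈ (bset B).erase χ, contribN p χ φ ^ 2 := by
    rw [Finset.mul_sum]
    refine Finset.sum_le_sum fun φ hφ => ?_
    have hφB : φ ∈ B := mem_bset.mp (Finset.mem_of_mem_erase hφ)
    rw [← pow_add, ← mul_add, blockHeight_eq, Nat.add_sub_cancel' (minVdeg_le hφB)]
    exact pow_vdeg_sq_le hM hB (contribN_ne_zero hM hB hχ h0 hφB)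
  have key : (p : ℤ) ^ (2 * minVdeg p B) *
      (4 * ∑ φ ∈ (bset B).erase χ, (p : ℤ) ^ (2 * Cfsg.blockHeight p B (φ : G → ℂ))) ≤
      (p : ℤ) ^ (2 * minVdeg p B) * (p : ℤ) ^ (2 * Cfsg.blockDefect p B) := by
    rw [← pow_add, ← mul_add, minVdeg_add_blockDefect hB]
    linarith
  exact_mod_cast le_of_mul_le_mul_left key (pow_pos (mod_cast (Fact.out : p.Prime).pos) _)

/-- The Brauer–Feit bound. -/
theorem four_mul_sum_le :
    4 * ∑ φ ∈ bset B, p ^ (2 * Cfsg.blockHeight p B (φ : G → ℂ)) ≤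
      p ^ (2 * Cfsg.blockDefect p B) + 4 := by
  classical
  obtain ⟨χ, hχ, h0⟩ := exists_height_zero (p := p) hB
  have h := four_mul_sum_pow_height_le hM hB hχ h0
  rw [← Finset.add_sum_erase _ _ (mem_bset.mpr hχ), (blockHeight_eq_zero_iff hχ).mpr h0]
  simp only [mul_zero, pow_zero]
  omega

theorem four_mul_card_le : 4 * Nat.card B ≤ p ^ (2 * Cfsg.blockDefect p B) + 4 := by
  refine le_trans ?_ (four_mul_sum_le hM hB)
  rw [← card_bset, Finset.card_eq_sum_ones]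
  exact Nat.mul_le_mul_left 4 (Finset.sum_le_sum fun φ _ =>
    Nat.one_le_pow _ _ (Fact.out : p.Prime).pos)

theorem contribN_self_lt {χ : Cfsg.IrrCharacter G} (hχ : χ ∈ B) {χ₀ : Cfsg.IrrCharacter G}
    (hχ₀ : χ₀ ∈ B) (hne : χ₀ ≠ χ) (h0 : vdeg p χ₀ = minVdeg p B) :
    contribN p χ χ < (p : ℤ) ^ (Nat.card G).factorization p := by
  classical
  have hn : contribN p χ χ₀ ≠ 0 := contribN_comm p χ₀ χ ▸ contribN_ne_zero hM hB hχ₀ h0 hχ
  have h : 0 < ∑ φ ∈ (bset B).erase χ, contribN p χ φ ^ 2 :=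
    Finset.sum_pos' (fun φ _ => sq_nonneg _)
      ⟨χ₀, Finset.mem_erase.mpr ⟨hne, mem_bset.mpr hχ₀⟩,
        lt_of_le_of_ne (sq_nonneg _) (pow_ne_zero 2 hn).symm⟩
  rw [sum_erase_sq hM hB hχ] at h
  have h' := (pos_iff_pos_of_mul_pos h).mp (contribN_self_pos hM hB hχ)
  linarith

/-- A positive height is at most the defect minus two. -/
theorem height_add_two_le {χ : Cfsg.IrrCharacter G} (hχ : χ ∈ B)
    (h : 0 < Cfsg.blockHeight p B (χ : G → ℂ)) :
    Cfsg.blockHeight p B (χ : G → ℂ) + 2 ≤ Cfsg.blockDefect p B := by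
  obtain ⟨χ₀, hχ₀, h0⟩ := exists_height_zero (p := p) hB
  rw [blockHeight_eq] at h ⊢
  have hne : χ₀ ≠ χ := fun e => by subst e; omega
  have h1 := Int.le_of_dvd (contribN_self_pos hM hB hχ)
    (pow_succ_dvd_contribN_self hM hB hχ (by omega))
  have h2 := lt_of_le_of_lt h1 (contribN_self_lt hM hB hχ hχ₀ hne h0)
  have h3 := (pow_lt_pow_iff_right₀ (a := (p : ℤ))
    (mod_cast (Fact.out : p.Prime).one_lt)).mp h2
  have h4 := minVdeg_add_blockDefect (p := p) hB
  omega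

/-- With a character of positive height the block is small. -/
theorem two_mul_card_le {χ : Cfsg.IrrCharacter G} (hχ : χ ∈ B)
    (h : 0 < Cfsg.blockHeight p B (χ : G → ℂ)) :
    2 * Nat.card B ≤ p ^ (2 * Cfsg.blockDefect p B - 2) := by
  classical
  have hd := height_add_two_le hM hB hχ h
  have hp := (Fact.out : p.Prime)
  obtain ⟨χ₀, hχ₀, h0⟩ := exists_height_zero (p := p) hB
  set Z := (bset B).filter fun φ => vdeg p φ = minVdeg p B with hZ
  set S := (bset B).filter fun φ => ¬ vdeg p φ = minVdeg p B with hS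
  have hpos : minVdeg p B + 1 ≤ vdeg p χ := by rw [blockHeight_eq] at h; omega
  have e1 : 4 * ((Z.card : ℤ) * (p : ℤ) ^ (2 * (minVdeg p B + 1))) ≤
      (p : ℤ) ^ (2 * (Nat.card G).factorization p) := by
    refine le_trans (mul_le_mul_of_nonneg_left ?_ (by norm_num)) (four_mul_sum_erase_le hM hB hχ)
    have hsub : Z ⊆ (bset B).erase χ := fun φ hφ => by
      rw [hZ, Finset.mem_filter] at hφ
      exact Finset.mem_erase.mpr ⟨fun e => by subst e; omega, hφ.1⟩
    refine le_trans ?_ (Finset.sum_le_sum_of_subset_of_nonneg hsub fun φ _ _ => sq_nonneg _)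
    rw [← nsmul_eq_mul]
    refine Finset.card_nsmul_le_sum _ _ _ fun φ hφ => ?_
    rw [hZ, Finset.mem_filter] at hφ
    have hn : contribN p χ φ ≠ 0 :=
      contribN_comm p φ χ ▸ contribN_ne_zero hM hB (mem_bset.mp hφ.1) hφ.2 hχ
    rw [pow_mul']
    exact Int.le_of_dvd (lt_of_le_of_ne (sq_nonneg _) (pow_ne_zero 2 hn).symm)
      (pow_dvd_pow_of_dvd ((pow_dvd_pow _ hpos).trans (pow_vdeg_dvd_contribN hM χ φ)) 2)
  have e2 : 4 * ((S.card : ℤ) * (p : ℤ) ^ (2 * (minVdeg p B + 1))) ≤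
      (p : ℤ) ^ (2 * (Nat.card G).factorization p) := by
    refine le_trans (mul_le_mul_of_nonneg_left ?_ (by norm_num)) (four_mul_sum_erase_le hM hB hχ₀)
    have hsub : S ⊆ (bset B).erase χ₀ := fun φ hφ => by
      rw [hS, Finset.mem_filter] at hφ
      exact Finset.mem_erase.mpr ⟨fun e => hφ.2 (e ▸ h0), hφ.1⟩
    refine le_trans ?_ (Finset.sum_le_sum_of_subset_of_nonneg hsub fun φ _ _ => sq_nonneg _)
    rw [← nsmul_eq_mul]
    refine Finset.card_nsmul_le_sum _ _ _ fun φ hφ => ?_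
    rw [hS, Finset.mem_filter] at hφ
    have hφB := mem_bset.mp hφ.1
    refine le_trans (pow_le_pow_right₀ (mod_cast hp.one_lt.le) ?_)
      (pow_vdeg_sq_le hM hB (contribN_ne_zero hM hB hχ₀ h0 hφB))
    have := minVdeg_le (p := p) hφB
    omega
  have hk : Z.card + S.card = Nat.card B := by
    rw [← card_bset]
    exact Finset.card_filter_add_card_filter_not _
  have e3 : 2 * ((Nat.card B : ℤ) * (p : ℤ) ^ (2 * (minVdeg p B + 1))) ≤
      (p : ℤ) ^ (2 * (Nat.card G).factorization p) := by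
    rw [← hk]
    push_cast
    linarith
  have hexp : 2 * (Nat.card G).factorization p =
      (2 * Cfsg.blockDefect p B - 2) + 2 * (minVdeg p B + 1) := by
    have := minVdeg_add_blockDefect (p := p) hB
    omega
  rw [hexp, pow_add, ← mul_assoc] at e3
  exact_mod_cast le_of_mul_le_mul_right e3 (pow_pos (mod_cast hp.pos) _)

end Cfsg.Agent.Lib.Blocks.Contrib
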