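import Cfsg.Agent.Lib.Blocks.DefectGroup

/-!
# Vanishing off the defect groups

If the `p`-part of `g` is not conjugate into a defect group of a block then every character of the
block vanishes at `g`.
-/

namespace Cfsg.Agent.Lib.Blocks

open MonoidAlgebra Cfsg.Agent.Lib.BrauerMap.Basic Cfsg.Agent.Lib.BrauerMap.ClassSum
open Cfsg.Agent.Lib.Characters.Basic
open scoped ComplexConjugate

universe u v

variable {M : Ideal Cfsg.AlgInt} [M.IsMaximal] {p : ℕ}

/-- Trace vanishing on the range of an idempotent which is a relative trace. -/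
theorem trace_eq_zero_of_relTrace (hM : Cfsg.IsPModular p M) {V : Type v} [AddCommGroup V]
    [Module (localRing M) V] [Module.Free (localRing M) V] [Module.Finite (localRing M) V]
    {σ σ' a E D : Module.End (localRing M) V} {k m : ℕ} (hσ : σ ^ p ^ k = 1)
    (h₁ : σ * σ' = 1) (h₂ : σ' * σ = 1) (ha : Commute a (σ ^ p))
    (hsum : (∑ i ∈ Finset.range p, σ ^ i * a * σ' ^ i) * E = E)
    (haE : Commute a E) (hE : E * E = E) (hcE : Commute σ E) (hm : ¬ p ∣ m)
    (hD : D ^ m = 1) (hcD : Commute σ D) (hDE : Commute D E) :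
    LinearMap.trace (localRing M) V (σ * D * E) = 0 := by
  haveI := free_of_isTorsionFree hM (LinearMap.range E)
  haveI := finite_ker_of_free hM E
  haveI := free_of_isTorsionFree hM (LinearMap.ker E)
  have cf : Commute (σ * D * E) E := (hcE.mul_left hDE).mul_left (Commute.refl E)
  have cσ' : Commute σ' E := by
    change σ' * E = E * σ'
    calc σ' * E = σ' * E * (σ * σ') := by rw [h₁, mul_one]
      _ = σ' * (E * σ) * σ' := by simp only [mul_assoc]
      _ = σ' * (σ * E) * σ' := by rw [hcE.eq]
      _ = E * σ' := by rw [← mul_assoc σ', h₂, one_mul]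
  have hEx : ∀ x ∈ LinearMap.range E, E x = x := by
    rintro _ ⟨y, rfl⟩
    exact LinearMap.congr_fun hE y
  rw [trace_eq_trace_ker_add_trace_range (σ * D * E) E cf (mapsTo_ker_of_commute cf)
    (mapsTo_range_of_commute cf)]
  have hk : (σ * D * E).restrict (mapsTo_ker_of_commute cf) = 0 := by
    refine LinearMap.ext fun x => Subtype.ext ?_
    have hx : E (x : V) = 0 := x.2
    change σ (D (E (x : V))) = 0
    rw [hx, map_zero, map_zero]
  rw [hk, map_zero, zero_add]
  have hr : (σ * D * E).restrict (mapsTo_range_of_commute cf) =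
      σ.restrict (mapsTo_range_of_commute hcE) * D.restrict (mapsTo_range_of_commute hDE) * 1 := by
    refine LinearMap.ext fun x => Subtype.ext ?_
    change σ (D (E (x : V))) = σ (D (x : V))
    rw [hEx x x.2]
  rw [hr]
  refine trace_eq_zero_of_isHigman_twist hM (σ' := σ'.restrict (mapsTo_range_of_commute cσ'))
    (a := a.restrict (mapsTo_range_of_commute haE)) (k := k) (m := m) ?_ ?_ (mul_one 1)
    (Commute.one_right _) hm ?_ (commute_restrict hcD _ _) (Commute.one_right _)
  · rw [Module.End.pow_restrict (p ^ k) (mapsTo_range_of_commute hcE)]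
    refine LinearMap.ext fun x => Subtype.ext ?_
    simpa using LinearMap.congr_fun hσ (x : V)
  · exact
    { right_inv := by
        refine LinearMap.ext fun x => Subtype.ext ?_
        simpa using LinearMap.congr_fun h₁ (x : V)
      left_inv := by
        refine LinearMap.ext fun x => Subtype.ext ?_
        simpa using LinearMap.congr_fun h₂ (x : V)
      comm := by
        rw [Module.End.pow_restrict p (mapsTo_range_of_commute hcE)]
        refine LinearMap.ext fun x => Subtype.ext ?_
        simpa using LinearMap.congr_fun ha (x : V)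
      sum_eq := by
        refine LinearMap.ext fun x => Subtype.ext ?_
        have h := LinearMap.congr_fun hsum (x : V)
        rw [Module.End.mul_apply, hEx x x.2] at h
        simp only [LinearMap.sum_apply, Module.End.mul_apply, Module.End.one_apply,
          Submodule.coe_sum] at h ⊢
        refine Eq.trans (Finset.sum_congr rfl fun i _ => ?_) h
        rw [Module.End.pow_restrict i (mapsTo_range_of_commute hcE),
          Module.End.pow_restrict i (mapsTo_range_of_commute cσ')]
        rfl }
  · rw [Module.End.pow_restrict m (mapsTo_range_of_commute hDE)]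
    refine LinearMap.ext fun x => Subtype.ext ?_
    simpa using LinearMap.congr_fun hD (x : V)

variable {G : Type u} [Group G] [Finite G]

omit [Finite G] in
theorem isConj_mem_iff {x : G} {D : Subgroup G} (t : G) (d : G) (hd : d ∈ D) :
    (t * d)⁻¹ * x * (t * d) ∈ D ↔ t⁻¹ * x * t ∈ D := by
  rw [show (t * d)⁻¹ * x * (t * d) = d⁻¹ * (t⁻¹ * x * t) * d by group,
    D.mul_mem_cancel_right hd, D.mul_mem_cancel_left (D.inv_mem hd)]

/-- **Vanishing off defect groups.** If the `p`-part `x` of `g` has no conjugate in a defect group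
of the block, every character of the block vanishes at `g`. -/
theorem char_eq_zero_of_pPart_notMem (hM : Cfsg.IsPModular p M) {B : Set (Cfsg.IrrCharacter G)}
    (hB : Cfsg.IsPBlock M B) {D : Subgroup G} (hD : Cfsg.IsDefectGroup p M B D) {g x : G}
    (hx : Cfsg.IsPPart p g x) (hne : ∀ t : G, t⁻¹ * x * t ∉ D) {χ : Cfsg.IrrCharacter G}
    (hχ : χ ∈ B) : (χ : G → ℂ) g = 0 := by
  classical
  haveI := Fintype.ofFinite G
  haveI := Fintype.ofFinite (G ⧸ D)
  obtain ⟨y, hxy, hcxy, ⟨k, hk⟩, hy⟩ := hx
  obtain ⟨g₀, hg₀, P, hP⟩ := hD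
  obtain ⟨b, hb, hbe⟩ := exists_relTr_eq hM hB (isDefectClass_exists_ne hB hg₀) P
  rw [← hP] at hb hbe
  set π : Equiv.Perm (G ⧸ D) := MulAction.toPermHom G (G ⧸ D) x with hπ
  have hπk : π ^ p ^ k = 1 := by
    rw [hπ, ← map_pow, ← hk, pow_orderOf_eq_one, map_one]
  have hπn : ∀ (n : ℕ) (c : G ⧸ D), (π ^ n) c = (x ^ n) • c := fun n c => by
    rw [hπ, ← map_pow]
    rfl
  have hπi : ∀ (n : ℕ) (c : G ⧸ D), (π⁻¹ ^ n) c = ((x ^ n)⁻¹) • c := fun n c => by
    rw [hπ, inv_pow, ← map_pow, ← map_inv]
    rfl
  have hmk : ∀ (z : G) (c : G ⧸ D), z • c = QuotientGroup.mk (z * c.out) := fun z c => by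
    conv_lhs => rw [← Quotient.out_eq c]
    rfl
  have hfix : ∀ c, π c ≠ c := by
    intro c hc
    refine hne c.out ?_
    have h1 : (QuotientGroup.mk (x * c.out) : G ⧸ D) = QuotientGroup.mk c.out := by
      rw [← hmk]
      exact hc.trans (Quotient.out_eq c).symm
    have h2 := D.inv_mem (QuotientGroup.eq.mp h1)
    simpa [mul_assoc] using h2
  obtain ⟨S, hS, hS'⟩ := exists_orbit_class hM.1 π hπk hfix
  set T : (G ⧸ D) → MonoidAlgebra (localRing M) G :=
    fun c => single c.out 1 * b * single c.out⁻¹ 1 with hT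
  have hTconj : ∀ (z : G) (c : G ⧸ D), single z 1 * T c * single z⁻¹ 1 = T (z • c) := by
    intro z c
    have h : ∀ (t : G) (v : G),
        (single t (1 : (localRing M)) * b * single t⁻¹ 1).coeff v = b.coeff (t⁻¹ * v * t) := fun t v => by
      rw [coeff_mul_single_apply, coeff_single_mul_apply]
      simp [mul_assoc]
    refine MonoidAlgebra.coeff_injective (Finsupp.ext fun v => ?_)
    have e1 : single z 1 * T c * single z⁻¹ 1 =
        single (z * c.out) 1 * b * single (z * c.out)⁻¹ 1 := by
      simp only [hT, mul_inv_rev, mul_assoc, single_mul_single, one_mul]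
      simp only [← mul_assoc, single_mul_single, one_mul]
    rw [e1, h, hT, h, hmk, coeff_out_mk hb]
  set bS : MonoidAlgebra (localRing M) G := ∑ c : G ⧸ D with S c, T c with hbS
  have hshift : ∀ z : G, single z 1 * bS * single z⁻¹ 1 =
      ∑ c : G ⧸ D with S (z⁻¹ • c), T c := by
    intro z
    rw [hbS, Finset.mul_sum, Finset.sum_mul]
    simp only [hTconj]
    refine Finset.sum_equiv (MulAction.toPerm z) (fun c => ?_) (fun c _ => rfl)
    simp
  have htot : ∑ i ∈ Finset.range p, single (x ^ i) 1 * bS * single (x ^ i)⁻¹ 1 =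
      (blockIdemR hB).1 := by
    simp only [hshift]
    rw [← hbe]
    simp only [Finset.sum_filter]
    rw [Finset.sum_comm]
    unfold relTr
    refine Finset.sum_congr (by ext; simp) fun c _ => ?_
    obtain ⟨i₀, ⟨hi₀, hSi₀⟩, huniq⟩ := hS' c
    rw [hπi] at hSi₀
    refine (Finset.sum_eq_single i₀ ?_ ?_).trans (if_pos hSi₀)
    · intro n hn hne'
      exact if_neg fun h => hne' (huniq n ⟨Finset.mem_range.mp hn, by rwa [hπi]⟩)
    · exact fun h => absurd (Finset.mem_range.mpr hi₀) h
  haveI : Module.Free (localRing M) (MonoidAlgebra (localRing M) G) :=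
    Module.Free.of_equiv (MonoidAlgebra.coeffLinearEquiv (localRing M)).symm
  haveI : Module.Finite (localRing M) (MonoidAlgebra (localRing M) G) :=
    Module.Finite.equiv (MonoidAlgebra.coeffLinearEquiv (localRing M)).symm
  set e := (blockIdemR hB).1
  have he : e ∈ Subalgebra.center (localRing M) (MonoidAlgebra (localRing M) G) := (blockIdemR hB).2
  have hee : e * e = e := by
    rw [← Subalgebra.coe_mul, blockIdemR_mul_self]
  have hpow : ∀ (z : G) (n : ℕ), twoSided (localRing M) (z, z) ^ n = twoSided (localRing M) (z ^ n, z ^ n) := fun z n => by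
    rw [← map_pow, Prod.pow_mk]
  have hconjL : ∀ (z : G) (w : MonoidAlgebra (localRing M) G),
      twoSided (localRing M) (z, z) * LinearMap.mulLeft (localRing M) w * twoSided (localRing M) (z⁻¹, z⁻¹) =
        LinearMap.mulLeft (localRing M) (single z 1 * w * single z⁻¹ 1) := fun z w => by
    refine LinearMap.ext fun v => ?_
    simp only [Module.End.mul_apply, LinearMap.mulLeft_apply, twoSided_apply, inv_inv,
      mul_assoc, single_mul_single]
    simp [← one_def]
  have key := trace_eq_zero_of_relTrace hM (σ := twoSided (localRing M) (x, x))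
    (σ' := twoSided (localRing M) (x⁻¹, x⁻¹)) (a := LinearMap.mulLeft (localRing M) bS) (E := LinearMap.mulLeft (localRing M) e)
    (D := twoSided (localRing M) (y, y)) (k := k) (m := orderOf y) ?_ ?_ ?_ ?_ ?_ ?_ ?_
    (commute_twoSided_mulLeft he x x) hy ?_ ?_ (commute_twoSided_mulLeft he y y)
  · rw [← map_mul, Prod.mk_mul_mk, hxy] at key
    have h0 : (((0 : (localRing M)) : (localRing M)) : ℂ) = ∑ᶠ χ ∈ B, (χ : G → ℂ) g * (χ : G → ℂ) g⁻¹ := by
      rw [← trace_twoSided_blockIdemR hB g g, ← key]
    rw [ZeroMemClass.coe_zero, finsum_mem_eq_finite_toFinset_sum _ (Set.toFinite B)] at h0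
    have h1 : ∑ χ ∈ (Set.toFinite B).toFinset, Complex.normSq ((χ : G → ℂ) g) = 0 := by
      have h2 := h0.symm
      simp only [apply_inv (isCharacter_irr _), Complex.mul_conj] at h2
      exact_mod_cast h2
    exact Complex.normSq_eq_zero.mp
      ((Finset.sum_eq_zero_iff_of_nonneg fun χ _ => Complex.normSq_nonneg _).mp h1 χ
        ((Set.toFinite B).mem_toFinset.mpr hχ))
  · rw [hpow, ← hk, pow_orderOf_eq_one]
    exact map_one _
  · rw [← map_mul, Prod.mk_mul_mk, mul_inv_cancel]
    exact map_one _
  · rw [← map_mul, Prod.mk_mul_mk, inv_mul_cancel]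
    exact map_one _
  · rw [hpow]
    refine LinearMap.ext fun v => ?_
    have hfixS : single (x ^ p) 1 * bS * single (x ^ p)⁻¹ 1 = bS := by
      rw [hshift, hbS]
      refine Finset.sum_congr (Finset.filter_congr fun c _ => ?_) fun _ _ => rfl
      have := hS ((x ^ p)⁻¹ • c)
      rw [hπn, smul_inv_smul] at this
      exact this.symm
    simp only [Module.End.mul_apply, LinearMap.mulLeft_apply, twoSided_apply]
    conv_lhs => rw [← hfixS]
    simp only [mul_assoc, single_mul_single, inv_mul_cancel, one_mul, ← one_def]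
    rw [← mul_assoc (single (x ^ p)⁻¹ 1), single_mul_single, inv_mul_cancel, one_mul, ← one_def,
      one_mul]
  · rw [Finset.sum_congr rfl fun i _ => show twoSided (localRing M) (x, x) ^ i * LinearMap.mulLeft (localRing M) bS *
        twoSided (localRing M) (x⁻¹, x⁻¹) ^ i =
        LinearMap.mulLeft (localRing M) (single (x ^ i) 1 * bS * single (x ^ i)⁻¹ 1) by
      rw [hpow, hpow, inv_pow, hconjL]]
    refine LinearMap.ext fun v => ?_
    simp only [Module.End.mul_apply, LinearMap.sum_apply, LinearMap.mulLeft_apply,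
      ← Finset.sum_mul, htot]
    rw [← mul_assoc, hee]
  · refine LinearMap.ext fun v => ?_
    simp only [Module.End.mul_apply, LinearMap.mulLeft_apply, ← mul_assoc]
    rw [Subalgebra.mem_center_iff.mp he bS]
  · refine LinearMap.ext fun v => ?_
    simp only [Module.End.mul_apply, LinearMap.mulLeft_apply, ← mul_assoc, hee]
  · rw [hpow, pow_orderOf_eq_one]
    exact map_one _
  · exact (Prod.commute_iff.mpr ⟨hcxy, hcxy⟩).map _

/-- A conjugate of a Sylow subgroup of `C` inside a subgroup of the same index is a Sylow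
subgroup. -/
theorem exists_sylow_map_eq [Fact p.Prime] (C C' : Subgroup G) (P : Sylow p C) (t : G)
    (hle : ((P : Subgroup C).map C.subtype).map (MulAut.conj t).toMonoidHom ≤ C')
    (hidx : C.index = C'.index) :
    ∃ Q : Sylow p C', ((P : Subgroup C).map C.subtype).map (MulAut.conj t).toMonoidHom =
      (Q : Subgroup C').map C'.subtype := by
  have hcard : Nat.card C = Nat.card C' := by
    have h1 := C.index_mul_card
    rw [hidx, ← C'.index_mul_card] at h1
    exact Nat.eq_of_mul_eq_mul_left (Nat.pos_of_ne_zero C'.index_ne_zero_of_finite) h1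
  refine ⟨Sylow.ofCard ((((P : Subgroup C).map C.subtype).map
    (MulAut.conj t).toMonoidHom).subgroupOf C') ?_, ?_⟩
  · rw [Nat.card_congr (Subgroup.subgroupOfEquivOfLe hle).toEquiv, card_map_conj,
      Subgroup.card_map_of_injective C.subtype_injective, P.card_eq_multiplicity, hcard]
  · rw [Sylow.coe_ofCard, Subgroup.subgroupOf, Subgroup.map_comap_eq, Subgroup.range_subtype,
      inf_eq_right.mpr hle]

/-- Conjugates of defect groups are defect groups. -/
theorem isDefectGroup_map_conj (hM : Cfsg.IsPModular p M) {B : Set (Cfsg.IrrCharacter G)}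
    {D : Subgroup G} (hD : Cfsg.IsDefectGroup p M B D) (t : G) :
    Cfsg.IsDefectGroup p M B (D.map (MulAut.conj t).toMonoidHom) := by
  haveI := Fact.mk hM.1
  obtain ⟨g, hg, P, rfl⟩ := hD
  have e : IsConj g (t * g * t⁻¹) := isConj_iff.mpr ⟨t, rfl⟩
  refine ⟨t * g * t⁻¹, ⟨blockCoeff_eq_of_isConj B e ▸ hg.1, blockCoeff_eq_of_isConj B e ▸ hg.2.1,
    fun χ hχ => centralChar_eq_of_isConj χ e ▸ hg.2.2 χ hχ⟩, ?_⟩
  have hidx := centralizer_index_eq_of_isConj e
  refine exists_sylow_map_eq (Subgroup.centralizer ({g} : Set G))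
    (Subgroup.centralizer ({t * g * t⁻¹} : Set G)) P t ?_ hidx
  rintro _ ⟨d, hd, rfl⟩
  have hdg : d * g = g * d :=
    Subgroup.mem_centralizer_singleton_iff.mp (Subgroup.map_subtype_le _ hd)
  refine Subgroup.mem_centralizer_singleton_iff.mpr ?_
  simpa [MulAut.conj_apply, mul_assoc] using congrArg (fun z => t * z * t⁻¹) hdg

/-- A defect-zero block has characters vanishing on `p`-singular elements. -/
theorem char_eq_zero_of_defect_zero (hM : Cfsg.IsPModular p M) {B : Set (Cfsg.IrrCharacter G)}
    (hB : Cfsg.IsPBlock M B) (h0 : Cfsg.blockDefect p B = 0) {g : G} (hg : p ∣ orderOf g)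
    {χ : Cfsg.IrrCharacter G} (hχ : χ ∈ B) : (χ : G → ℂ) g = 0 := by
  obtain ⟨D, hD⟩ := exists_isDefectGroup (p := p) hB
  obtain ⟨x, hx⟩ := exists_isPPart hM.1 g
  have hcard := card_isDefectGroup hM hB hD
  rw [h0, pow_zero] at hcard
  refine char_eq_zero_of_pPart_notMem hM hB hD hx (fun t ht => isPPart_ne_one hx hg ?_) hχ
  rw [Subgroup.eq_bot_of_card_eq D hcard, Subgroup.mem_bot] at ht
  simpa [mul_assoc] using congrArg (fun z => t * z * t⁻¹) ht

end Cfsg.Agent.Lib.Blocks
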