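import Mathlib
import Cfsg.Agent.Lib.Blocks.SectionMatrix
import Cfsg.Agent.Lib.Blocks.ContribBound

/-!
# Contributions of blocks of sections at a character of any height

For a `p`-element `x` and a block `b` of `C(x)` inducing `B` with the same defect, the contribution
at a character of height `h` is positive and divisible by `p ^ h`, and the contributions over
distinct sections sum to at most one.  So there are at most `p ^ (d - h)` such sections.
-/

set_option autoImplicit false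
set_option linter.style.haveILetI false
set_option linter.unusedSectionVars false

namespace Cfsg.Agent.Lib.Blocks.SectionHeight

open scoped ComplexConjugate
open Cfsg.Agent.Lib.Characters.Basic Cfsg.Agent.Lib.Blocks Cfsg.Agent.Lib.Blocks.Contrib
open Cfsg.Agent.Lib.Blocks.BlockPart Cfsg.Agent.Lib.Blocks.SectionPart
open Cfsg.Agent.Lib.Blocks.SectionMatrix
open Cfsg.Agent.Lib.Induced.Basic Cfsg.Agent.Lib.BC78.Galois

universe u

/-- Positive algebraic integers permuted by Galois, each divisible by `p ^ e` at `M`, average at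
least `p ^ e`. -/
theorem mul_card_le_sum {p : ℕ} [Fact p.Prime] {M : Ideal Cfsg.AlgInt} [M.IsMaximal]
    (hM : Cfsg.IsPModular p M) (e : ℕ) {ι : Type*} [Fintype ι] (x : ι → ℝ)
    (hint : ∀ i, IsIntegral ℤ (x i : ℂ)) (hpos : ∀ i, 0 < x i)
    (hdiv : ∀ i, (x i : ℂ) / (p : ℂ) ^ e ∈ localRing M)
    (hσ : ∀ σ : Alg ≃ₐ[ℚ] Alg, ∃ π : Equiv.Perm ι, ∀ i,
      ((σ ⟨(x i : ℂ), mem_alg_of_isIntegral (hint i)⟩ : Alg) : ℂ) = (x (π i) : ℂ)) :
    (p : ℝ) ^ e * Fintype.card ι ≤ ∑ i, x i := by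
  classical
  have hz : IsIntegral ℤ (∏ i, (x i : ℂ)) := IsIntegral.prod _ fun i _ => hint i
  obtain ⟨m, hm⟩ := exists_int_of_fixed hz (by
    intro σ
    obtain ⟨π, hπ⟩ := hσ σ
    have h1 : (⟨∏ i, (x i : ℂ), mem_alg_of_isIntegral hz⟩ : Alg) =
        ∏ i, (⟨(x i : ℂ), mem_alg_of_isIntegral (hint i)⟩ : Alg) := by
      apply Subtype.ext
      push_cast
      rfl
    rw [h1, map_prod]
    push_cast
    simp only [hπ]
    exact Equiv.prod_comp π (fun i => (x i : ℂ)))
  set q : ℝ := (p : ℝ) ^ e with hq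
  have hq0 : 0 < q := pow_pos (Nat.cast_pos.mpr (Fact.out : p.Prime).pos) e
  have hdvd : (p : ℤ) ^ (e * Fintype.card ι) ∣ m := by
    refine pow_dvd_of_div_mem hM _ m ?_
    rw [hm, pow_mul, ← Finset.card_univ, ← Finset.prod_const, ← Finset.prod_div_distrib]
    exact prod_mem fun i _ => hdiv i
  have hP : (0 : ℝ) < ∏ i, x i := Finset.prod_pos fun i _ => hpos i
  have hm' : (m : ℝ) = ∏ i, x i := by exact_mod_cast hm
  have hm0 : 0 < m := by
    rw [← hm'] at hP
    exact_mod_cast hP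
  have h1 : (1 : ℝ) ≤ ∏ i, x i / q := by
    rw [Finset.prod_div_distrib, Finset.prod_const, Finset.card_univ,
      one_le_div (pow_pos hq0 _), ← hm', hq, ← pow_mul]
    exact_mod_cast Int.le_of_dvd hm0 hdvd
  have h2 : (0 : ℝ) ≤ Real.log (∏ i, x i / q) := Real.log_nonneg h1
  rw [Real.log_prod (fun i _ => (div_pos (hpos i) hq0).ne')] at h2
  have h3 := h2.trans
    (Finset.sum_le_sum fun i _ => Real.log_le_sub_one_of_pos (div_pos (hpos i) hq0))
  rw [Finset.sum_sub_distrib, Finset.sum_const, nsmul_one, Finset.card_univ, sub_nonneg,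
    ← Finset.sum_div, le_div_iff₀ hq0] at h3
  linarith

variable {G : Type u} [Group G] [Fintype G] {p : ℕ} [Fact p.Prime] {M : Ideal Cfsg.AlgInt}
  [M.IsMaximal] {H : Subgroup G} [Fintype H]

/-! ## The section of an element -/

open scoped Classical in
/-- The elements of the section of `x`. -/
noncomputable def sec (p : ℕ) (x : H) : Finset G :=
  ((Finset.univ : Finset G) ×ˢ Finset.univ.filter fun s : H => ¬ p ∣ orderOf s).image
    fun vs => vs.1 * ((x : G) * (vs.2 : G)) * vs.1⁻¹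

theorem mem_sec {x : H} {g : G} : g ∈ sec p x ↔
    ∃ (v : G) (s : H), ¬ p ∣ orderOf s ∧ g = v * ((x : G) * (s : G)) * v⁻¹ := by
  classical
  simp [sec, eq_comm]

theorem isPPart_of_mem {x : H} (hx : Pelt p x) (v : G) {s : H} (hs : ¬ p ∣ orderOf s) :
    Cfsg.IsPPart p (v * ((x : G) * (s : G)) * v⁻¹) (v * (x : G) * v⁻¹) :=
  Cfsg.Agent.Lib.BrauerMap.PrincipalSection.isPPart_conj
    (isPPart_mul hx.pow (by rwa [Subgroup.orderOf_coe]) (commute_of_mem hx.eq s.2)) v

theorem disjoint_sec {H' : Subgroup G} [Fintype H'] {x : H} {x' : H'} (hx : Pelt p x)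
    (hx' : Pelt p x') (h : ¬ IsConj (x : G) (x' : G)) : Disjoint (sec p x) (sec p x') := by
  rw [Finset.disjoint_left]
  intro g hg hg'
  obtain ⟨v, s, hs, rfl⟩ := mem_sec.mp hg
  obtain ⟨v', s', hs', he⟩ := mem_sec.mp hg'
  have h1 := isPPart_of_mem hx v hs
  rw [he] at h1
  have h2 := Cfsg.Agent.Lib.BrauerMap.PrincipalSection.isPPart_unique Fact.out h1
    (isPPart_of_mem hx' v' hs')
  exact h (isConj_iff.mpr ⟨v'⁻¹ * v, by
    calc v'⁻¹ * v * (x : G) * (v'⁻¹ * v)⁻¹ = v'⁻¹ * (v * (x : G) * v⁻¹) * v' := by group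
      _ = _ := by rw [h2]; group⟩)

theorem eq_of_conj_eq {x : H} (hx : Pelt p x) {v v' : G} {s s' : H} (hs : ¬ p ∣ orderOf s)
    (hs' : ¬ p ∣ orderOf s')
    (h : v * ((x : G) * (s : G)) * v⁻¹ = v' * ((x : G) * (s' : G)) * v'⁻¹) :
    ∃ w : H, v' = v * (w : G) ∧ s' = w⁻¹ * s * w := by
  have h1 := isPPart_of_mem hx v hs
  rw [h] at h1
  have h2 := Cfsg.Agent.Lib.BrauerMap.PrincipalSection.isPPart_unique Fact.out h1
    (isPPart_of_mem hx v' hs')
  have hw : v⁻¹ * v' ∈ H := by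
    rw [hx.eq, Cfsg.Agent.Lib.BrauerMap.SecondMain.mem_centralizer_zpowers_iff]
    show v⁻¹ * v' * (x : G) = (x : G) * (v⁻¹ * v')
    calc v⁻¹ * v' * (x : G) = v⁻¹ * (v' * (x : G) * v'⁻¹) * v' := by group
      _ = _ := by rw [← h2]; group
  refine ⟨⟨_, hw⟩, (mul_inv_cancel_left v v').symm, Subtype.ext (mul_left_cancel (a := (x : G)) ?_)⟩
  have hxw : (x : G) * (v⁻¹ * v')⁻¹ = (v⁻¹ * v')⁻¹ * (x : G) :=
    (commute_of_mem hx.eq (inv_mem hw)).eq
  push_cast
  calc (x : G) * (s' : G) = v'⁻¹ * (v' * ((x : G) * (s' : G)) * v'⁻¹) * v' := by group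
    _ = (v⁻¹ * v')⁻¹ * (x : G) * (s : G) * (v⁻¹ * v') := by rw [← h]; group
    _ = _ := by rw [← hxw]; group

open scoped Classical in
theorem sum_sec {A : Type*} [AddCommMonoid A] {x : H} (hx : Pelt p x) (f : G → A) :
    ∑ v : G, ∑ s : H, (if p ∣ orderOf s then 0 else f (v * ((x : G) * (s : G)) * v⁻¹)) =
      Fintype.card H • ∑ g ∈ sec p x, f g := by
  set S := (Finset.univ : Finset G) ×ˢ Finset.univ.filter fun s : H => ¬ p ∣ orderOf s with hS
  have e : ∑ v : G, ∑ s : H, (if p ∣ orderOf s then 0 else f (v * ((x : G) * (s : G)) * v⁻¹)) =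
      ∑ vs ∈ S, f (vs.1 * ((x : G) * (vs.2 : G)) * vs.1⁻¹) := by
    rw [hS, Finset.sum_product]
    refine Finset.sum_congr rfl fun v _ => ?_
    rw [Finset.sum_filter]
    exact Finset.sum_congr rfl fun s _ => by split_ifs <;> rfl
  rw [e, Finset.smul_sum]
  refine (Finset.sum_fiberwise_of_maps_to (t := sec p x)
    (g := fun vs : G × H => vs.1 * ((x : G) * (vs.2 : G)) * vs.1⁻¹)
    (fun vs hvs => Finset.mem_image_of_mem _ hvs) _).symm.trans ?_
  refine Finset.sum_congr rfl fun g hg => ?_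
  rw [Finset.sum_congr rfl fun vs hvs => congrArg f (Finset.mem_filter.mp hvs).2,
    Finset.sum_const]
  congr 1
  obtain ⟨v, s, hs, rfl⟩ := mem_sec.mp hg
  rw [← Finset.card_univ]
  symm
  refine Finset.card_bij (fun w _ => (v * (w : G), w⁻¹ * s * w)) ?_ ?_ ?_
  · intro w _
    refine Finset.mem_filter.mpr ⟨Finset.mem_product.mpr ⟨Finset.mem_univ _,
      Finset.mem_filter.mpr ⟨Finset.mem_univ _, ?_⟩⟩, ?_⟩
    · rwa [show orderOf (w⁻¹ * s * w) = orderOf s by
        simpa using (MulAut.conj w⁻¹).orderOf_eq s]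
    · have hxw := (commute_of_mem hx.eq (inv_mem w.2)).eq
      push_cast
      calc v * (w : G) * ((x : G) * ((w : G)⁻¹ * (s : G) * (w : G))) * (v * (w : G))⁻¹
          = v * (w : G) * ((x : G) * (w : G)⁻¹) * (s : G) * v⁻¹ := by group
        _ = _ := by rw [hxw]; group
  · intro w _ w' _ h
    exact Subtype.ext (mul_left_cancel (congrArg Prod.fst h))
  · rintro ⟨v', s'⟩ h
    simp only [Finset.mem_filter, S, Finset.mem_product, Finset.mem_univ, true_and] at h
    obtain ⟨w, h1, h2⟩ := eq_of_conj_eq hx hs h.1 h.2.symm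
    exact ⟨w, Finset.mem_univ _, Prod.ext h1.symm h2.symm⟩

/-! ## Norms of rows -/

variable (hM : Cfsg.IsPModular p M) {b : Set (Cfsg.IrrCharacter H)} (hb : Cfsg.IsPBlock M b)

include hM hb in
theorem sum_rowq_conj (x : H) (χ ψ : Cfsg.IrrCharacter G) :
    ∑ ζ ∈ bset b, rowq p b x χ ζ * conj (rowq p b x ψ ζ) =
      (p : ℂ) ^ Cfsg.blockDefect p b * cX p b x χ ψ := by
  simp only [cX, rowq, map_sum, map_mul, map_intCast, Finset.sum_mul, Finset.mul_sum]
  rw [Finset.sum_comm]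
  refine Finset.sum_congr rfl fun η hη => ?_
  rw [Finset.sum_comm]
  refine Finset.sum_congr rfl fun θ hθ => ?_
  have h := congrArg (fun z : ℤ => (z : ℂ)) (nq_sq hM hb (mem_bset.mp hθ) (mem_bset.mp hη))
  push_cast at h
  rw [show (p : ℂ) ^ Cfsg.blockDefect p b *
      (acoef x χ θ * (nq p b θ η : ℂ) * conj (acoef x ψ η)) =
      acoef x χ θ * conj (acoef x ψ η) * ((p : ℂ) ^ Cfsg.blockDefect p b * (nq p b θ η : ℂ)) by
    ring, ← h, Finset.mul_sum]
  exact Finset.sum_congr rfl fun ζ _ => by rw [nq_comm η ζ]; ring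

/-- The contribution at a character as a real number. -/
noncomputable def rnorm (p : ℕ) (b : Set (Cfsg.IrrCharacter H)) (x : H)
    (χ : Cfsg.IrrCharacter G) : ℝ :=
  (∑ ζ ∈ bset b, Complex.normSq (rowq p b x χ ζ)) / (p : ℝ) ^ Cfsg.blockDefect p b

include hM hb in
theorem coe_rnorm (x : H) (χ : Cfsg.IrrCharacter G) :
    (rnorm p b x χ : ℂ) = cX p b x χ χ := by
  have hp0 : (p : ℂ) ^ Cfsg.blockDefect p b ≠ 0 :=
    pow_ne_zero _ (Nat.cast_ne_zero.mpr (Fact.out : p.Prime).ne_zero)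
  rw [rnorm]
  push_cast
  rw [div_eq_iff hp0, mul_comm, ← sum_rowq_conj hM hb x χ χ]
  exact Finset.sum_congr rfl fun ζ _ => (Complex.mul_conj _).symm

include hM hb in
theorem rnorm_pos {x : H} {χ ψ : Cfsg.IrrCharacter G} (h : cX p b x χ ψ ≠ 0) :
    0 < rnorm p b x χ := by
  refine div_pos (Finset.sum_pos' (fun ζ _ => Complex.normSq_nonneg _) ?_)
    (pow_pos (Nat.cast_pos.mpr (Fact.out : p.Prime).pos) _)
  by_contra hno
  push Not at hno
  apply h
  rw [cX]
  refine Finset.sum_eq_zero fun ζ hζ => ?_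
  rw [Complex.normSq_eq_zero.mp (le_antisymm (hno ζ hζ) (Complex.normSq_nonneg _)), zero_mul]

include hM in
open scoped Classical in
/-- The contributions of distinct blocks at one element sum to at most the whole section. -/
theorem sum_rnorm_le {x : H} (hx : Pelt p x) (bs : Finset (Set (Cfsg.IrrCharacter H)))
    (hbs : ∀ b ∈ bs, Cfsg.IsPBlock M b) (χ : Cfsg.IrrCharacter G) :
    ∑ b ∈ bs, (p : ℝ) ^ minVdeg p b * rnorm p b x χ ≤
      (∑ s : H, if p ∣ orderOf s then 0 else Complex.normSq ((χ : G → ℂ) ((x : G) * (s : G)))) /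
        (primeToCard p H : ℝ) := by
  haveI := Fintype.ofFinite (Cfsg.IrrCharacter H)
  set q : ℝ := (p : ℝ) ^ (Nat.card H).factorization p with hq
  have hq0 : 0 < q := pow_pos (Nat.cast_pos.mpr (Fact.out : p.Prime).pos) _
  set R : Cfsg.IrrCharacter H → ℂ := fun η =>
    ∑ θ : Cfsg.IrrCharacter H, acoef x χ θ * (contribN p θ η : ℂ) with hR
  have hblock : ∀ b ∈ bs, ∑ η ∈ bset b, Complex.normSq (R η) =
      q * ((p : ℝ) ^ minVdeg p b * rnorm p b x χ) := by
    intro b hb'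
    have hb := hbs b hb'
    apply Complex.ofReal_injective
    push_cast
    rw [coe_rnorm hM hb, hq]
    push_cast
    rw [← minVdeg_add_blockDefect (p := p) hb, pow_add,
      show (p : ℂ) ^ minVdeg p b * (p : ℂ) ^ Cfsg.blockDefect p b *
        ((p : ℂ) ^ minVdeg p b * cX p b x χ χ) = (p : ℂ) ^ minVdeg p b * (p : ℂ) ^ minVdeg p b *
        ((p : ℂ) ^ Cfsg.blockDefect p b * cX p b x χ χ) by ring,
      ← sum_rowq_conj hM hb x χ χ, Finset.mul_sum]
    refine Finset.sum_congr rfl fun η hη => ?_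
    rw [← Complex.mul_conj, hR]
    dsimp only
    rw [sum_mul_contribN_bset hM hb _ (mem_bset.mp hη), ← row, ← pow_mul_rowq hM hb, map_mul,
      map_pow, map_natCast]
    ring
  have htot : ∑ η : Cfsg.IrrCharacter H, Complex.normSq (R η) = q *
      ((∑ s : H, if p ∣ orderOf s then 0 else Complex.normSq ((χ : G → ℂ) ((x : G) * (s : G)))) /
        (primeToCard p H : ℝ)) := by
    have hm : (primeToCard p H : ℂ) ≠ 0 := Nat.cast_ne_zero.mpr (primeToCard_pos p).ne'
    apply Complex.ofReal_injective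
    push_cast
    rw [hq]
    push_cast
    rw [← mul_div_assoc, eq_div_iff hm]
    calc (∑ η : Cfsg.IrrCharacter H, (Complex.normSq (R η) : ℂ)) * (primeToCard p H : ℂ)
        = ∑ θ : Cfsg.IrrCharacter H, ∑ θ' : Cfsg.IrrCharacter H,
            acoef x χ θ * conj (acoef x χ θ') * ((p : ℂ) ^ (Nat.card H).factorization p *
              regSum p (θ : H → ℂ) (θ' : H → ℂ)) := by
          simp only [← Complex.mul_conj, hR, map_sum, map_mul, map_intCast, Finset.sum_mul,
            Finset.mul_sum]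
          rw [Finset.sum_comm]
          refine Eq.trans ?_ Finset.sum_comm.symm
          refine Finset.sum_congr rfl fun θ' _ => ?_
          rw [Finset.sum_comm]
          refine Finset.sum_congr rfl fun θ _ => ?_
          have h := congrArg (fun z : ℤ => (z : ℂ)) (sum_contribN_mul p θ θ')
          push_cast at h
          rw [regSum_eq_contribN, show (p : ℂ) ^ (Nat.card H).factorization p *
            ((primeToCard p H : ℂ) * (contribN p θ θ' : ℂ)) = (primeToCard p H : ℂ) *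
              ((p : ℂ) ^ (Nat.card H).factorization p * (contribN p θ θ' : ℂ)) by ring, ← h,
            Finset.mul_sum, Finset.mul_sum]
          exact Finset.sum_congr rfl fun η _ => by rw [contribN_comm p θ' η]; ring
      _ = _ := by
          simp only [regSum_eq_sum, Finset.mul_sum]
          rw [Finset.sum_congr rfl fun θ _ => Finset.sum_comm, Finset.sum_comm]
          refine Finset.sum_congr rfl fun s _ => ?_
          split_ifs with hs
          · simp
          · push_cast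
            rw [← Complex.mul_conj, restrict_mul hx.commute, map_sum, Finset.sum_mul_sum,
              Finset.mul_sum]
            refine Finset.sum_congr rfl fun θ _ => ?_
            rw [Finset.mul_sum]
            refine Finset.sum_congr rfl fun θ' _ => ?_
            rw [map_mul, apply_inv (isCharacter_irr θ')]
            ring
  refine le_of_mul_le_mul_left ?_ hq0
  rw [← htot, Finset.mul_sum, ← Finset.sum_congr rfl hblock, ← Finset.sum_biUnion]
  · exact Finset.sum_le_sum_of_subset_of_nonneg (Finset.subset_univ _)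
      fun η _ _ => Complex.normSq_nonneg _
  · intro b₁ h₁ b₂ h₂ hne
    rw [Function.onFun, Finset.disjoint_left]
    intro η e₁ e₂
    exact hne ((isPBlock_eq_blockOf (hbs b₁ h₁) (mem_bset.mp e₁)).trans
      (isPBlock_eq_blockOf (hbs b₂ h₂) (mem_bset.mp e₂)).symm)

/-! ## The central element of a section -/

/-- The conjugate of the part of `c ↦ ψ(xc)` in the block. -/
noncomputable def fS (b : Set (Cfsg.IrrCharacter H)) (x : H) (ψ : Cfsg.IrrCharacter G) (s : H) :
    ℂ :=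
  ∑ ζ ∈ bset b, conj (acoef x ψ ζ) * (ζ : H → ℂ) s⁻¹

theorem fS_conj (b : Set (Cfsg.IrrCharacter H)) (x : H) (ψ : Cfsg.IrrCharacter G) (w s : H) :
    fS b x ψ (w⁻¹ * s * w) = fS b x ψ s := by
  refine Finset.sum_congr rfl fun ζ _ => ?_
  rw [show (w⁻¹ * s * w)⁻¹ = w⁻¹ * s⁻¹ * w by group]
  congr 1
  simpa using isClassFunction_irr ζ s⁻¹ w⁻¹

include hM hb in
theorem fS_mem {x : H} (hx : Pelt p x) (ψ : Cfsg.IrrCharacter G) (s : H) :
    fS b x ψ s ∈ localRing M := by
  classical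
  haveI := Fintype.ofFinite (Cfsg.IrrCharacter H)
  have e : fS b x ψ s = ∑ k : H, Cfsg.blockCoeff b k *
      (ψ : G → ℂ) (((x : G) * ((k⁻¹ * s : H) : G))⁻¹) := by
    have h1 : ∀ k : H, (ψ : G → ℂ) (((x : G) * ((k⁻¹ * s : H) : G))⁻¹) =
        ∑ θ : Cfsg.IrrCharacter H, conj (acoef x ψ θ) * (θ : H → ℂ) (s⁻¹ * k) := by
      intro k
      rw [apply_inv (isCharacter_irr ψ), restrict_mul hx.commute, map_sum]
      refine Finset.sum_congr rfl fun θ _ => ?_
      rw [map_mul, ← apply_inv (isCharacter_irr θ), mul_inv_rev, inv_inv]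
    simp only [h1, Finset.mul_sum]
    rw [Finset.sum_comm]
    simp only [mul_left_comm (Cfsg.blockCoeff b _), ← Finset.mul_sum, sum_blockCoeff_mul_apply,
      mul_ite, mul_zero]
    rw [← Finset.sum_filter, fS]
    exact Finset.sum_congr (by ext; simp) fun _ _ => rfl
  rw [e]
  exact sum_mem fun k _ => mul_mem (memLocalRing_blockCoeff hb k)
    (mem_localRing_of_isIntegral (isIntegral_apply (isCharacter_irr ψ) _))

include hM hb in
theorem sum_fS {x : H} (hx : Pelt p x) (χ ψ : Cfsg.IrrCharacter G) :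
    ∑ s : H, (if p ∣ orderOf s then 0 else fS b x ψ s * (χ : G → ℂ) ((x : G) * (s : G))) =
      (primeToCard p H : ℂ) * (p : ℂ) ^ minVdeg p b * cX p b x χ ψ := by
  classical
  haveI := Fintype.ofFinite (Cfsg.IrrCharacter H)
  rw [cX, Finset.mul_sum]
  rw [Finset.sum_congr rfl fun ζ hζ => show (primeToCard p H : ℂ) * (p : ℂ) ^ minVdeg p b *
      (rowq p b x χ ζ * conj (acoef x ψ ζ)) = conj (acoef x ψ ζ) *
      ((primeToCard p H : ℂ) * row p b x χ ζ) by rw [← pow_mul_rowq hM hb]; ring]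
  rw [Finset.sum_congr rfl fun ζ hζ => congrArg (conj (acoef x ψ ζ) * ·)
    (mul_row hM hb hx χ (mem_bset.mp hζ))]
  simp only [Finset.mul_sum, fS, Finset.sum_mul]
  rw [Finset.sum_comm (t := Finset.univ)]
  refine Finset.sum_congr rfl fun s _ => ?_
  split_ifs with hs
  · simp
  · exact Finset.sum_congr rfl fun ζ _ => by ring

include hM in
/-- The quotient by the height, with the congruence. -/
theorem div_pow_height {x : H} (hx : Pelt p x) {B : Set (Cfsg.IrrCharacter G)}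
    (hb : Cfsg.IsPBlock M b) (hB : Cfsg.IsPBlock M B)
    (hd : Cfsg.blockDefect p b = Cfsg.blockDefect p B)
    {χ φ : Cfsg.IrrCharacter G} (hχ : χ ∈ B) (hφ : φ ∈ B) (ψ : Cfsg.IrrCharacter G) :
    cX p b x χ ψ / (p : ℂ) ^ Cfsg.blockHeight p B (χ : G → ℂ) ∈ localRing M ∧
      Cfsg.MemLocalIdeal M
        (cX p b x χ ψ / (p : ℂ) ^ Cfsg.blockHeight p B (χ : G → ℂ) * (udeg p φ : ℂ) -
          cX p b x φ ψ / (p : ℂ) ^ Cfsg.blockHeight p B (φ : G → ℂ) * (udeg p χ : ℂ)) := by
  classical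
  have hp : p.Prime := Fact.out
  have hp0 : (p : ℂ) ≠ 0 := Nat.cast_ne_zero.mpr hp.ne_zero
  have hmG : (primeToCard p G : ℂ) ≠ 0 := Nat.cast_ne_zero.mpr (primeToCard_pos p).ne'
  let Φ : G → ℂ := fun g => if h : ∃ vs : G × H, ¬ p ∣ orderOf vs.2 ∧
      g = vs.1 * ((x : G) * (vs.2 : G)) * vs.1⁻¹ then fS b x ψ h.choose.2 else 0
  have hΦ : ∀ (v : G) (s : H), ¬ p ∣ orderOf s →
      Φ (v * ((x : G) * (s : G)) * v⁻¹) = fS b x ψ s := by
    intro v s hs
    have h : ∃ vs : G × H, ¬ p ∣ orderOf vs.2 ∧ v * ((x : G) * (s : G)) * v⁻¹ =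
      vs.1 * ((x : G) * (vs.2 : G)) * vs.1⁻¹ := ⟨(v, s), hs, rfl⟩
    simp only [Φ, dif_pos h]
    obtain ⟨w, -, h2⟩ := eq_of_conj_eq hx hs h.choose_spec.1 h.choose_spec.2
    rw [h2, fS_conj]
  have hΦ0 : ∀ g ∉ sec p x, Φ g = 0 := fun g hg =>
    dif_neg fun ⟨vs, hs, e⟩ => hg (mem_sec.mpr ⟨vs.1, vs.2, hs, e⟩)
  have hcl : Cfsg.IsClassFunction G Φ := by
    intro g u
    by_cases hg : g ∈ sec p x
    · obtain ⟨v, s, hs, rfl⟩ := mem_sec.mp hg
      rw [show u * (v * ((x : G) * (s : G)) * v⁻¹) * u⁻¹ =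
        (u * v) * ((x : G) * (s : G)) * (u * v)⁻¹ by group, hΦ _ _ hs, hΦ _ _ hs]
    · rw [hΦ0 _ hg, hΦ0]
      intro h
      obtain ⟨v, s, hs, e⟩ := mem_sec.mp h
      refine hg (mem_sec.mpr ⟨u⁻¹ * v, s, hs, ?_⟩)
      calc g = u⁻¹ * (u * g * u⁻¹) * u := by group
        _ = _ := by rw [e]; group
  have hmem : ∀ g, Φ g ∈ localRing M := fun g => by
    by_cases hg : g ∈ sec p x
    · obtain ⟨v, s, hs, rfl⟩ := mem_sec.mp hg
      rw [hΦ _ _ hs]
      exact fS_mem hM hb hx ψ s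
    · rw [hΦ0 _ hg]; exact zero_mem _
  have hom : ∀ θ ∈ B, (∑ g : G, Φ g * (θ : G → ℂ) g) / (θ : G → ℂ) 1 =
      (primeToCard p G : ℂ) * (cX p b x θ ψ / (p : ℂ) ^ Cfsg.blockHeight p B (θ : G → ℂ)) /
        (udeg p θ : ℂ) := by
    intro θ hθ
    have h1 := sum_sec hx (fun g => Φ g * (θ : G → ℂ) g)
    rw [Finset.sum_subset (Finset.subset_univ (sec p x)) fun g _ hg => by rw [hΦ0 g hg, zero_mul],
      nsmul_eq_mul] at h1
    have h2 : ∑ v : G, ∑ s : H, (if p ∣ orderOf s then 0 else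
        Φ (v * ((x : G) * (s : G)) * v⁻¹) * (θ : G → ℂ) (v * ((x : G) * (s : G)) * v⁻¹)) =
      (Nat.card G : ℂ) * ((primeToCard p H : ℂ) * (p : ℂ) ^ minVdeg p b * cX p b x θ ψ) := by
      rw [← sum_fS hM hb hx θ ψ, Nat.card_eq_fintype_card, ← nsmul_eq_mul, ← Finset.card_univ,
        ← Finset.sum_const]
      refine Finset.sum_congr rfl fun v _ => Finset.sum_congr rfl fun s _ => ?_
      split_ifs with hs
      · rfl
      · rw [hΦ v s hs, isClassFunction_irr θ]
    rw [h2, ← Nat.card_eq_fintype_card (α := H), natCast_card_eq p H,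
      ← minVdeg_add_blockDefect (p := p) hb, hd, natCast_card_eq p G,
      ← minVdeg_add_blockDefect (p := p) hB] at h1
    have hv : vdeg p θ = minVdeg p B + Cfsg.blockHeight p B (θ : G → ℂ) := by
      have := minVdeg_le (p := p) hθ
      rw [Contrib.blockHeight_eq]
      omega
    have hmH : (primeToCard p H : ℂ) ≠ 0 := Nat.cast_ne_zero.mpr (primeToCard_pos p).ne'
    have hu : (udeg p θ : ℂ) ≠ 0 := Nat.cast_ne_zero.mpr (udeg_ne_zero hp θ)
    rw [apply_one_eq p θ, hv]
    field_simp at h1 ⊢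
    simp only [pow_add] at h1 ⊢
    push_cast at h1 ⊢
    have hbb : (p : ℂ) ^ minVdeg p b ≠ 0 := pow_ne_zero _ hp0
    have hdd : (p : ℂ) ^ Cfsg.blockDefect p B ≠ 0 := pow_ne_zero _ hp0
    apply mul_left_cancel₀ (mul_ne_zero hbb hdd)
    linear_combination -((p : ℂ) ^ Cfsg.blockHeight p B (θ : G → ℂ)) * h1
  obtain ⟨hmemω, hcong⟩ := sum_div_mem (M := M) hcl hmem χ
  have hcong := hcong hB hχ φ hφ
  rw [hom χ hχ] at hmemω
  rw [hom χ hχ, hom φ hφ] at hcong
  have huχ : (udeg p χ : ℂ) ≠ 0 := Nat.cast_ne_zero.mpr (udeg_ne_zero hp χ)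
  have huφ : (udeg p φ : ℂ) ≠ 0 := Nat.cast_ne_zero.mpr (udeg_ne_zero hp φ)
  constructor
  · convert mul_mem hmemω (ratio_mem_localRing hM (udeg p χ) (primeToCard p G)
      (not_dvd_primeToCard hp)) using 1
    field_simp
  · convert memLocalIdeal_mul_right hcong (ratio_mem_localRing hM (udeg p χ * udeg p φ)
      (primeToCard p G) (not_dvd_primeToCard hp)) using 1
    push_cast
    field_simp

include hM in
theorem cX_ne_zero_height {x : H} (hx : Pelt p x) {B : Set (Cfsg.IrrCharacter G)}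
    (hind : Cfsg.IsInducedBlock M H b B) (hd : Cfsg.blockDefect p b = Cfsg.blockDefect p B)
    {χ χ₀ : Cfsg.IrrCharacter G} (hχ : χ ∈ B) (hχ₀ : χ₀ ∈ B) (h0 : vdeg p χ₀ = minVdeg p B) :
    cX p b x χ χ₀ ≠ 0 := by
  intro h
  have hp : p.Prime := Fact.out
  obtain ⟨-, h2⟩ := div_pow_height hM hx hind.1 hind.2.1 hd hχ hχ₀ χ₀
  have hh : Cfsg.blockHeight p B (χ₀ : G → ℂ) = 0 := by rw [Contrib.blockHeight_eq, h0, Nat.sub_self]
  rw [h, hh, zero_div, zero_mul, zero_sub, pow_zero, div_one] at h2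
  refine cX_not_mem hM hx hind hχ₀ hχ₀ h0 h0 ?_
  have hu : (udeg p χ : ℂ) ≠ 0 := Nat.cast_ne_zero.mpr (udeg_ne_zero hp χ)
  convert memLocalIdeal_mul_right h2 (mul_mem (neg_mem (one_mem _))
    (natCast_inv_mem_localRing hM (not_dvd_udeg hp χ))) using 1
  field_simp

/-- The centralizer of an element. -/
abbrev cz (g : G) : Subgroup G := Subgroup.centralizer (Subgroup.zpowers g : Set G)

/-- The element in its centralizer. -/
def xel (g : G) : cz g := ⟨g, Subgroup.le_centralizer _ (Subgroup.mem_zpowers g)⟩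

theorem pelt_xel {g : G} (hg : ∃ k, orderOf g = p ^ k) : Pelt p (xel g) := ⟨hg, rfl⟩

include hM in
/-- Sections with blocks of full defect inducing `B` are at most `p ^ (d - h)` in number. -/
theorem card_mul_pow_le {B : Set (Cfsg.IrrCharacter G)} (hB : Cfsg.IsPBlock M B)
    (T : Finset (Σ g : G, Set (Cfsg.IrrCharacter (cz g))))
    (hord : ∀ a ∈ T, ∃ k, orderOf a.1 = p ^ k)
    (hind : ∀ a ∈ T, Cfsg.IsInducedBlock M (cz a.1) a.2 B)
    (hdef : ∀ a ∈ T, Cfsg.blockDefect p a.2 = Cfsg.blockDefect p B)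
    (hconj : ∀ a ∈ T, ∀ a' ∈ T, IsConj a.1 a'.1 → a.1 = a'.1)
    {χ : Cfsg.IrrCharacter G} (hχ : χ ∈ B) :
    T.card * p ^ Cfsg.blockHeight p B (χ : G → ℂ) ≤ p ^ Cfsg.blockDefect p B := by
  classical
  have hp : p.Prime := Fact.out
  haveI : ∀ g : G, Fintype (cz g) := fun g => Fintype.ofFinite _
  obtain ⟨χ₀, hχ₀, h0⟩ := exists_height_zero (p := p) hB
  set S := (bset B).filter fun φ => vdeg p φ = vdeg p χ with hS
  have hSpos : 0 < S.card := Finset.card_pos.mpr
    ⟨χ, Finset.mem_filter.mpr ⟨mem_bset.mpr hχ, rfl⟩⟩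
  have hlow : ∀ a ∈ T, (p : ℝ) ^ Cfsg.blockHeight p B (χ : G → ℂ) * S.card ≤
      ∑ φ ∈ S, rnorm p a.2 (xel a.1) φ := by
    intro a ha
    have hx := pelt_xel (hord a ha)
    have hb := (hind a ha).1
    have hmem : ∀ φ : {φ // φ ∈ S}, φ.1 ∈ B ∧
        Cfsg.blockHeight p B (φ.1 : G → ℂ) = Cfsg.blockHeight p B (χ : G → ℂ) := fun φ => by
      obtain ⟨h1, h2⟩ := Finset.mem_filter.mp φ.2
      exact ⟨mem_bset.mp h1, by rw [Contrib.blockHeight_eq, Contrib.blockHeight_eq, h2]⟩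
    have hint : ∀ φ : {φ // φ ∈ S}, IsIntegral ℤ (rnorm p a.2 (xel a.1) φ.1 : ℂ) := fun φ => by
      rw [coe_rnorm hM hb]; exact isIntegral_cX hx.commute _ _
    have h := mul_card_le_sum hM (Cfsg.blockHeight p B (χ : G → ℂ))
      (fun φ : {φ // φ ∈ S} => rnorm p a.2 (xel a.1) φ.1) hint
      (fun φ => rnorm_pos hM hb
        (cX_ne_zero_height hM hx (hind a ha) (hdef a ha) (hmem φ).1 hχ₀ h0))
      (fun φ => by
        rw [coe_rnorm hM hb, ← (hmem φ).2]
        exact (div_pow_height hM hx hb hB (hdef a ha) (hmem φ).1 hχ₀ _).1)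
      (fun σ => by
        obtain ⟨k, hk, hreg, hσ⟩ := exists_twist hM hb hx σ
        have htw : ∀ φ : {φ // φ ∈ S}, twistChar hk φ.1 ∈ S := fun φ => by
          obtain ⟨h1, h2⟩ := Finset.mem_filter.mp φ.2
          refine Finset.mem_filter.mpr
            ⟨mem_bset.mpr (twistChar_mem hM hk hreg hB (mem_bset.mp h1)), ?_⟩
          rw [← h2]
          have hd1 : Cfsg.charDegree ((twistChar hk φ.1 : Cfsg.IrrCharacter G) : G → ℂ) =
              Cfsg.charDegree (φ.1 : G → ℂ) := by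
            rw [← @Nat.cast_inj ℂ, ← char_one_eq_degree, ← char_one_eq_degree]
            show (φ.1 : G → ℂ) (1 ^ k) = _
            rw [one_pow]
          simp only [vdeg, hd1]
        let e : {φ // φ ∈ S} → {φ // φ ∈ S} := fun φ => ⟨twistChar hk φ.1, htw φ⟩
        have he : Function.Injective e := fun φ φ' h =>
          Subtype.ext (twistChar_injective hk (congrArg Subtype.val h))
        refine ⟨Equiv.ofBijective e (Finite.injective_iff_bijective.mp he), fun φ => ?_⟩
        have hm := mem_alg_of_isIntegral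
          (isIntegral_cX (p := p) (b := a.2) hx.commute φ.1 φ.1)
        rw [show (⟨(rnorm p a.2 (xel a.1) φ.1 : ℂ), mem_alg_of_isIntegral (hint φ)⟩ : Alg) =
          ⟨_, hm⟩ from Subtype.ext (coe_rnorm hM hb _ _), hσ _ _ hm]
        exact (coe_rnorm hM hb _ _).symm)
    rw [Fintype.card_coe, Finset.sum_coe_sort S (fun φ => rnorm p a.2 (xel a.1) φ)] at h
    exact h
  have hup : ∀ φ : Cfsg.IrrCharacter G,
      ∑ a ∈ T, rnorm p a.2 (xel a.1) φ ≤ (p : ℝ) ^ Cfsg.blockDefect p B := by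
    intro φ
    set Gs := T.image Sigma.fst with hGs
    haveI : ∀ g : G, Fintype (Set (Cfsg.IrrCharacter (cz g))) := fun g => Fintype.ofFinite _
    set bs : (g : G) → Finset (Set (Cfsg.IrrCharacter (cz g))) := fun g =>
      Finset.univ.filter fun b' => (⟨g, b'⟩ : Σ g : G, Set (Cfsg.IrrCharacter (cz g))) ∈ T with hbs
    have hbmem : ∀ g, ∀ b' ∈ bs g, (⟨g, b'⟩ : Σ g : G, Set (Cfsg.IrrCharacter (cz g))) ∈ T :=
      fun g b' hb' => (Finset.mem_filter.mp hb').2
    have hTeq : T = Gs.sigma bs := by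
      ext ⟨g, b'⟩
      rw [Finset.mem_sigma]
      exact ⟨fun ha => ⟨Finset.mem_image_of_mem _ ha,
        Finset.mem_filter.mpr ⟨Finset.mem_univ _, ha⟩⟩, fun h => hbmem g b' h.2⟩
    rw [hTeq, Finset.sum_sigma]
    have hN : (Nat.card G : ℝ) = ∑ g : G, Complex.normSq ((φ : G → ℂ) g) := by
      apply Complex.ofReal_injective
      push_cast
      have h := classInner_irr φ φ
      rw [if_pos rfl, Cfsg.classInner,
        inv_mul_eq_one₀ (Nat.cast_ne_zero.mpr Nat.card_pos.ne')] at h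
      rw [h]
      exact Finset.sum_congr rfl fun g _ => Complex.mul_conj _
    have hGpos : (0 : ℝ) < Nat.card G := Nat.cast_pos.mpr Nat.card_pos
    have hg : ∀ g ∈ Gs, ∑ b' ∈ bs g, rnorm p b' (xel g) φ ≤ (p : ℝ) ^ Cfsg.blockDefect p B *
        ((∑ y ∈ sec p (xel g), Complex.normSq ((φ : G → ℂ) y)) / (Nat.card G : ℝ)) := by
      intro g hgs
      obtain ⟨a, ha, rfl⟩ := Finset.mem_image.mp hgs
      have hx := pelt_xel (hord a ha)
      have h1 := sum_rnorm_le hM hx (bs a.1) (fun b' hb' => (hind _ (hbmem _ b' hb')).1) φ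
      have hq0 : (0 : ℝ) < (p : ℝ) ^ Cfsg.blockDefect p B := pow_pos (Nat.cast_pos.mpr hp.pos) _
      have hm0 : (0 : ℝ) < (primeToCard p (cz a.1) : ℝ) :=
        Nat.cast_pos.mpr (primeToCard_pos p)
      have hpow : ∀ b' ∈ bs a.1, (p : ℝ) ^ minVdeg p b' =
          (p : ℝ) ^ (Nat.card (cz a.1)).factorization p / (p : ℝ) ^ Cfsg.blockDefect p B := by
        intro b' hb'
        rw [eq_div_iff hq0.ne', ← pow_add, ← hdef _ (hbmem _ b' hb'),
          minVdeg_add_blockDefect (hind _ (hbmem _ b' hb')).1]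
      rw [Finset.sum_congr rfl fun b' hb' => by rw [hpow b' hb'], ← Finset.mul_sum] at h1
      have h2 := sum_sec hx (fun y => Complex.normSq ((φ : G → ℂ) y))
      rw [nsmul_eq_mul, ← Nat.card_eq_fintype_card] at h2
      have h3 : ∑ v : G, ∑ s : cz a.1, (if p ∣ orderOf s then 0 else Complex.normSq
          ((φ : G → ℂ) (v * (((xel a.1 : cz a.1) : G) * (s : G)) * v⁻¹))) =
          (Nat.card G : ℝ) * ∑ s : cz a.1, (if p ∣ orderOf s then 0 else Complex.normSq
            ((φ : G → ℂ) (((xel a.1 : cz a.1) : G) * (s : G)))) := by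
        rw [Nat.card_eq_fintype_card, ← nsmul_eq_mul, ← Finset.card_univ, ← Finset.sum_const]
        exact Finset.sum_congr rfl fun v _ => Finset.sum_congr rfl fun s _ => by
          rw [isClassFunction_irr φ _ v]
      rw [h3, ← primeToCard_mul p (cz a.1)] at h2
      push_cast at h2
      rw [le_div_iff₀ hm0, div_mul_eq_mul_div, div_mul_eq_mul_div, div_le_iff₀ hq0] at h1
      rw [← mul_div_assoc, le_div_iff₀ hGpos]
      have hP0 : (0 : ℝ) < (p : ℝ) ^ (Nat.card (cz a.1)).factorization p :=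
        pow_pos (Nat.cast_pos.mpr hp.pos) _
      refine le_of_mul_le_mul_left ?_ (mul_pos hP0 hm0)
      calc (p : ℝ) ^ (Nat.card (cz a.1)).factorization p * (primeToCard p (cz a.1) : ℝ) *
            ((∑ b' ∈ bs a.1, rnorm p b' (xel a.1) φ) * (Nat.card G : ℝ))
          ≤ (p : ℝ) ^ Cfsg.blockDefect p B * ((Nat.card G : ℝ) *
              ∑ s : cz a.1, (if p ∣ orderOf s then 0 else Complex.normSq
                ((φ : G → ℂ) (((xel a.1 : cz a.1) : G) * (s : G))))) := by
            have := mul_le_mul_of_nonneg_left h1 hGpos.le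
            linarith
        _ = _ := by rw [h2]; ring
    refine (Finset.sum_le_sum hg).trans ?_
    rw [← Finset.mul_sum, ← Finset.sum_div]
    refine mul_le_of_le_one_right (pow_nonneg (Nat.cast_nonneg p) _) ?_
    rw [div_le_one hGpos, hN, ← Finset.sum_biUnion]
    · exact Finset.sum_le_sum_of_subset_of_nonneg (Finset.subset_univ _)
        fun g _ _ => Complex.normSq_nonneg _
    · intro g hg' g' hg'' hne
      obtain ⟨a, ha, rfl⟩ := Finset.mem_image.mp hg'
      obtain ⟨a', ha', rfl⟩ := Finset.mem_image.mp hg''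
      exact disjoint_sec (pelt_xel (hord a ha)) (pelt_xel (hord a' ha'))
        fun hc => hne (hconj a ha a' ha' hc)
  have h1 : (T.card : ℝ) * ((p : ℝ) ^ Cfsg.blockHeight p B (χ : G → ℂ) * S.card) ≤
      (S.card : ℝ) * (p : ℝ) ^ Cfsg.blockDefect p B := by
    refine le_trans ?_ ((Finset.sum_le_sum fun φ (_ : φ ∈ S) => hup φ).trans (by simp))
    rw [Finset.sum_comm, ← nsmul_eq_mul]
    exact Finset.card_nsmul_le_sum _ _ _ fun a ha => hlow a ha
  rw [← mul_assoc, mul_comm (S.card : ℝ)] at h1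
  exact_mod_cast le_of_mul_le_mul_right h1 (Nat.cast_pos.mpr hSpos)

end Cfsg.Agent.Lib.Blocks.SectionHeight
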