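import Cfsg.Agent.S0952
import Cfsg.Agent.Lib.Blocks.SecondMain

/-!
# Height zero characters

For an irreducible character `χ` the central element `∑ χ(g⁻¹) g` over the `p`-regular `g` is
killed by the central characters of the other blocks; modulo `M` it is not killed by the central
character of the block of `χ` when `χ` has height zero.  Restricted to a subgroup it is the
corresponding element of the restricted character, which gives Okuyama's criterion and with it
the third main theorem.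
-/

namespace Cfsg.Agent.Lib.Blocks

open MonoidAlgebra Cfsg.Agent.Lib.BrauerMap.Basic Cfsg.Agent.Lib.BrauerMap.ClassSum
open Cfsg.Agent.Lib.Characters.Basic
open scoped ComplexConjugate

universe u

variable {M : Ideal Cfsg.AlgInt} [M.IsMaximal] {p : ℕ} {G : Type u} [Group G] [Finite G]

omit [Finite G] in
theorem orderOf_conj_eq (u g : G) : orderOf (u * g * u⁻¹) = orderOf g :=
  (MulAut.conj u).orderOf_eq g

variable (M p) in
open scoped Classical in
/-- The element `∑ χ(g⁻¹) g`, the sum over the `p`-regular elements. -/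
noncomputable def regElt (χ : Cfsg.IrrCharacter G) :
    Subalgebra.center (localRing M) (MonoidAlgebra (localRing M) G) :=
  ofClassFun (fun g => if p ∣ orderOf g then 0 else ⟨(χ : G → ℂ) g⁻¹, char_mem_localRing χ g⁻¹⟩)
    (fun u g => by
      rw [orderOf_conj_eq]
      refine if_congr Iff.rfl rfl (Subtype.ext ?_)
      show (χ : G → ℂ) (u * g * u⁻¹)⁻¹ = _
      rw [show (u * g * u⁻¹)⁻¹ = u * g⁻¹ * u⁻¹ by group, char_conj_apply])

open scoped Classical in
theorem coe_coeff_regElt (χ : Cfsg.IrrCharacter G) (g : G) :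
    (((regElt M p χ).1.coeff g : localRing M) : ℂ) =
      if p ∣ orderOf g then 0 else (χ : G → ℂ) g⁻¹ := by
  rw [regElt, coeff_ofClassFun]
  split_ifs <;> rfl

open scoped Classical in
theorem coe_omegaR_regElt [Fintype G] (χ ξ : Cfsg.IrrCharacter G) :
    ((omegaR M ξ (regElt M p χ) : localRing M) : ℂ) =
      (∑ g : G, (if p ∣ orderOf g then 0 else (χ : G → ℂ) g) * conj ((ξ : G → ℂ) g)) /
        (ξ : G → ℂ) 1 := by
  rw [coe_omegaR, omega_apply, lin_apply]
  congr 1
  refine Fintype.sum_equiv (Equiv.inv G) _ _ fun g => ?_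
  rw [coeff_mapCenter]
  show (((regElt M p χ).1.coeff g : localRing M) : ℂ) * _ = _
  rw [coe_coeff_regElt, Equiv.inv_apply, orderOf_inv, ← apply_inv (isCharacter_irr ξ), inv_inv]

theorem omegaR_regElt_eq_zero (hM : Cfsg.IsPModular p M) {χ ξ : Cfsg.IrrCharacter G}
    (h : ξ ∉ Cfsg.blockOf M (χ : G → ℂ)) : omegaR M ξ (regElt M p χ) = 0 := by
  classical
  haveI := Fintype.ofFinite G
  haveI := Fact.mk hM.1
  refine Subtype.ext ?_
  rw [coe_omegaR_regElt]
  have h0 := Cfsg.Agent.S0952.result p M hM χ ξ h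
  rw [finsum_mem_eq_toFinset_sum, show Set.toFinset {x : G | ¬ p ∣ orderOf x} =
    Finset.univ.filter (fun x => ¬ p ∣ orderOf x) by ext; simp, Finset.sum_filter] at h0
  rw [Finset.sum_congr rfl fun g _ => show
    (if p ∣ orderOf g then 0 else (χ : G → ℂ) g) * conj ((ξ : G → ℂ) g) =
      if ¬ p ∣ orderOf g then (χ : G → ℂ) g * conj ((ξ : G → ℂ) g) else 0 by split_ifs <;> simp]
  rw [h0, zero_div]
  rfl

theorem omegaBar_regElt_eq_zero (hM : Cfsg.IsPModular p M) {χ ξ : Cfsg.IrrCharacter G}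
    (h : ξ ∉ Cfsg.blockOf M (χ : G → ℂ)) :
    omegaBar M ξ (mapCenter (residue M) (regElt M p χ)) = 0 := by
  rw [omegaBar_mapCenter, omegaR_regElt_eq_zero hM h, map_zero]

/-- The central character of the block does not kill `regElt` of a height zero character. -/
theorem omegaBar_regElt_ne_zero (hM : Cfsg.IsPModular p M) {χ : Cfsg.IrrCharacter G}
    (h0 : Cfsg.blockHeight p (Cfsg.blockOf M (χ : G → ℂ)) (χ : G → ℂ) = 0) :
    omegaBar M χ (mapCenter (residue M) (regElt M p χ)) ≠ 0 := by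
  classical
  intro hzero
  haveI := Fintype.ofFinite G
  haveI := Fintype.ofFinite (Cfsg.IrrCharacter G)
  haveI := Fact.mk hM.1
  set B := Cfsg.blockOf M (χ : G → ℂ) with hBdef
  have hB : Cfsg.IsPBlock M B := isPBlock_blockOf χ
  obtain ⟨D, hD⟩ := exists_isDefectGroup (p := p) hB
  obtain ⟨P⟩ : Nonempty (Sylow p G) := inferInstance
  haveI := Fintype.ofFinite (P : Subgroup G)
  set e := D.index.factorization p with he
  have hdiv : ∀ ξ ∈ B, ((Cfsg.charDegree (ξ : G → ℂ) / p ^ e : ℕ) : ℂ) * (p : ℂ) ^ e =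
      (ξ : G → ℂ) 1 := fun ξ hξ => by
    rw [char_one_eq_degree]
    exact_mod_cast Nat.div_mul_cancel (pow_dvd_charDegree hM hB hD hξ)
  set m := fun ξ : Cfsg.IrrCharacter G => Cfsg.charDegree (ξ : G → ℂ) / p ^ e with hm
  have hmχ : ¬ p ∣ m χ := by
    intro hdvd
    have hle : (Cfsg.charDegree (χ : G → ℂ)).factorization p ≤ e := by
      rw [blockHeight_eq hM hB hD] at h0
      exact Nat.sub_eq_zero_iff_le.mp h0
    have h1 : p ^ (e + 1) ∣ Cfsg.charDegree (χ : G → ℂ) := by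
      rw [← Nat.div_mul_cancel (pow_dvd_charDegree hM hB hD (mem_blockOf_self χ)), pow_succ',
        ← he]
      exact mul_dvd_mul_right hdvd _
    have := (hM.1.pow_dvd_iff_le_factorization (charDegree_pos χ).ne').mp h1
    omega
  have hP : (Nat.card (P : Subgroup G) : ℂ) ≠ 0 := Nat.cast_ne_zero.mpr Nat.card_pos.ne'
  have hG : (Nat.card G : ℂ) =
      (Nat.card (P : Subgroup G) : ℂ) * ((P : Subgroup G).index : ℂ) := by
    rw [← (P : Subgroup G).index_mul_card]
    push_cast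
    ring
  set φ : G → ℂ := fun g => if p ∣ orderOf g then 0 else (χ : G → ℂ) g with hφ
  have hφc : Cfsg.IsClassFunction G φ := fun g h => by
    simp only [hφ, orderOf_conj_eq, char_conj_apply]
  have hsum : ∑ u : (P : Subgroup G), φ u = (χ : G → ℂ) 1 := by
    rw [Finset.sum_eq_single (1 : (P : Subgroup G))]
    · simp [hφ, hM.1.ne_one]
    · intro u _ hu
      obtain ⟨k, hk⟩ := IsPGroup.iff_orderOf.mp P.2 u
      rw [← Subgroup.orderOf_coe] at hk
      have hk0 : k ≠ 0 := fun h => hu (Subtype.ext (orderOf_eq_one_iff.mp (by simp [hk, h])))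
      simp [hφ, hk, dvd_pow_self p hk0]
    · exact fun h => absurd (Finset.mem_univ _) h
  set c := fun ξ : Cfsg.IrrCharacter G => ((omegaR M ξ (regElt M p χ) : localRing M) : ℂ)
  have hc : ∀ ξ : Cfsg.IrrCharacter G, Cfsg.classInner φ (ξ : G → ℂ) * (Nat.card G : ℂ) = c ξ * (ξ : G → ℂ) 1 := by
    intro ξ
    simp only [c]
    rw [coe_omegaR_regElt, div_mul_cancel₀ _ (char_one_ne_zero ξ), Cfsg.classInner, mul_comm,
      ← mul_assoc, mul_inv_cancel₀ (Nat.cast_ne_zero.mpr Nat.card_pos.ne'), one_mul]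
  set t := fun ξ : Cfsg.IrrCharacter G =>
    (Nat.card (P : Subgroup G) : ℂ)⁻¹ * ∑ u : (P : Subgroup G), (ξ : G → ℂ) ((1 : G) * u)
  have ht : ∀ ξ, t ξ ∈ localRing M := fun ξ =>
    mem_localRing_of_isIntegral (isIntegral_average_coset ξ _ (Subgroup.one_mem _))
  have hc0 : ∀ ξ, ξ ∉ B → c ξ = 0 := fun ξ hξ => by
    simp only [c, omegaR_regElt_eq_zero hM hξ]
    rfl
  have hcM : ∀ ξ, Cfsg.MemLocalIdeal M (c ξ) := by
    intro ξ
    by_cases hξ : ξ ∈ B
    · refine residue_eq_zero_iff.mp ?_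
      rw [← omegaBar_mapCenter, ← omegaBar_eq_of_mem hB (mem_blockOf_self χ) hξ]
      exact hzero
    · rw [hc0 ξ hξ]
      exact memLocalIdeal_zero
  have hmain : (p : ℂ) ^ e * ((m χ : ℂ) * ((P : Subgroup G).index : ℂ)) =
      (p : ℂ) ^ e * ∑ ξ : Cfsg.IrrCharacter G, c ξ * ((m ξ : ℂ) * t ξ) := by
    rw [← mul_assoc, mul_comm _ (m χ : ℂ), hdiv χ (mem_blockOf_self χ), Finset.mul_sum]
    apply mul_left_cancel₀ hP
    rw [mul_comm ((χ : G → ℂ) 1), ← mul_assoc, ← hG, ← hsum]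
    conv_lhs =>
      rw [Cfsg.Agent.Lib.Characters.Complete.classFunction_eq_sum hφc]
    simp only [Finset.sum_apply, Pi.smul_apply, smul_eq_mul, Finset.mul_sum]
    rw [Finset.sum_comm]
    refine Finset.sum_congr rfl fun ξ _ => ?_
    by_cases hξ : ξ ∈ B
    · simp only [t, one_mul]
      rw [show (Nat.card (P : Subgroup G) : ℂ) * ((p : ℂ) ^ e * (c ξ * ((m ξ : ℂ) *
          ((Nat.card (P : Subgroup G) : ℂ)⁻¹ * ∑ u : (P : Subgroup G), (ξ : G → ℂ) u)))) =
        (c ξ * ((m ξ : ℂ) * (p : ℂ) ^ e)) *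
          ((Nat.card (P : Subgroup G) : ℂ) * (Nat.card (P : Subgroup G) : ℂ)⁻¹) *
            ∑ u : (P : Subgroup G), (ξ : G → ℂ) u by ring,
        mul_inv_cancel₀ hP, mul_one, hdiv ξ hξ, ← hc, Finset.mul_sum]
      exact Finset.sum_congr rfl fun u _ => by ring
    · have h1 := hc ξ
      rw [hc0 ξ hξ, zero_mul, mul_eq_zero] at h1
      have h2 := h1.resolve_right (Nat.cast_ne_zero.mpr Nat.card_pos.ne')
      simp [h2, hc0 ξ hξ]
  have h3 := mul_left_cancel₀ (pow_ne_zero e (Nat.cast_ne_zero.mpr hM.1.ne_zero)) hmain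
  have hmem : Cfsg.MemLocalIdeal M ((m χ * (P : Subgroup G).index : ℕ) : ℂ) := by
    push_cast
    rw [h3]
    exact memLocalIdeal_sum _ fun ξ _ => memLocalIdeal_mul_right (hcM ξ)
      (mul_mem (natCast_mem _ _) (ht ξ))
  rw [memLocalIdeal_natCast_iff hM] at hmem
  exact (hM.1.dvd_mul.mp hmem).elim hmχ P.not_dvd_index

theorem resCenter_regElt {H : Subgroup G} (χ : Cfsg.IrrCharacter G) (ψ : Cfsg.IrrCharacter H)
    (hres : ∀ h : H, (χ : G → ℂ) h = (ψ : H → ℂ) h) :
    resCenter H (mapCenter (residue M) (regElt M p χ)) =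
      mapCenter (residue M) (regElt M p ψ) := by
  classical
  refine Subtype.ext (MonoidAlgebra.coeff_injective (Finsupp.ext fun h => ?_))
  rw [coeff_resCenter, coeff_mapCenter, coeff_mapCenter]
  refine congrArg (residue M) (Subtype.ext ?_)
  rw [coe_coeff_regElt, coe_coeff_regElt, Subgroup.orderOf_coe, ← hres]
  rfl

/-- Okuyama's criterion. -/
theorem isInducedBlock_iff_of_heightZero (hM : Cfsg.IsPModular p M) {H : Subgroup G}
    {χ : Cfsg.IrrCharacter G} {ψ : Cfsg.IrrCharacter H}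
    (hres : ∀ h : H, (χ : G → ℂ) h = (ψ : H → ℂ) h)
    (hχ0 : Cfsg.blockHeight p (Cfsg.blockOf M (χ : G → ℂ)) (χ : G → ℂ) = 0)
    (hψ0 : Cfsg.blockHeight p (Cfsg.blockOf M (ψ : H → ℂ)) (ψ : H → ℂ) = 0)
    {e : Set (Cfsg.IrrCharacter H)} (he : Cfsg.InducedBlockDefined M H e) :
    Cfsg.IsInducedBlock M H e (Cfsg.blockOf M (χ : G → ℂ)) ↔
      e = Cfsg.blockOf M (ψ : H → ℂ) := by
  obtain ⟨B', hind⟩ := he
  have key : ∀ {B : Set (Cfsg.IrrCharacter G)}, Cfsg.IsInducedBlock M H e B →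
      ∀ ξ ∈ e, ∀ φ ∈ B, omegaBar M ξ (mapCenter (residue M) (regElt M p ψ)) =
        omegaBar M φ (mapCenter (residue M) (regElt M p χ)) := by
    intro B hB ξ hξ φ hφ
    rw [← inducedBar_eq_omegaBar hB hξ hφ, ← resCenter_regElt χ ψ hres]
    rfl
  obtain ⟨ξ, hξ⟩ := isPBlock_nonempty hind.1
  constructor
  · intro h
    have h1 := key h ξ hξ χ (mem_blockOf_self χ)
    by_contra hne
    refine omegaBar_regElt_ne_zero hM hχ0 (h1.symm.trans (omegaBar_regElt_eq_zero hM ?_))
    intro hξψ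
    exact hne ((isPBlock_eq_blockOf hind.1 hξ).trans (blockOf_eq_of_mem hξψ))
  · intro heq
    obtain ⟨φ, hφ⟩ := isPBlock_nonempty hind.2.1
    have hψe : ψ ∈ e := by rw [heq]; exact mem_blockOf_self ψ
    have h1 := key hind ψ hψe φ hφ
    have hφB : φ ∈ Cfsg.blockOf M (χ : G → ℂ) := by
      by_contra hn
      exact omegaBar_regElt_ne_zero hM hψ0 (h1.trans (omegaBar_regElt_eq_zero hM hn))
    rwa [(blockOf_eq_of_mem hφB).symm, ← isPBlock_eq_blockOf hind.2.1 hφ]

theorem blockHeight_oneChar :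
    Cfsg.blockHeight p (Cfsg.blockOf M (oneChar G : G → ℂ)) (oneChar G : G → ℂ) = 0 := by
  have h : Cfsg.charDegree (oneChar G : G → ℂ) = 1 := by
    rw [Cfsg.charDegree, oneChar_apply]
    simp
  simp [Cfsg.blockHeight, h]

end Cfsg.Agent.Lib.Blocks
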