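import Cfsg.Prelude.Def_BlockRank
import Cfsg.Agent.Lib.Brauer.Monomial
import Cfsg.Agent.Lib.BC78.Galois
import Cfsg.Agent.Lib.Blocks.LocalRing
import Cfsg.Agent.Lib.Characters.Complete
import Cfsg.Agent.Lib.Characters.Degree
import Cfsg.Agent.Lib.Cores.Basic
import Cfsg.Agent.Lib.H80.ClassMult

/-!
# The regular inner products of irreducible characters

`regSum p χ ψ = ∑ χ g * ψ g⁻¹` over the `p`-regular `g`.  It is a rational integer divisible by
the `p'`-part of the group order; `contribN p χ ψ` is the quotient, so that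
`contribN p χ ψ / p ^ a` is the inner product of the regular restriction of `χ` with `ψ`.
-/

namespace Cfsg.Agent.Lib.Blocks.Contrib

open Cfsg.Agent.Lib.Characters.Basic Cfsg.Agent.Lib.Characters.Complete
open scoped ComplexConjugate

universe u

variable {G : Type u} [Group G]

/-- In a nilpotent group the `p`-regular elements form a subgroup of `p`-power index. -/
theorem exists_regular_subgroup [Finite G] [Group.IsNilpotent G] (p : ℕ) [Fact p.Prime] :
    ∃ Q : Subgroup G, (∀ g : G, g ∈ Q ↔ ¬ p ∣ orderOf g) ∧ ∃ t : ℕ, Q.index = p ^ t := by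
  have hp : p.Prime := Fact.out
  set Q := Cfsg.pPrimeCore p G
  have hQ : ¬ p ∣ Nat.card Q := Cfsg.Agent.Lib.Cores.not_dvd_card_pPrimeCore p
  haveI hQn : Q.Normal := Cfsg.pPrimeCore_normal p G
  have hidx : ∀ q : ℕ, q.Prime → q ∣ Q.index → q = p := by
    intro q hq hd
    by_contra hne
    haveI := Fact.mk hq
    obtain ⟨S⟩ : Nonempty (Sylow q G) := inferInstance
    haveI : (S : Subgroup G).Normal := inferInstance
    have hle : (S : Subgroup G) ≤ Q := Cfsg.Agent.Lib.Cores.le_pPrimeCore (by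
      obtain ⟨n, hn⟩ := IsPGroup.iff_card.mp S.2
      rw [hn]
      exact Nat.Coprime.pow_left n ((Nat.coprime_primes hq hp).mpr hne))
    exact S.not_dvd_index (hd.trans (Subgroup.index_dvd_of_le hle))
  have hpow : ∃ t : ℕ, Q.index = p ^ t :=
    ⟨_, Nat.eq_prime_pow_of_unique_prime_dvd Subgroup.index_ne_zero_of_finite
      fun {q} hq hd => hidx q hq hd⟩
  refine ⟨Q, fun g => ⟨fun hg hd => hQ (hd.trans (Q.orderOf_dvd_natCard hg)), fun hg => ?_⟩, hpow⟩
  obtain ⟨t, ht⟩ := hpow
  rw [← QuotientGroup.eq_one_iff, ← orderOf_eq_one_iff]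
  refine Nat.eq_one_of_dvd_coprimes (Nat.Coprime.pow_left t ((hp.coprime_iff_not_dvd).mpr hg)) ?_
    (orderOf_map_dvd (QuotientGroup.mk' Q) g)
  rw [← ht, Subgroup.index_eq_card]
  exact orderOf_dvd_natCard _

/-- The `p'`-part of the group order. -/
noncomputable def primeToCard (p : ℕ) (G : Type u) [Group G] : ℕ :=
  Nat.card G / p ^ (Nat.card G).factorization p

theorem primeToCard_mul (p : ℕ) (G : Type u) [Group G] :
    p ^ (Nat.card G).factorization p * primeToCard p G = Nat.card G :=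
  Nat.ordProj_mul_ordCompl_eq_self _ _

theorem not_dvd_primeToCard [Finite G] {p : ℕ} (hp : p.Prime) : ¬ p ∣ primeToCard p G :=
  Nat.not_dvd_ordCompl hp Nat.card_pos.ne'

theorem primeToCard_pos [Finite G] (p : ℕ) : 0 < primeToCard p G :=
  Nat.ordCompl_pos p Nat.card_pos.ne'

theorem natCast_card_eq (p : ℕ) (G : Type u) [Group G] :
    (Nat.card G : ℂ) = (p : ℂ) ^ (Nat.card G).factorization p * (primeToCard p G : ℂ) := by
  exact_mod_cast (primeToCard_mul p G).symm

/-- The sum of a character over the `p`-regular elements is divisible by the `p'`-part of the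
group order. -/
theorem isIntegral_sum_regular [Fintype G] (p : ℕ) [Fact p.Prime] {θ : G → ℂ}
    (hθ : Cfsg.IsCharacter G θ) :
    IsIntegral ℤ ((∑ g : G, if p ∣ orderOf g then 0 else θ g) / (primeToCard p G : ℂ)) := by
  classical
  have hmem := Cfsg.Agent.Lib.Brauer.Monomial.char_mem hθ
  clear hθ
  induction hmem using Submodule.span_induction with
  | mem x hx =>
    obtain ⟨E, ⟨q, hq, hE⟩, l, rfl⟩ := hx
    letI := Fintype.ofFinite E
    haveI := Cfsg.Agent.Lib.Brauer.Monomial.isNilpotent_of_elementary hq hE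
    obtain ⟨Q, hQ, t, ht⟩ := exists_regular_subgroup (G := E) p
    letI := Fintype.ofFinite Q
    set f : G → ℂ := fun g => if p ∣ orderOf g then 0 else 1
    have hf : Cfsg.IsClassFunction G f := fun g h => by
      simp only [f]
      rw [show h * g * h⁻¹ = MulAut.conj h g from rfl,
        (MulAut.conj h).orderOf_eq g]
    have h1 : ∑ g : G, (if p ∣ orderOf g then 0 else Cfsg.indFun E l g) =
        (E.index : ℂ) * ∑ e : Q, l (e : E) := by
      have hs := Cfsg.Agent.Lib.Induced.Basic.sum_indFun_mul E l hf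
      rw [Finset.sum_congr rfl fun g _ => show (if p ∣ orderOf g then 0 else Cfsg.indFun E l g) =
        Cfsg.indFun E l g * f g by simp only [f]; split_ifs <;> simp]
      refine hs.trans (congrArg _ ?_)
      rw [← Finset.sum_subtype (Finset.univ.filter fun e : E => e ∈ Q) (fun e => by simp)
        (fun e : E => l e), Finset.sum_filter]
      refine Finset.sum_congr rfl fun e _ => ?_
      simp only [f, Subgroup.orderOf_coe]
      by_cases hd : p ∣ orderOf e
      · rw [if_pos hd, if_neg (fun he => (hQ e).mp he hd), mul_zero]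
      · rw [if_neg hd, if_pos ((hQ e).mpr hd), mul_one]
    obtain ⟨n, hn⟩ := exists_classInner_nat
      (Cfsg.Agent.Lib.Brauer.Elementary.isCharacter_hom (l.comp Q.subtype))
      (isCharacter_one (G := Q))
    have h2 : ∑ e : Q, l (e : E) = (Nat.card Q : ℂ) * n := by
      rw [← hn, Cfsg.classInner, ← mul_assoc,
        mul_inv_cancel₀ (Nat.cast_ne_zero.mpr Nat.card_pos.ne'), one_mul]
      simp
    obtain ⟨c, hc⟩ : primeToCard p G ∣ E.index * Nat.card Q := by
      have h3 : E.index * Nat.card Q * p ^ t = Nat.card G := by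
        rw [mul_assoc, ← ht, Subgroup.card_mul_index, mul_comm, Subgroup.card_mul_index]
      have h4 : primeToCard p G ∣ E.index * Nat.card Q * p ^ t :=
        h3 ▸ ⟨_, (primeToCard_mul p G).symm.trans (mul_comm _ _)⟩
      exact (Nat.Coprime.pow_right t (((Fact.out : p.Prime).coprime_iff_not_dvd.mpr
        (not_dvd_primeToCard Fact.out)).symm)).dvd_of_dvd_mul_right h4
    rw [h1, h2, ← mul_assoc, ← Nat.cast_mul, hc, Nat.cast_mul, mul_assoc,
      mul_div_cancel_left₀ _ (Nat.cast_ne_zero.mpr (primeToCard_pos p).ne'), ← Nat.cast_mul]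
    exact isIntegral_algebraMap (x := ((c * n : ℕ) : ℤ))
  | zero => simpa using isIntegral_zero
  | add x y _ _ h1 h2 =>
    have h := h1.add h2
    rw [← add_div, ← Finset.sum_add_distrib] at h
    rw [Finset.sum_congr rfl fun g _ => show (if p ∣ orderOf g then (0 : ℂ) else (x + y) g) =
      (if p ∣ orderOf g then 0 else x g) + (if p ∣ orderOf g then 0 else y g) by
        split_ifs <;> simp]
    exact h
  | smul r x _ hx =>
    have h := (isIntegral_algebraMap (R := ℤ) (A := ℂ) (x := r)).mul hx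
    rw [← mul_div_assoc, Finset.mul_sum] at h
    rw [Finset.sum_congr rfl fun g _ => show (if p ∣ orderOf g then (0 : ℂ) else (r • x) g) =
      algebraMap ℤ ℂ r * (if p ∣ orderOf g then 0 else x g) by
        split_ifs <;> simp [zsmul_eq_mul]]
    exact h

/-! ## `regSum` and `contribN` -/

/-- The sum of `χ g * ψ g⁻¹` over the `p`-regular elements. -/
noncomputable def regSum (p : ℕ) (χ ψ : G → ℂ) : ℂ :=
  ∑ᶠ g : G, if p ∣ orderOf g then 0 else χ g * ψ g⁻¹

theorem regSum_eq_sum [Fintype G] (p : ℕ) (χ ψ : G → ℂ) :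
    regSum p χ ψ = ∑ g : G, if p ∣ orderOf g then 0 else χ g * ψ g⁻¹ :=
  finsum_eq_sum_of_fintype _

theorem regSum_comm [Finite G] (p : ℕ) (χ ψ : G → ℂ) : regSum p χ ψ = regSum p ψ χ := by
  letI := Fintype.ofFinite G
  rw [regSum_eq_sum, regSum_eq_sum]
  exact Fintype.sum_equiv (Equiv.inv G) _ _ fun g => by simp [mul_comm]

theorem exists_int_regSum [Finite G] (p : ℕ) [Fact p.Prime] (χ ψ : Cfsg.IrrCharacter G) :
    ∃ n : ℤ, regSum p (χ : G → ℂ) (ψ : G → ℂ) = (primeToCard p G : ℂ) * n := by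
  classical
  letI := Fintype.ofFinite G
  have hm : (primeToCard p G : ℂ) ≠ 0 := Nat.cast_ne_zero.mpr (primeToCard_pos p).ne'
  set z := regSum p (χ : G → ℂ) (ψ : G → ℂ) / (primeToCard p G : ℂ) with hzdef
  have hz : IsIntegral ℤ z := by
    have h := isIntegral_sum_regular p
      (isCharacter_mul (isCharacter_irr χ) (isCharacter_conj (isCharacter_irr ψ)))
    rw [hzdef, regSum_eq_sum]
    convert h using 6 with g
    rw [Pi.mul_apply, apply_inv (isCharacter_irr ψ)]
  have hint : ∀ (θ : Cfsg.IrrCharacter G) (g : G),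
      (θ : G → ℂ) g ∈ Cfsg.Agent.Lib.BC78.Galois.Alg := fun θ g =>
    Cfsg.Agent.Lib.BC78.Galois.mem_alg_of_isIntegral (isIntegral_apply (isCharacter_irr θ) g)
  have hfix : ∀ σ : Cfsg.Agent.Lib.BC78.Galois.Alg ≃ₐ[ℚ] Cfsg.Agent.Lib.BC78.Galois.Alg, ((σ ⟨z, Cfsg.Agent.Lib.BC78.Galois.mem_alg_of_isIntegral hz⟩ :
      Cfsg.Agent.Lib.BC78.Galois.Alg) : ℂ) = z := by
    intro σ
    obtain ⟨k, hk, hσ⟩ := Cfsg.Agent.Lib.BC78.Galois.exists_exponent_char (G := G) σ
    let F : G → Cfsg.Agent.Lib.BC78.Galois.Alg := fun g =>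
      if p ∣ orderOf g then 0 else ⟨_, hint χ g⟩ * ⟨_, hint ψ g⁻¹⟩
    have hcoe : (⟨z, Cfsg.Agent.Lib.BC78.Galois.mem_alg_of_isIntegral hz⟩ :
        Cfsg.Agent.Lib.BC78.Galois.Alg) = (∑ g : G, F g) / (primeToCard p G) := by
      apply Subtype.ext
      push_cast
      rw [hzdef, regSum_eq_sum]
      refine congrArg (· / _) (Finset.sum_congr rfl fun g _ => ?_)
      simp only [F]
      split_ifs <;> simp
    rw [hcoe, map_div₀, map_natCast, map_sum]
    push_cast
    rw [hzdef, regSum_eq_sum]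
    refine congrArg (· / _) ?_
    refine Fintype.sum_equiv (powCoprime (G := G) hk.symm) _ _ fun g => ?_
    have hord : orderOf (g ^ k) = orderOf g :=
      (Nat.Coprime.of_dvd_left (orderOf_dvd_natCard g) hk.symm).orderOf_pow
    simp only [F, powCoprime_apply]
    by_cases hd : p ∣ orderOf g
    · rw [if_pos hd, if_pos (hord.symm ▸ hd), map_zero]
      rfl
    · rw [if_neg hd, if_neg (hord.symm ▸ hd), map_mul]
      push_cast
      rw [hσ _ (isCharacter_irr χ), hσ _ (isCharacter_irr ψ), inv_pow]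
  obtain ⟨n, hn⟩ := Cfsg.Agent.Lib.BC78.Galois.exists_int_of_fixed hz hfix
  exact ⟨n, by rw [hn, hzdef, mul_div_cancel₀ _ hm]⟩

/-- `regSum` divided by the `p'`-part of the group order, as an integer. -/
noncomputable def contribN (p : ℕ) (χ ψ : Cfsg.IrrCharacter G) : ℤ :=
  Classical.epsilon fun n : ℤ => regSum p (χ : G → ℂ) (ψ : G → ℂ) = (primeToCard p G : ℂ) * n

theorem regSum_eq_contribN [Finite G] (p : ℕ) [Fact p.Prime] (χ ψ : Cfsg.IrrCharacter G) :
    regSum p (χ : G → ℂ) (ψ : G → ℂ) = (primeToCard p G : ℂ) * contribN p χ ψ :=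
  Classical.epsilon_spec (exists_int_regSum p χ ψ)

theorem contribN_comm [Finite G] (p : ℕ) [Fact p.Prime] (χ ψ : Cfsg.IrrCharacter G) :
    contribN p χ ψ = contribN p ψ χ := by
  have h := regSum_eq_contribN p χ ψ
  rw [regSum_comm, regSum_eq_contribN p ψ χ] at h
  exact_mod_cast (mul_left_cancel₀ (Nat.cast_ne_zero.mpr (primeToCard_pos (G := G) p).ne') h).symm

/-- The expansion of the regular restriction of an irreducible character. -/
theorem sum_contribN_apply [Finite G] [Fintype (Cfsg.IrrCharacter G)] (p : ℕ) [Fact p.Prime]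
    (χ : Cfsg.IrrCharacter G) (g : G) :
    ∑ φ : Cfsg.IrrCharacter G, (contribN p χ φ : ℂ) * (φ : G → ℂ) g =
      (p : ℂ) ^ (Nat.card G).factorization p * (if p ∣ orderOf g then 0 else (χ : G → ℂ) g) := by
  classical
  letI := Fintype.ofFinite G
  set θ : G → ℂ := fun x => if p ∣ orderOf x then 0 else (χ : G → ℂ) x
  have hθ : Cfsg.IsClassFunction G θ := fun x h => by
    simp only [θ]
    rw [isClassFunction_irr χ x h, show h * x * h⁻¹ = MulAut.conj h x from rfl,
      (MulAut.conj h).orderOf_eq x]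
  have key : ∀ φ : Cfsg.IrrCharacter G,
      (contribN p χ φ : ℂ) = (p : ℂ) ^ (Nat.card G).factorization p *
        Cfsg.classInner θ (φ : G → ℂ) := by
    intro φ
    have h := regSum_eq_contribN p χ φ
    rw [regSum_eq_sum] at h
    have hs : ∑ x : G, θ x * conj ((φ : G → ℂ) x) = (primeToCard p G : ℂ) * contribN p χ φ := by
      rw [← h]
      refine Finset.sum_congr rfl fun x _ => ?_
      simp only [θ]
      rw [← apply_inv (isCharacter_irr φ)]
      split_ifs <;> simp
    have hm : (primeToCard p G : ℂ) ≠ 0 := Nat.cast_ne_zero.mpr (primeToCard_pos p).ne'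
    have hp0 : (p : ℂ) ≠ 0 := Nat.cast_ne_zero.mpr (Fact.out : p.Prime).ne_zero
    rw [Cfsg.classInner, hs, natCast_card_eq p G]
    field_simp
  have h := congrFun (classFunction_eq_sum hθ) g
  simp only [Finset.sum_apply, Pi.smul_apply, smul_eq_mul] at h
  simp only [key, mul_assoc, ← Finset.mul_sum, ← h]
  rfl

/-- The matrix `contribN` is idempotent up to the factor `p ^ a`. -/
theorem sum_contribN_mul [Finite G] [Fintype (Cfsg.IrrCharacter G)] (p : ℕ) [Fact p.Prime]
    (χ ψ : Cfsg.IrrCharacter G) :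
    ∑ φ : Cfsg.IrrCharacter G, contribN p χ φ * contribN p φ ψ =
      (p : ℤ) ^ (Nat.card G).factorization p * contribN p χ ψ := by
  classical
  letI := Fintype.ofFinite G
  have hm : (primeToCard p G : ℂ) ≠ 0 := Nat.cast_ne_zero.mpr (primeToCard_pos p).ne'
  suffices h : ((∑ φ : Cfsg.IrrCharacter G, contribN p χ φ * contribN p φ ψ : ℤ) : ℂ) =
      (((p : ℤ) ^ (Nat.card G).factorization p * contribN p χ ψ : ℤ) : ℂ) by exact_mod_cast h
  push_cast
  apply mul_left_cancel₀ hm
  rw [Finset.mul_sum, Finset.sum_congr rfl fun φ _ => show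
      (primeToCard p G : ℂ) * ((contribN p χ φ : ℂ) * contribN p φ ψ) =
        (contribN p χ φ : ℂ) * regSum p (φ : G → ℂ) (ψ : G → ℂ) by
      rw [regSum_eq_contribN]; ring]
  rw [mul_left_comm, ← regSum_eq_contribN]
  simp only [regSum_eq_sum, Finset.mul_sum]
  rw [Finset.sum_comm]
  refine Finset.sum_congr rfl fun g _ => ?_
  by_cases hd : p ∣ orderOf g
  · simp [hd]
  · simp only [if_neg hd, ← mul_assoc, ← Finset.sum_mul, sum_contribN_apply]

/-- The sum of the squares of a row. -/
theorem sum_contribN_sq [Finite G] [Fintype (Cfsg.IrrCharacter G)] (p : ℕ) [Fact p.Prime]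
    (χ : Cfsg.IrrCharacter G) :
    ∑ φ : Cfsg.IrrCharacter G, contribN p χ φ ^ 2 =
      (p : ℤ) ^ (Nat.card G).factorization p * contribN p χ χ := by
  rw [← sum_contribN_mul p χ χ]
  exact Finset.sum_congr rfl fun φ _ => by rw [pow_two, contribN_comm p φ χ]

/-! ## Rational numbers in the local ring -/

/-- If `n / p ^ e` is a local integer, `p ^ e` divides `n`. -/
theorem pow_dvd_of_div_mem {p : ℕ} {M : Ideal Cfsg.AlgInt} [M.IsMaximal]
    (hM : Cfsg.IsPModular p M) (e : ℕ) (n : ℤ) (h : (n : ℂ) / (p : ℂ) ^ e ∈ localRing M) :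
    (p : ℤ) ^ e ∣ n := by
  induction e generalizing n with
  | zero => simp
  | succ e ih =>
    have hp0 : (p : ℂ) ≠ 0 := Nat.cast_ne_zero.mpr hM.1.ne_zero
    have hn : (p : ℤ) ∣ n := by
      rw [← memLocalIdeal_intCast_iff hM]
      have hw : (p : ℂ) ^ e * ((n : ℂ) / (p : ℂ) ^ (e + 1)) ∈ localRing M :=
        mul_mem (pow_mem (natCast_mem _ p) e) h
      have := memLocalIdeal_mul_right (natCast_prime_mem_localIdeal hM) hw
      convert this using 1
      field_simp
      ring
    obtain ⟨n', rfl⟩ := hn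
    rw [pow_succ']
    refine mul_dvd_mul_left _ (ih n' ?_)
    convert h using 1
    push_cast
    field_simp
    ring

end Cfsg.Agent.Lib.Blocks.Contrib
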