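import Cfsg.Agent.S0876
import Cfsg.Agent.Lib.Blocks.Vanishing

/-!
# Values of height zero characters on the defect class

A height zero character does not vanish modulo `M` at elements with `p'`-part in a defect class,
and the central character of the block does not vanish modulo `M` at such an element when its
centraliser contains the defect group.
-/

namespace Cfsg.Agent.Lib.Blocks

open Cfsg.Agent.Lib.Characters.Basic

universe u

variable {M : Ideal Cfsg.AlgInt} [M.IsMaximal] {p : ℕ} {G : Type u} [Group G] [Finite G]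

theorem memLocalIdeal_char_mul_sub (hM : Cfsg.IsPModular p M) (χ : Cfsg.IrrCharacter G)
    {x y : G} (hxy : Commute x y) (hx : ∃ k : ℕ, orderOf x = p ^ k) (hy : ¬ p ∣ orderOf y) :
    Cfsg.MemLocalIdeal M ((χ : G → ℂ) (x * y) - (χ : G → ℂ) y) := by
  refine (Cfsg.Agent.S0876.result p M hM (x * y) y x 1 ⟨y, rfl, hxy, hx, hy⟩
    (isPPart_one_of_regular hy)).mp ?_ χ
  rw [inv_mul_cancel_left, inv_one, one_mul]

omit [Finite G] in
theorem centralizer_mul_le (hp : p.Prime) {x y : G} (hxy : Commute x y)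
    (hx : ∃ k : ℕ, orderOf x = p ^ k) (hy : ¬ p ∣ orderOf y) :
    Subgroup.centralizer ({x * y} : Set G) ≤ Subgroup.centralizer ({y} : Set G) := by
  obtain ⟨k, hk⟩ := hx
  obtain ⟨n, hn0, hn1⟩ := Nat.chineseRemainder
    (show Nat.Coprime (orderOf x) (orderOf y) by
      rw [hk]; exact (hp.coprime_iff_not_dvd.mpr hy).pow_left k) 0 1
  intro w hw
  refine Subgroup.mem_centralizer_singleton_iff.mpr ?_
  have h : (x * y) ^ n = y := by
    rw [hxy.mul_pow, pow_eq_pow_iff_modEq.mpr hn0, pow_eq_pow_iff_modEq.mpr hn1]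
    simp
  have hw' : Commute w (x * y) := Subgroup.mem_centralizer_singleton_iff.mp hw
  exact h ▸ hw'.pow_right n

/-- For a subgroup containing the defect group and contained in the centraliser of a defect
class the index over the degree of a height zero character is a unit of the local ring. -/
theorem index_div_degree (hM : Cfsg.IsPModular p M) {B : Set (Cfsg.IrrCharacter G)}
    (hB : Cfsg.IsPBlock M B) {y : G} (hy : Cfsg.IsDefectClass M B y)
    (P : Sylow p (Subgroup.centralizer ({y} : Set G))) {C : Subgroup G}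
    (hPC : (P : Subgroup (Subgroup.centralizer ({y} : Set G))).map
      (Subgroup.centralizer ({y} : Set G)).subtype ≤ C)
    (hCy : C ≤ Subgroup.centralizer ({y} : Set G))
    {χ : Cfsg.IrrCharacter G} (hχ : χ ∈ B) (h0 : Cfsg.blockHeight p B (χ : G → ℂ) = 0) :
    (C.index : ℂ) / (χ : G → ℂ) 1 ∈ localRing M ∧
      ¬ Cfsg.MemLocalIdeal M ((C.index : ℂ) / (χ : G → ℂ) 1) := by
  haveI := Fact.mk hM.1
  set D := (P : Subgroup (Subgroup.centralizer ({y} : Set G))).map
    (Subgroup.centralizer ({y} : Set G)).subtype with hDdef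
  have hD : Cfsg.IsDefectGroup p M B D := ⟨y, hy, P, rfl⟩
  set e := D.index.factorization p with he
  have hdeg := pow_dvd_charDegree hM hB hD hχ
  rw [blockHeight_eq hM hB hD, Nat.sub_eq_zero_iff_le] at h0
  have hrel : ¬ p ∣ D.relIndex C := fun h => not_dvd_relIndex_sylow P
    (h.trans (Dvd.intro _ (Subgroup.relIndex_mul_relIndex D C _ hPC hCy)))
  have hCe : C.index.factorization p = e := by
    rw [he, ← Subgroup.relIndex_mul_index hPC, Nat.factorization_mul
      (fun h => hrel (by rw [h]; exact dvd_zero p)) C.index_ne_zero_of_finite,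
      Finsupp.add_apply, Nat.factorization_eq_zero_of_not_dvd hrel, zero_add]
  obtain ⟨a, ha⟩ := Nat.ordProj_dvd C.index p
  obtain ⟨b, hb⟩ := hdeg
  rw [hCe] at ha
  have hna : ¬ p ∣ a := fun h => by
    have h1 : p ^ (e + 1) ∣ C.index := by rw [ha, pow_succ]; exact mul_dvd_mul_left _ h
    have := (hM.1.pow_dvd_iff_le_factorization C.index_ne_zero_of_finite).mp h1
    omega
  have hnb : ¬ p ∣ b := fun h => by
    have h1 : p ^ (e + 1) ∣ Cfsg.charDegree (χ : G → ℂ) := by
      rw [hb, pow_succ]; exact mul_dvd_mul_left _ h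
    have := (hM.1.pow_dvd_iff_le_factorization (charDegree_pos χ).ne').mp h1
    omega
  have hq : (C.index : ℂ) / (χ : G → ℂ) 1 = (a : ℂ) * (b : ℂ)⁻¹ := by
    rw [char_one_eq_degree, ha, hb]
    push_cast
    rw [mul_div_mul_left _ _ (pow_ne_zero _ (Nat.cast_ne_zero.mpr hM.1.ne_zero)), div_eq_mul_inv]
  have hb0 : (b : ℂ) ≠ 0 := Nat.cast_ne_zero.mpr fun h => hnb (h ▸ dvd_zero p)
  have hbinv := natCast_inv_mem_localRing hM hnb
  refine ⟨hq ▸ mul_mem (natCast_mem _ a) hbinv, fun h => ?_⟩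
  rw [hq] at h
  have h2 := memLocalIdeal_mul_right h (natCast_mem (localRing M) b)
  rw [mul_assoc, inv_mul_cancel₀ hb0, mul_one] at h2
  exact hna ((memLocalIdeal_natCast_iff hM a).mp h2)

theorem not_memLocalIdeal_char_defectClass (hM : Cfsg.IsPModular p M)
    {B : Set (Cfsg.IrrCharacter G)} (hB : Cfsg.IsPBlock M B) {y : G}
    (hy : Cfsg.IsDefectClass M B y) {χ : Cfsg.IrrCharacter G} (hχ : χ ∈ B)
    (h0 : Cfsg.blockHeight p B (χ : G → ℂ) = 0) :
    ¬ Cfsg.MemLocalIdeal M ((χ : G → ℂ) y) := by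
  intro h
  obtain ⟨P⟩ : Nonempty (Sylow p (Subgroup.centralizer ({y} : Set G))) := inferInstance
  refine hy.2.2 χ hχ ?_
  rw [Cfsg.centralChar, mul_comm, mul_div_assoc]
  exact memLocalIdeal_mul_right h
    (index_div_degree hM hB hy P (Subgroup.map_subtype_le _) le_rfl hχ h0).1

theorem not_memLocalIdeal_char_mul_defectClass (hM : Cfsg.IsPModular p M)
    {B : Set (Cfsg.IrrCharacter G)} (hB : Cfsg.IsPBlock M B) {y : G}
    (hy : Cfsg.IsDefectClass M B y) {x : G} (hxy : Commute x y)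
    (hx : ∃ k : ℕ, orderOf x = p ^ k) {χ : Cfsg.IrrCharacter G} (hχ : χ ∈ B)
    (h0 : Cfsg.blockHeight p B (χ : G → ℂ) = 0) :
    ¬ Cfsg.MemLocalIdeal M ((χ : G → ℂ) (x * y)) := by
  intro h
  have h2 := memLocalIdeal_sub h
    (memLocalIdeal_char_mul_sub hM χ hxy hx (not_dvd_orderOf_isDefectClass hM hB hy))
  rw [sub_sub_cancel] at h2
  exact not_memLocalIdeal_char_defectClass hM hB hy hχ h0 h2

theorem exists_blockHeight_eq_zero {B : Set (Cfsg.IrrCharacter G)} (hB : Cfsg.IsPBlock M B) :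
    ∃ χ ∈ B, Cfsg.blockHeight p B (χ : G → ℂ) = 0 := by
  obtain ⟨χ, hχ, he⟩ := Nat.sInf_mem ((isPBlock_nonempty hB).image
    fun ψ : Cfsg.IrrCharacter G => (Cfsg.charDegree (ψ : G → ℂ)).factorization p)
  exact ⟨χ, hχ, by simp [Cfsg.blockHeight, ← he]⟩

theorem not_memLocalIdeal_centralChar_mul_defectClass (hM : Cfsg.IsPModular p M)
    {B : Set (Cfsg.IrrCharacter G)} (hB : Cfsg.IsPBlock M B) {y : G}
    (hy : Cfsg.IsDefectClass M B y) {x : G} (hxy : Commute x y)
    (hx : ∃ k : ℕ, orderOf x = p ^ k)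
    (P : Sylow p (Subgroup.centralizer ({y} : Set G)))
    (hP : (P : Subgroup (Subgroup.centralizer ({y} : Set G))).map
      (Subgroup.centralizer ({y} : Set G)).subtype ≤ Subgroup.centralizer ({x * y} : Set G))
    {χ : Cfsg.IrrCharacter G} (hχ : χ ∈ B) :
    ¬ Cfsg.MemLocalIdeal M (Cfsg.centralChar (χ : G → ℂ) (x * y)) := by
  intro h
  obtain ⟨ψ, hψ, h0⟩ := exists_blockHeight_eq_zero (p := p) hB
  have hreg := not_dvd_orderOf_isDefectClass hM hB hy
  have hi := index_div_degree hM hB hy P hP (centralizer_mul_le hM.1 hxy hx hreg) hψ h0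
  rw [memLocalIdeal_centralChar_iff, residue_ccR_eq_of_mem hB hχ hψ,
    ← memLocalIdeal_centralChar_iff, Cfsg.centralChar, mul_comm, mul_div_assoc] at h
  exact not_memLocalIdeal_mul (char_mem_localRing ψ _) hi.1
    (not_memLocalIdeal_char_mul_defectClass hM hB hy hxy hx hψ h0) hi.2 h

end Cfsg.Agent.Lib.Blocks
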