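import Cfsg.Agent.Lib.Blocks.FirstMain
import Cfsg.Agent.Lib.BrauerPairs.Inertial
import Cfsg.Agent.Lib.BrauerPairs.Stabilizer

/-!
# Blocks of subgroups between `C(D)` and `N(D)`

A block of `H` with `D ≤ H`, `C(D) ≤ H ≤ N(D)` is determined by a pair at `D` and induces the
block of that pair; for a pair at `D` which is maximal in `H`, maximality in the group is a
statement about the index of `H` in the stabiliser.
-/

namespace Cfsg.Agent.Lib.Blocks

open MonoidAlgebra Cfsg.Agent.Lib.BrauerMap.Basic Cfsg.Agent.Lib.BrauerMap.ClassSum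
open Cfsg.Agent.Lib.BrauerPairs.Center Cfsg.Agent.Lib.BrauerPairs.Trunc
open Cfsg.Agent.Lib.BrauerPairs.Conj
open Cfsg.Agent.Lib.BrauerPairs.Pairs Cfsg.Agent.Lib.BrauerPairs.Maximal
open Cfsg.Agent.Lib.BrauerPairs.Transport Cfsg.Agent.Lib.BrauerPairs.Embed
open Cfsg.Agent.Lib.BrauerPairs.Bridge (Res charP_res blk blkOf blkOf_of_mem toSet toSet_blk
  isPBlock_toSet exists_mem isDefectGroup_iff blk_toSet)
set_option linter.style.haveILetI false

open Cfsg.Agent.Lib.BrauerMap.Induced (inducedBar inducedBar_classSumC induced_congr_iff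
  inducedBar_eq_brauer)

universe u

attribute [local instance] Ideal.Quotient.field

variable {M : Ideal Cfsg.AlgInt} [M.IsMaximal] {p : ℕ} [Fact p.Prime] [CharP (Res M) p]
variable {G : Type u} [Group G] [Finite G] {D H : Subgroup G}

local notation "C[" D "]" => Subgroup.centralizer ((D : Subgroup G) : Set G)

/-- A block of `H` with a pair at `D` takes the values of that pair. -/
theorem local_pair_value (hDH : D ≤ H) (hC : C[D] ≤ H) {φ : Blk (Res M) H}
    {f : Blk (Res M) C[D]} (h : PairOf p φ ⟨D.subgroupOf H, down hDH hC f⟩)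
    (z : ZAlg (Res M) H) : φ z = val D f (ext H (z : MonoidAlgebra (Res M) H)) := by
  rw [← h.apply_eq z]
  exact val_down _ _ f (isFixedBy_of_mem_center _ z.2)

/-- A block of `H` with a pair at `D` induces the block of that pair. -/
theorem local_isInducedBlock (hD : IsPGroup p D) (hDH : D ≤ H) (hC : C[D] ≤ H)
    (hN : H ≤ Subgroup.normalizer (D : Set G)) {φ : Blk (Res M) H} {f : Blk (Res M) C[D]}
    (h : PairOf p φ ⟨D.subgroupOf H, down hDH hC f⟩) :
    Cfsg.IsInducedBlock M H (toSet φ)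
      (toSet (pairBlk (a := (⟨D, f⟩ : Idx (Res M) G)) hD)) := by
  obtain ⟨ξ, hξ⟩ := exists_mem φ
  obtain ⟨χ, hχ⟩ := exists_mem (pairBlk (a := (⟨D, f⟩ : Idx (Res M) G)) hD)
  refine isInducedBlock_of_inducedBar_eq (isPBlock_toSet _) (isPBlock_toSet _) hξ hχ fun g => ?_
  rw [inducedBar_eq_brauer hD hDH hC hN ξ, AlgHom.toLinearMap_apply]
  show blkOf M ξ (brauerHom hD hC hN (classSumC (Res M) g)) = blkOf M χ (classSumC (Res M) g)
  have e1 : blkOf M ξ = φ := hξ
  have e2 : blkOf M χ = pairBlk (a := (⟨D, f⟩ : Idx (Res M) G)) hD := hχ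
  rw [e1, e2, pairBlk_apply, local_pair_value hDH hC h]
  refine val_congr f ?_
  ext c
  rw [coeff_br, coeff_br]
  refine (coeff_ext H _ ⟨c, hC c.2⟩).trans ?_
  rw [brauerHom_apply, coeff_brauerTo, if_pos c.2]

omit [M.IsMaximal] [Fact p.Prime] [CharP (Res M) p] in
/-- `D C(D)` fixes each idempotent of a block of `C(D)`. -/
theorem isFixedBy_sup_centralizer {k : Type*} [Field k] [IsAlgClosed k] (f : Blk k C[D]) :
    IsFixedBy (D ⊔ C[D]) (bext C[D] f) :=
  Cfsg.Agent.Lib.BrauerPairs.LocalDefect.isFixedBy_sup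
    (Cfsg.Agent.Lib.BrauerPairs.LocalDefect.isFixedBy_self D _) (isFixedBy_bext _ f)

/-- If `H` fixes the pair at `D`, its idempotent is the block idempotent. -/
theorem ext_bidem_eq (hD : IsPGroup p D) (hDH : D ≤ H) (hC : C[D] ≤ H)
    (hN : H ≤ Subgroup.normalizer (D : Set G)) {φ : Blk (Res M) H} {f : Blk (Res M) C[D]}
    (h : PairOf p φ ⟨D.subgroupOf H, down hDH hC f⟩) (hfix : IsFixedBy H (bext C[D] f)) :
    bext H φ = bext C[D] f := by
  obtain ⟨F, hF, -, hext, hpair⟩ := Cfsg.Agent.Lib.BrauerPairs.Stabilizer.exists_block_of_stable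
    hD hDH hC hN (isPBlock_toSet f) (by rw [blk_toSet]; exact hfix)
  rw [blk_toSet] at hext hpair
  have hD' : IsPGroup p (D.subgroupOf H) := hD.of_equiv (Subgroup.subgroupOfEquivOfLe hDH).symm
  obtain ⟨_, h1⟩ := pairOf_iff.mp h
  obtain ⟨_, h2⟩ := pairOf_iff.mp hpair
  rw [← h1, h2]
  exact hext

omit [M.IsMaximal] [Fact p.Prime] [CharP (Res M) p] [Finite G] in
/-- A p-subgroup of `T` lies in a normal subgroup of index prime to p. -/
theorem le_of_not_dvd_relIndex [Fact p.Prime] {T R : Subgroup G}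
    [hn : (H.subgroupOf T).Normal] (hp : ¬ p ∣ H.relIndex T) (hR : IsPGroup p R) (hRT : R ≤ T) :
    R ≤ H := by
  intro u hu
  set q := (QuotientGroup.mk' (H.subgroupOf T)) ⟨u, hRT hu⟩ with hq
  obtain ⟨m, hm⟩ := hR ⟨u, hu⟩
  have hu' : (⟨u, hRT hu⟩ : T) ^ p ^ m = 1 := Subtype.ext (by simpa using congrArg (fun z : R => (z : G)) hm)
  have h1 : orderOf q ∣ p ^ m := by
    rw [orderOf_dvd_iff_pow_eq_one, hq, ← map_pow, hu', map_one]
  have h2 : orderOf q ∣ H.relIndex T := orderOf_dvd_natCard q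
  have h3 : orderOf q = 1 := Nat.eq_one_of_dvd_coprimes
    (Nat.Coprime.pow_left m ((Fact.out : p.Prime).coprime_iff_not_dvd.mpr hp)) h1 h2
  rw [orderOf_eq_one_iff, hq, QuotientGroup.mk'_apply, QuotientGroup.eq_one_iff] at h3
  exact h3

omit [M.IsMaximal] [Fact p.Prime] [CharP (Res M) p] in
/-- A pair maximal in `H` is maximal in the group exactly when the stabiliser modulo `H` has
order prime to p, for `H = D C(D)`. -/
theorem top_iff_not_dvd_relIndex {k : Type*} [Field k] [IsAlgClosed k] [Fact p.Prime] [CharP k p]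
    {T : Subgroup G} (hDH : D ≤ H) (hC : C[D] ≤ H) (hH : H = D ⊔ C[D])
    (f : Blk k C[D]) (htop : Top p (⟨D.subgroupOf H, down hDH hC f⟩ : Idx k H))
    (hT : ∀ g : G, g ∈ T ↔
      g ∈ Subgroup.normalizer (D : Set G) ∧ conjA g (bext C[D] f) = bext C[D] f) :
    Top p (⟨D, f⟩ : Idx k G) ↔ ¬ p ∣ H.relIndex T := by
  have hHn : ∀ t ∈ T, H ≤ H.comap (MulAut.conj t).toMonoidHom := by
    intro t ht
    rw [hH, sup_le_iff]
    constructor
    · exact fun d hd => Subgroup.mem_sup_left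
        ((Subgroup.mem_normalizer_iff.mp ((hT t).mp ht).1 d).mp hd)
    · exact fun d hd => Subgroup.mem_sup_right
        ((mem_centralizer_conj_iff ((hT t).mp ht).1 d).mp hd)
  haveI : (H.subgroupOf T).Normal := ⟨fun h hh t => hHn t t.2 hh⟩
  constructor
  · intro htopG hdvd
    obtain ⟨S⟩ : Nonempty (Sylow p T) := inferInstance
    have hS : (S : Subgroup T) ≤ H.subgroupOf T := by
      intro s hs
      have hz : IsPGroup p (Subgroup.zpowers (s : G)) := by
        rw [← Subgroup.coe_subtype, ← MonoidHom.map_zpowers]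
        exact (S.2.to_le (Subgroup.zpowers_le.mpr hs)).map _
      have := Cfsg.Agent.Lib.BrauerPairs.Inertial.mem_sup_of_top htopG ((hT s).mp s.2).1 hz
        ((hT s).mp s.2).2
      rw [Subgroup.mem_subgroupOf, hH]
      exact this
    exact S.not_dvd_index (hdvd.trans (Subgroup.index_dvd_of_le hS))
  · intro hp
    rw [top_iff]
    refine ⟨htop.1.of_equiv (Subgroup.subgroupOfEquivOfLe hDH), fun R hR hlt hRN hfix => ?_⟩
    have hRT : R ≤ T := fun u hu => (hT u).mpr ⟨hRN hu, (isFixedBy_iff _ _).mp hfix u hu⟩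
    have hRH : R ≤ H := le_of_not_dvd_relIndex hp hR hRT
    have hlt' : D.subgroupOf H < R.subgroupOf H := by
      refine lt_of_le_of_ne (fun x hx => hlt.le hx) fun e => hlt.ne ?_
      have e2 := congrArg (Subgroup.map H.subtype) e
      rwa [Subgroup.map_subgroupOf_eq_of_le hDH, Subgroup.map_subgroupOf_eq_of_le hRH] at e2
    have h0 := ((top_iff _).mp htop).2 (R.subgroupOf H)
      (hR.of_equiv (Subgroup.subgroupOfEquivOfLe hRH).symm) hlt'
      ((subgroupOf_le_normalizer hDH hRH).mpr hRN)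
      ((isFixedBy_ext_iff hRH _).mpr (by rw [ext_bext_down]; exact hfix))
    rw [coeff_eq_zero_iff_br] at h0 ⊢
    intro g hg
    have hgH : g ∈ H := hC (centralizer_anti hlt.le hg)
    have h1 := h0 ⟨g, hgH⟩ ((mem_centralizer_subgroupOf_iff hRH _).mpr hg)
    rw [← ext_bext_down hDH hC]
    exact (coeff_ext H _ ⟨g, hgH⟩).trans h1

end Cfsg.Agent.Lib.Blocks
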