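import Mathlib.LinearAlgebra.Matrix.Transvection
import Mathlib.LinearAlgebra.Matrix.Rank
import Cfsg.Agent.Lib.Blocks.Orthogonality
import Cfsg.Agent.Lib.Blocks.DefectGroup
import Cfsg.Agent.Lib.BrauerPairs.Bridge
import Cfsg.Agent.Lib.H80.ClassMult

/-!
# The number of blocks with a given normal defect group as the rank of a matrix

For a Sylow `p`-subgroup `S` and p-regular classes `K i`, `K j` with defect group a normal `D`, the
number of pairs `(y, z) ∈ K i × K j` with `z y⁻¹ ∈ S`, divided by the p-part of the class lengths,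
reduces modulo `p` to a product of the central characters and the idempotent coefficients of the
blocks with defect group `D`.
-/

namespace Cfsg.Agent.Lib.Blocks

open MonoidAlgebra Cfsg.Agent.Lib.BrauerMap.ClassSum
open Cfsg.Agent.Lib.BrauerMap.Basic (mem_center_iff_coeff)
open Cfsg.Agent.Lib.Characters.Basic Cfsg.Agent.Lib.Characters.Complete
open Cfsg.Agent.Lib.BrauerPairs.Center
open Cfsg.Agent.Lib.BrauerPairs.Maximal (IsDef)
open Cfsg.Agent.Lib.BrauerPairs.Bridge (Res blk blkOf toSet toSet_blk isPBlock_toSet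
  blk_toSet mem_toSet isDefectGroup_iff coeff_bidem coeff_bidem_ne_zero_iff blkOf_classSumC
  exists_mem blockCoeff_mem_localRing)
open scoped ComplexConjugate

set_option linter.style.haveILetI false

universe u v w

attribute [local instance] Ideal.Quotient.field

/-- The rank of a square matrix is unchanged by a field embedding. -/
theorem rank_map_ringHom {k : Type v} {k' : Type w} [Field k] [Field k'] (f : k →+* k')
    {n : Type u} [Fintype n] [DecidableEq n] (A : Matrix n n k) : (A.map f).rank = A.rank := by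
  classical
  obtain ⟨L, L', d, hd⟩ := Matrix.Pivot.exists_list_transvec_mul_mul_list_transvec_eq_diagonal A
  set P := (L.map Matrix.TransvectionStruct.toMatrix).prod
  set Q := (L'.map Matrix.TransvectionStruct.toMatrix).prod
  have hP : IsUnit P.det := by simp [P]
  have hQ : IsUnit Q.det := by simp [Q]
  have hP' : IsUnit (f.mapMatrix P).det := by rw [← RingHom.map_det]; exact hP.map f
  have hQ' : IsUnit (f.mapMatrix Q).det := by rw [← RingHom.map_det]; exact hQ.map f
  have h1 : A.rank = (Matrix.diagonal d).rank := by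
    rw [← hd, Matrix.rank_mul_eq_left_of_isUnit_det _ _ hQ,
      Matrix.rank_mul_eq_right_of_isUnit_det _ _ hP]
  have h2 : (A.map f).rank = (Matrix.diagonal fun i => f (d i)).rank := by
    have e : f.mapMatrix P * f.mapMatrix A * f.mapMatrix Q = Matrix.diagonal fun i => f (d i) := by
      rw [← map_mul, ← map_mul, hd, RingHom.mapMatrix_apply, Matrix.diagonal_map (map_zero f)]
    rw [← e, Matrix.rank_mul_eq_left_of_isUnit_det _ _ hQ',
      Matrix.rank_mul_eq_right_of_isUnit_det _ _ hP', RingHom.mapMatrix_apply]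
  rw [h1, h2, Matrix.rank_diagonal, Matrix.rank_diagonal]
  exact Fintype.card_congr (Equiv.subtypeEquivRight fun i => map_ne_zero f)

/-- A product `W * E` with `E * W = 1` has rank the inner dimension. -/
theorem rank_mul_of_mul_eq_one {k : Type v} [Field k] {m : Type u} {n : Type w} [Fintype m]
    [Fintype n] [DecidableEq n] (W : Matrix m n k) (E : Matrix n m k) (h : E * W = 1) :
    (W * E).rank = Fintype.card n := by
  refine le_antisymm ((Matrix.rank_mul_le_left W E).trans (Matrix.rank_le_card_width W)) ?_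
  have e : E * (W * E) * W = 1 := by rw [← Matrix.mul_assoc, Matrix.mul_assoc, h, Matrix.one_mul]
  calc Fintype.card n = (E * (W * E) * W).rank := by rw [e, Matrix.rank_one]
    _ ≤ (E * (W * E)).rank := Matrix.rank_mul_le_left _ _
    _ ≤ (W * E).rank := Matrix.rank_mul_le_right _ _

variable {G : Type u} [Group G] [Finite G] {p : ℕ} [Fact p.Prime]

local notation "C[" x "]" => Subgroup.centralizer ({x} : Set G)

/-- `x` represents a p-regular class with defect group `D`. -/
def IsDClass (p : ℕ) (D : Subgroup G) (x : G) : Prop :=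
  ¬ p ∣ orderOf x ∧ D ≤ C[x] ∧
    (Nat.card C[x]).factorization p = (Nat.card D).factorization p

variable {D : Subgroup G} [D.Normal]

theorem sylow_map_eq_of_isDClass (hD : IsPGroup p D) {x : G} (h : IsDClass p D x)
    (Q : Sylow p C[x]) : (Q : Subgroup C[x]).map C[x].subtype = D := by
  refine (Subgroup.eq_of_le_of_card_ge (normal_le_of_le_centralizer hD h.2.1 Q) ?_).symm
  rw [Subgroup.card_map_of_injective C[x].subtype_injective, Q.card_eq_multiplicity, h.2.2]
  obtain ⟨n, hn⟩ := IsPGroup.iff_card.mp hD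
  rw [hn, (Fact.out : p.Prime).factorization_pow, Finsupp.single_eq_same]

theorem isDClass_iff (hD : IsPGroup p D) {x : G} :
    IsDClass p D x ↔ ¬ p ∣ orderOf x ∧
      ∃ Q : Sylow p C[x], (Q : Subgroup C[x]).map C[x].subtype = D := by
  refine ⟨fun h => ⟨h.1, default, sylow_map_eq_of_isDClass hD h default⟩, ?_⟩
  rintro ⟨hx, Q, hQ⟩
  refine ⟨hx, hQ ▸ Subgroup.map_subtype_le _, ?_⟩
  rw [← hQ, Subgroup.card_map_of_injective C[x].subtype_injective, Q.card_eq_multiplicity,
    (Fact.out : p.Prime).factorization_pow, Finsupp.single_eq_same]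

omit [Fact p.Prime] in
theorem IsDClass.of_isConj {x y : G} (h : IsDClass p D x) (e : IsConj x y) : IsDClass p D y := by
  obtain ⟨c, hc⟩ := isConj_iff.mp e
  have hcard : Nat.card C[y] = Nat.card C[x] := by
    have h1 := Subgroup.card_mul_index C[x]
    have h2 := Subgroup.card_mul_index C[y]
    rw [← centralizer_index_eq_of_isConj e] at h2
    exact Nat.eq_of_mul_eq_mul_right (Nat.pos_of_ne_zero Subgroup.index_ne_zero_of_finite)
      (h2.trans h1.symm)
  have ho : orderOf y = orderOf x := by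
    rw [← hc, show c * x * c⁻¹ = MulAut.conj c x from rfl, MulEquiv.orderOf_eq]
  refine ⟨ho ▸ h.1, fun d hd => ?_, hcard ▸ h.2.2⟩
  have h3 := Subgroup.mem_centralizer_singleton_iff.mp
    (h.2.1 (by simpa using Subgroup.Normal.conj_mem inferInstance d hd c⁻¹ : c⁻¹ * d * c ∈ D))
  rw [Subgroup.mem_centralizer_singleton_iff, ← hc]
  calc d * (c * x * c⁻¹) = c * ((c⁻¹ * d * c) * x) * c⁻¹ := by group
    _ = c * (x * (c⁻¹ * d * c)) * c⁻¹ := by rw [h3]
    _ = c * x * c⁻¹ * d := by group

omit [Fact p.Prime] [Finite G] in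
open scoped Classical in
/-- Summing over a conjugacy class by summing over the group. -/
theorem sum_conj_eq [Fintype G] (a : G) (f : G → ℂ) :
    ∑ t : G, f (t * a * t⁻¹) =
      (Nat.card C[a] : ℂ) * ∑ y : G, if IsConj a y then f y else 0 := by
  rw [← Finset.sum_fiberwise Finset.univ (fun t : G => t * a * t⁻¹) (fun t => f (t * a * t⁻¹)),
    Finset.mul_sum]
  refine Finset.sum_congr rfl fun y _ => ?_
  by_cases hy : IsConj a y
  · obtain ⟨c, rfl⟩ := isConj_iff.mp hy
    rw [if_pos hy, Finset.sum_congr rfl (g := fun _ => f (c * a * c⁻¹))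
      (fun t ht => by rw [(Finset.mem_filter.mp ht).2]), Finset.sum_const, nsmul_eq_mul]
    congr 2
    rw [← Fintype.card_subtype, ← Nat.card_eq_fintype_card]
    refine Nat.card_congr
      { toFun := fun t => ⟨c⁻¹ * t.1, ?_⟩
        invFun := fun d => ⟨c * d.1, ?_⟩
        left_inv := fun t => by simp
        right_inv := fun d => by simp }
    · rw [Subgroup.mem_centralizer_singleton_iff]
      calc c⁻¹ * t.1 * a = c⁻¹ * (t.1 * a * t.1⁻¹) * t.1 := by group
        _ = a * (c⁻¹ * t.1) := by rw [t.2]; group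
    · rw [mul_inv_rev]
      calc c * d.1 * a * (d.1⁻¹ * c⁻¹) = c * (d.1 * a) * d.1⁻¹ * c⁻¹ := by group
        _ = c * a * c⁻¹ := by rw [Subgroup.mem_centralizer_singleton_iff.mp d.2]; group
  · rw [if_neg hy, mul_zero]
    refine Finset.sum_eq_zero fun t ht => ?_
    exact absurd (isConj_iff.mpr ⟨t, (Finset.mem_filter.mp ht).2⟩) hy

omit [Fact p.Prime] in
/-- Counting the pairs of two classes whose quotient lies in a subgroup, by characters. -/
theorem card_pairs [Fintype G] [Fintype (Cfsg.IrrCharacter G)] (S : Subgroup G) [Fintype S]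
    (a b : G) :
    (Nat.card C[b] : ℂ) * (Nat.card {yz : G × G //
        IsConj a yz.1 ∧ IsConj b yz.2 ∧ yz.2 * yz.1⁻¹ ∈ S} : ℂ) =
      ∑ χ : Cfsg.IrrCharacter G, Cfsg.centralChar (χ : G → ℂ) a *
        (conj ((χ : G → ℂ) b) * ∑ s : S, (χ : G → ℂ) s) := by
  classical
  have hN : Nat.card {yz : G × G // IsConj a yz.1 ∧ IsConj b yz.2 ∧ yz.2 * yz.1⁻¹ ∈ S} =
      Nat.card {sy : S × G // IsConj a sy.2 ∧ IsConj b ((sy.1 : G) * sy.2)} :=
    Nat.card_congr
      { toFun := fun q => ⟨(⟨q.1.2 * q.1.1⁻¹, q.2.2.2⟩, q.1.1), q.2.1, by simpa using q.2.2.1⟩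
        invFun := fun q => ⟨(q.1.2, (q.1.1 : G) * q.1.2), q.2.1, q.2.2,
          by simpa [mul_assoc] using q.1.1.2⟩
        left_inv := fun q => by simp
        right_inv := fun q => by simp }
  have hcnt : (Nat.card C[b] : ℂ) * (Nat.card {sy : S × G //
      IsConj a sy.2 ∧ IsConj b ((sy.1 : G) * sy.2)} : ℂ) =
      ∑ s : S, ∑ y : G, if IsConj a y then
        ∑ χ : Cfsg.IrrCharacter G, (χ : G → ℂ) ((s : G) * y) * conj ((χ : G → ℂ) b) else 0 := by
    rw [Nat.card_eq_fintype_card (α := {sy : S × G //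
      IsConj a sy.2 ∧ IsConj b ((sy.1 : G) * sy.2)}), Fintype.card_subtype,
      Finset.card_filter, Nat.cast_sum, Finset.mul_sum, Fintype.sum_prod_type]
    refine Finset.sum_congr rfl fun s _ => Finset.sum_congr rfl fun y _ => ?_
    rw [sum_irr_mul_conj]
    by_cases hy : IsConj a y
    · by_cases hz : IsConj b ((s : G) * y)
      · rw [if_pos ⟨hy, hz⟩, if_pos hy, if_pos hz.symm, Nat.cast_one, mul_one]
        have h1 := Subgroup.card_mul_index C[b]
        have h2 := Subgroup.card_mul_index C[(s : G) * y]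
        rw [← centralizer_index_eq_of_isConj hz] at h2
        rw [Nat.eq_of_mul_eq_mul_right (Nat.pos_of_ne_zero Subgroup.index_ne_zero_of_finite)
          (h1.trans h2.symm)]
      · rw [if_neg (fun h => hz h.2), if_pos hy, if_neg (fun h => hz h.symm)]
        simp
    · rw [if_neg (fun h => hy h.1), if_neg hy]
      simp
  rw [hN]
  apply mul_left_cancel₀ (Nat.cast_ne_zero.mpr (Nat.card_pos (α := C[a])).ne' : (Nat.card C[a] : ℂ) ≠ 0)
  rw [hcnt, Finset.mul_sum, Finset.mul_sum]
  calc ∑ s : S, (Nat.card C[a] : ℂ) * (∑ y : G, if IsConj a y then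
        ∑ χ : Cfsg.IrrCharacter G, (χ : G → ℂ) ((s : G) * y) * conj ((χ : G → ℂ) b) else 0)
      = ∑ s : S, ∑ t : G, ∑ χ : Cfsg.IrrCharacter G,
          (χ : G → ℂ) ((s : G) * (t * a * t⁻¹)) * conj ((χ : G → ℂ) b) :=
        Finset.sum_congr rfl fun s _ => (sum_conj_eq a _).symm
    _ = ∑ χ : Cfsg.IrrCharacter G, ∑ s : S, (∑ t : G,
          (χ : G → ℂ) ((s : G) * (t * a * t⁻¹))) * conj ((χ : G → ℂ) b) := by
        simp only [Finset.sum_mul]
        rw [Finset.sum_comm (γ := Cfsg.IrrCharacter G)]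
        exact Finset.sum_congr rfl fun s _ => Finset.sum_comm
    _ = ∑ χ : Cfsg.IrrCharacter G, (Nat.card C[a] : ℂ) * (Cfsg.centralChar (χ : G → ℂ) a *
          (conj ((χ : G → ℂ) b) * ∑ s : S, (χ : G → ℂ) s)) := by
        refine Finset.sum_congr rfl fun χ _ => ?_
        simp only [Cfsg.Agent.Lib.H80.ClassMult.sum_apply_mul_conj, Cfsg.centralChar]
        rw [Finset.mul_sum, Finset.mul_sum, Finset.mul_sum]
        refine Finset.sum_congr rfl fun s _ => ?_
        rw [show (Nat.card G : ℂ) = (Nat.card C[a] : ℂ) * (C[a].index : ℂ) by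
          rw [← Nat.cast_mul, Subgroup.card_mul_index]]
        ring

variable {M : Ideal Cfsg.AlgInt} [M.IsMaximal] [CharP (Res M) p]

omit [D.Normal] in
/-- Over a block, the multiplicities of the trivial character of a Sylow subgroup weight the
values at a p-regular element as the idempotent coefficient. -/
theorem sum_mult_eq (hM : Cfsg.IsPModular p M) [Fintype G] {B : Set (Cfsg.IrrCharacter G)}
    (hB : Cfsg.IsPBlock M B) {b : G} (hb : ¬ p ∣ orderOf b) (S : Sylow p G)
    [Fintype (S : Subgroup G)] :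
    ∑ᶠ χ ∈ B, conj ((χ : G → ℂ) b) * ∑ s : (S : Subgroup G), (χ : G → ℂ) s =
      (Nat.card G : ℂ) * Cfsg.blockCoeff B b := by
  classical
  haveI := Fintype.ofFinite (Cfsg.IrrCharacter G)
  rw [Cfsg.blockCoeff, ← mul_assoc, mul_inv_cancel₀ (Nat.cast_ne_zero.mpr Nat.card_pos.ne'),
    one_mul, finsum_mem_eq_toFinset_sum, finsum_mem_eq_toFinset_sum]
  simp only [Finset.mul_sum]
  rw [Finset.sum_comm, Finset.sum_eq_single (1 : (S : Subgroup G))]
  · refine Finset.sum_congr rfl fun χ _ => ?_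
    rw [mul_comm]
    rfl
  · intro s _ hs
    have hps : p ∣ orderOf (s : G) := by
      obtain ⟨n, hn⟩ := IsPGroup.iff_orderOf.mp S.2 s
      rw [Subgroup.orderOf_coe, hn]
      refine dvd_pow_self p fun h0 => hs ?_
      rw [h0, pow_zero, orderOf_eq_one_iff] at hn
      exact hn
    obtain ⟨u, hu⟩ := exists_isPPart hM.1 (s : G)
    have h0 := sum_block_eq_zero hM hu (isPPart_one_of_regular hb)
      (fun h => isPPart_ne_one hu hps (isConj_one_left.mp h)) hB
    rw [finsum_mem_eq_toFinset_sum] at h0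
    rw [← h0]
    refine Finset.sum_congr rfl fun χ _ => ?_
    rw [apply_inv (isCharacter_irr χ), mul_comm]
  · exact fun h => absurd (Finset.mem_univ _) h

/-- The count divided by the p-part of a class length, modulo `M`. -/
theorem residue_count (hM : Cfsg.IsPModular p M) [Fintype (Blk (Res M) G)] (hD : IsPGroup p D)
    (S : Sylow p G) (a : G) {b : G} (hb : IsDClass p D b) :
    p ^ ((Nat.card G).factorization p - (Nat.card D).factorization p) ∣
        Nat.card {yz : G × G // IsConj a yz.1 ∧ IsConj b yz.2 ∧ yz.2 * yz.1⁻¹ ∈ (S : Subgroup G)} ∧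
    ((Nat.card {yz : G × G // IsConj a yz.1 ∧ IsConj b yz.2 ∧ yz.2 * yz.1⁻¹ ∈ (S : Subgroup G)} /
        p ^ ((Nat.card G).factorization p - (Nat.card D).factorization p) : ℕ) : Res M) *
        ((ordCompl[p] (Nat.card C[b]) : ℕ) : Res M) =
      ((ordCompl[p] (Nat.card G) : ℕ) : Res M) *
        ∑ ψ : Blk (Res M) G, ψ (classSumC (Res M) a) * (bidem ψ).coeff b := by
  classical
  haveI := Fintype.ofFinite G
  haveI := Fintype.ofFinite (Cfsg.IrrCharacter G)
  set N := Nat.card {yz : G × G // IsConj a yz.1 ∧ IsConj b yz.2 ∧ yz.2 * yz.1⁻¹ ∈ (S : Subgroup G)}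
    with hN
  set α := (Nat.card G).factorization p with hα
  set δ := (Nat.card D).factorization p with hδ
  set ub := ordCompl[p] (Nat.card C[b]) with hub
  set ug := ordCompl[p] (Nat.card G) with hug
  have hcb : Nat.card C[b] = p ^ δ * ub := by
    rw [hδ, ← hb.2.2, hub, Nat.ordProj_mul_ordCompl_eq_self]
  have hcg : Nat.card G = p ^ α * ug := (Nat.ordProj_mul_ordCompl_eq_self _ _).symm
  have hle : δ ≤ α := (Nat.factorization_le_iff_dvd Nat.card_pos.ne' Nat.card_pos.ne').mpr
    (Subgroup.card_subgroup_dvd_card D) p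
  have hT : ∀ χ : Cfsg.IrrCharacter G, ∃ m : ℕ,
      ∑ s : (S : Subgroup G), (χ : G → ℂ) s = (p : ℂ) ^ α * m := by
    intro χ
    obtain ⟨m, hm⟩ := Cfsg.Agent.Lib.H80.ClassMult.exists_sum_subgroup χ (S : Subgroup G)
    exact ⟨m, by rw [hm, S.card_eq_multiplicity, Nat.cast_pow]⟩
  choose m hm using hT
  have hp : (p : ℂ) ≠ 0 := Nat.cast_ne_zero.mpr hM.1.ne_zero
  let X : Cfsg.IrrCharacter G → localRing M := fun χ =>
    ⟨conj ((χ : G → ℂ) b) * (m χ : ℂ), mul_mem
      (by rw [← apply_inv (isCharacter_irr χ)]; exact char_mem_localRing χ _) (natCast_mem _ _)⟩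
  have hkey : (ub : ℂ) * N = (p : ℂ) ^ (α - δ) *
      ∑ χ : Cfsg.IrrCharacter G, ((ccR M χ a * X χ : localRing M) : ℂ) := by
    have h := card_pairs (S : Subgroup G) a b
    rw [← hN, hcb, Nat.cast_mul, Nat.cast_pow] at h
    have e : (p : ℂ) ^ α = (p : ℂ) ^ δ * (p : ℂ) ^ (α - δ) := by
      rw [← pow_add, Nat.add_sub_cancel' hle]
    refine mul_left_cancel₀ (pow_ne_zero δ hp) ?_
    rw [← mul_assoc, h, ← mul_assoc, ← e, Finset.mul_sum]
    refine Finset.sum_congr rfl fun χ _ => ?_
    rw [hm χ]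
    show Cfsg.centralChar (χ : G → ℂ) a * _ =
      _ * (Cfsg.centralChar (χ : G → ℂ) a * (conj ((χ : G → ℂ) b) * (m χ : ℂ)))
    ring
  have hub0 : ¬ p ∣ ub := Nat.not_dvd_ordCompl hM.1 Nat.card_pos.ne'
  have hdvd : p ^ (α - δ) ∣ N := by
    have hR : ((ub * N : ℕ) : ℂ) / (p : ℂ) ^ (α - δ) ∈ localRing M := by
      rw [Nat.cast_mul, hkey, mul_div_cancel_left₀ _ (pow_ne_zero _ hp)]
      exact sum_mem fun χ _ => (ccR M χ a * X χ).2
    exact ((hM.1.coprime_iff_not_dvd.mpr hub0).pow_left _).dvd_of_dvd_mul_left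
      (pow_dvd_of_div_mem_localRing hM hR)
  refine ⟨hdvd, ?_⟩
  obtain ⟨q, hq⟩ := hdvd
  have hqR : ((q : ℕ) : localRing M) * (ub : localRing M) =
      ∑ χ : Cfsg.IrrCharacter G, ccR M χ a * X χ := by
    apply Subtype.ext
    rw [AddSubmonoidClass.coe_finsetSum]
    push_cast
    refine mul_left_cancel₀ (pow_ne_zero (α - δ) hp) ?_
    have hk := hkey
    push_cast at hk
    rw [← hk, hq, Nat.cast_mul, Nat.cast_pow]
    ring
  rw [hq, Nat.mul_div_cancel_left _ (pow_pos hM.1.pos _), ← map_natCast (residue M),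
    ← map_natCast (residue M) ub, ← map_mul, hqR, map_sum, Finset.mul_sum,
    ← Finset.sum_fiberwise Finset.univ (fun χ => blkOf M χ)]
  refine Finset.sum_congr rfl fun ψ _ => ?_
  have hfib : (∑ χ ∈ Finset.univ.filter (fun χ => blkOf M χ = ψ), X χ) =
      (ug : localRing M) *
        ⟨Cfsg.blockCoeff (toSet ψ) b, blockCoeff_mem_localRing (isPBlock_toSet ψ) b⟩ := by
    apply Subtype.ext
    rw [AddSubmonoidClass.coe_finsetSum]
    push_cast
    refine mul_left_cancel₀ (pow_ne_zero α hp) ?_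
    rw [← mul_assoc, ← Nat.cast_pow, ← Nat.cast_mul, ← hcg,
      ← sum_mult_eq hM (isPBlock_toSet ψ) hb.1 S,
      finsum_mem_eq_sum_of_inter_support_eq _ (t := Finset.univ.filter (fun χ => blkOf M χ = ψ))
        (by ext χ; simp [mem_toSet]), Nat.cast_pow, Finset.mul_sum]
    refine Finset.sum_congr rfl fun χ _ => ?_
    show (p : ℂ) ^ α * (conj ((χ : G → ℂ) b) * (m χ : ℂ)) = _
    rw [hm χ]
    ring
  have hco := coeff_bidem (isPBlock_toSet ψ) b
  rw [blk_toSet] at hco
  have hfib' := congrArg (residue M) hfib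
  rw [map_sum, map_mul, map_natCast] at hfib'
  rw [hco, ← mul_assoc, mul_comm (ug : Res M), mul_assoc, ← hfib', Finset.mul_sum]
  refine Finset.sum_congr rfl fun χ hχ => ?_
  rw [map_mul, ← (Finset.mem_filter.mp hχ).2, blkOf_classSumC]

/-- Nonvanishing of a term forces the defect group to be `D`. -/
theorem isDef_of_ne_zero (hM : Cfsg.IsPModular p M) (hD : IsPGroup p D) {ψ : Blk (Res M) G}
    {a b : G} (ha : IsDClass p D a) (hb : IsDClass p D b)
    (h1 : ψ (classSumC (Res M) a) ≠ 0) (h2 : (bidem ψ).coeff b ≠ 0) : IsDef p ψ D := by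
  have hB : Cfsg.IsPBlock M (toSet ψ) := isPBlock_toSet ψ
  have hbc : ¬ Cfsg.MemLocalIdeal M (Cfsg.blockCoeff (toSet ψ) b) := by
    rw [← coeff_bidem_ne_zero_iff hB, blk_toSet]
    exact h2
  obtain ⟨χ, hχ⟩ := exists_mem ψ
  have hac : ¬ Cfsg.MemLocalIdeal M (Cfsg.centralChar (χ : G → ℂ) a) := by
    intro h
    apply h1
    rw [← mem_toSet.mp hχ, blkOf_classSumC]
    exact (memLocalIdeal_centralChar_iff χ a).mp h
  obtain ⟨Δ, hΔ⟩ := exists_isDefectGroup (p := p) hB
  obtain ⟨x, hx⟩ := exists_conj_le_isDefectGroup hM hB hΔ hbc hD hb.2.1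
  have hΔp := isPGroup_isDefectGroup hΔ
  obtain ⟨g, hg, P, hP⟩ := hΔ
  obtain ⟨y, hy⟩ := exists_conj_le_of_blockCoeff hM hB ⟨χ, hχ, hac⟩ default hg.2.1
    (Q := Δ) hΔp (hP ▸ Subgroup.map_subtype_le _)
  rw [sylow_map_eq_of_isDClass hD ha] at hy
  have hle : D ≤ Δ := by
    have e : D.map (MulAut.conj x).toMonoidHom = D := Subgroup.mem_normalizer_iff_map_conj_eq.mp
      (by rw [Subgroup.normalizer_eq_top]; exact Subgroup.mem_top x)
    rwa [e] at hx
  have hDΔ : D = Δ := Subgroup.eq_of_le_of_card_ge hle (by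
    rw [← card_map_conj y]
    exact Subgroup.card_le_of_le hy)
  rw [← blk_toSet ψ hB, ← isDefectGroup_iff hB D, hDΔ]
  exact ⟨g, hg, P, hP⟩

/-- A class supporting both the idempotent of one block and the character of another with defect
group `D` is p-regular with defect group `D`. -/
theorem isDClass_of_ne_zero (hM : Cfsg.IsPModular p M) (hD : IsPGroup p D) {ψ φ : Blk (Res M) G}
    (hψ : IsDef p ψ D) (hφ : IsDef p φ D) {h : G}
    (h1 : φ (classSumC (Res M) h) ≠ 0) (h2 : (bidem ψ).coeff h ≠ 0) : IsDClass p D h := by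
  have hB : Cfsg.IsPBlock M (toSet ψ) := isPBlock_toSet ψ
  have hB' : Cfsg.IsPBlock M (toSet φ) := isPBlock_toSet φ
  have hψ' : Cfsg.IsDefectGroup p M (toSet ψ) D := by rwa [isDefectGroup_iff hB, blk_toSet]
  have hφ' : Cfsg.IsDefectGroup p M (toSet φ) D := by rwa [isDefectGroup_iff hB', blk_toSet]
  have hbc : ¬ Cfsg.MemLocalIdeal M (Cfsg.blockCoeff (toSet ψ) h) := by
    rw [← coeff_bidem_ne_zero_iff hB, blk_toSet]
    exact h2
  obtain ⟨χ, hχ⟩ := exists_mem φ
  have hac : ¬ Cfsg.MemLocalIdeal M (Cfsg.centralChar (χ : G → ℂ) h) := by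
    intro hh
    apply h1
    rw [← mem_toSet.mp hχ, blkOf_classSumC]
    exact (memLocalIdeal_centralChar_iff χ h).mp hh
  have hreg : ¬ p ∣ orderOf h := fun hd =>
    hbc (by rw [blockCoeff_eq_zero_of_dvd hM hB hd]; exact memLocalIdeal_zero)
  have hDn : ∀ x : G, D.map (MulAut.conj x).toMonoidHom = D := fun x =>
    Subgroup.mem_normalizer_iff_map_conj_eq.mp
      (by rw [Subgroup.normalizer_eq_top]; exact Subgroup.mem_top x)
  obtain ⟨Q⟩ : Nonempty (Sylow p C[h]) := inferInstance
  obtain ⟨x, hx⟩ := exists_conj_le_isDefectGroup hM hB hψ' hbc (Q.2.map C[h].subtype)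
    (Subgroup.map_subtype_le _)
  obtain ⟨g, hg, P, hP⟩ := hφ'
  obtain ⟨y, hy⟩ := exists_conj_le_of_blockCoeff hM hB' ⟨χ, hχ, hac⟩ Q hg.2.1
    (Q := D) hD (hP ▸ Subgroup.map_subtype_le _)
  rw [hDn] at hy
  refine (isDClass_iff hD).mpr ⟨hreg, Q, (Subgroup.eq_of_le_of_card_ge hy ?_).symm⟩
  rw [← card_map_conj x]
  exact Subgroup.card_le_of_le hx

/-- The number of blocks with defect group `D` is the rank of the matrix of the counts. -/
theorem card_blocks_eq_rank (hM : Cfsg.IsPModular p M) (hD : IsPGroup p D) (S : Sylow p G)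
    {ι : Type v} [Fintype ι] [DecidableEq ι] (x : ι → G) (hx : ∀ i, IsDClass p D (x i))
    (hinj : ∀ i j, IsConj (x i) (x j) → i = j)
    (hsurj : ∀ h, IsDClass p D h → ∃ i, IsConj (x i) h) :
    Nat.card {ψ : Blk (Res M) G // IsDef p ψ D} =
      (Matrix.of fun i j : ι => ((Nat.card {yz : G × G //
          IsConj (x i) yz.1 ∧ IsConj (x j) yz.2 ∧ yz.2 * yz.1⁻¹ ∈ (S : Subgroup G)} /
        p ^ ((Nat.card G).factorization p - (Nat.card D).factorization p) : ℕ) : ZMod p)).rank := by
  classical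
  haveI := Fintype.ofFinite (Blk (Res M) G)
  haveI : Finite (ConjClasses G) := Quotient.finite _
  haveI := Fintype.ofFinite (ConjClasses G)
  let W : Matrix ι {ψ : Blk (Res M) G // IsDef p ψ D} (Res M) :=
    Matrix.of fun i ψ => ψ.1 (classSumC (Res M) (x i))
  let E : Matrix {ψ : Blk (Res M) G // IsDef p ψ D} ι (Res M) :=
    Matrix.of fun ψ j => (bidem ψ.1).coeff (x j)
  have hEW : E * W = 1 := by
    ext ψ φ
    rw [Matrix.mul_apply, Matrix.one_apply]
    have hexp : (Cfsg.Agent.Lib.BrauerPairs.Center.idem ψ.1 : ZAlg (Res M) G) =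
        ∑ c : ConjClasses G, (bidem ψ.1).coeff c.out • classSumC (Res M) c.out := by
      refine Subtype.ext ?_
      rw [AddSubmonoidClass.coe_finsetSum]
      exact eq_sum_classSum (bidem_mem ψ.1)
    have h := congrArg φ.1 hexp
    rw [apply_idem, map_sum] at h
    have hout : ∀ i, IsConj (ConjClasses.mk (x i)).out (x i) := fun i =>
      ConjClasses.mk_eq_mk_iff_isConj.mp (Quotient.out_eq (ConjClasses.mk (x i)))
    refine Eq.trans ?_ (h.symm.trans (if_congr (Subtype.coe_inj.trans eq_comm) rfl rfl))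
    refine Finset.sum_of_injOn (fun i => ConjClasses.mk (x i))
      (fun i _ j _ e => hinj i j (ConjClasses.mk_eq_mk_iff_isConj.mp e))
      (fun i _ => Finset.mem_coe.mpr (Finset.mem_univ _)) (fun c _ hc => ?_) (fun i _ => ?_)
    · rw [map_smul, smul_eq_mul]
      by_contra hne
      obtain ⟨i, hi⟩ := hsurj c.out (isDClass_of_ne_zero hM hD ψ.2 φ.2
        (right_ne_zero_of_mul hne) (left_ne_zero_of_mul hne))
      refine hc ⟨i, Finset.mem_coe.mpr (Finset.mem_univ _), ?_⟩
      exact (ConjClasses.mk_eq_mk_iff_isConj.mpr hi).trans (Quotient.out_eq c)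
    · show (bidem ψ.1).coeff (x i) * φ.1 (classSumC (Res M) (x i)) = _
      rw [map_smul, smul_eq_mul]
      obtain ⟨t, ht⟩ := isConj_iff.mp (hout i)
      have e : classSumC (Res M) (ConjClasses.mk (x i)).out = classSumC (Res M) (x i) :=
        Subtype.ext (classSum_eq_of_isConj (hout i))
      rw [e]
      congr 1
      conv_lhs => rw [← ht]
      exact (mem_center_iff_coeff _).1 (bidem_mem ψ.1) t _
  have hu : IsUnit ((ordCompl[p] (Nat.card G) : ℕ) : Res M) := by
    rw [isUnit_iff_ne_zero, Ne, CharP.cast_eq_zero_iff (Res M) p]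
    exact Nat.not_dvd_ordCompl hM.1 Nat.card_pos.ne'
  set A := Matrix.of fun i j : ι => ((Nat.card {yz : G × G //
      IsConj (x i) yz.1 ∧ IsConj (x j) yz.2 ∧ yz.2 * yz.1⁻¹ ∈ (S : Subgroup G)} /
    p ^ ((Nat.card G).factorization p - (Nat.card D).factorization p) : ℕ) : ZMod p)
  set f := ZMod.castHom dvd_rfl (Res M)
  let dg : Matrix ι ι (Res M) := Matrix.diagonal fun j =>
    ((ordCompl[p] (Nat.card C[x j]) : ℕ) : Res M)
  have hdg : IsUnit dg.det := by
    rw [Matrix.det_diagonal, isUnit_iff_ne_zero, Finset.prod_ne_zero_iff]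
    intro j _
    rw [Ne, CharP.cast_eq_zero_iff (Res M) p]
    exact Nat.not_dvd_ordCompl hM.1 Nat.card_pos.ne'
  have hA : ∀ c : Res M, c = ((ordCompl[p] (Nat.card G) : ℕ) : Res M) →
      A.map f * dg = Matrix.of fun i j => c * (W * E) i j := by
    intro c hc
    ext i j
    rw [Matrix.mul_diagonal, Matrix.map_apply, Matrix.of_apply, Matrix.mul_apply]
    simp only [A, Matrix.of_apply]
    rw [map_natCast, (residue_count hM hD S (x i) (hx j)).2, ← hc]
    congr 1
    simp only [W, E, Matrix.of_apply]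
    rw [← Finset.sum_subtype (Finset.univ.filter fun ψ => IsDef p ψ D) (fun ψ => by simp)
      (fun ψ => ψ (classSumC (Res M) (x i)) * (bidem ψ).coeff (x j))]
    refine (Finset.sum_subset (Finset.filter_subset _ _) fun ψ _ hψ => ?_).symm
    by_contra hne
    exact hψ (Finset.mem_filter.mpr ⟨Finset.mem_univ _, isDef_of_ne_zero hM hD (hx i) (hx j)
      (left_ne_zero_of_mul hne) (right_ne_zero_of_mul hne)⟩)
  obtain ⟨c, hc⟩ : ∃ c : Res M, c = ((ordCompl[p] (Nat.card G) : ℕ) : Res M) := ⟨_, rfl⟩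
  have hsc : (Matrix.of fun i j => c * (W * E) i j) = W * E * Matrix.diagonal fun _ => c := by
    ext i j
    rw [Matrix.mul_diagonal, Matrix.of_apply, mul_comm]
  have hcd : IsUnit (Matrix.diagonal fun _ : ι => c).det := by
    rw [Matrix.det_diagonal, Finset.prod_const]
    exact (hc ▸ hu).pow _
  rw [Nat.card_eq_fintype_card, ← rank_mul_of_mul_eq_one W E hEW,
    ← Matrix.rank_mul_eq_left_of_isUnit_det _ (W * E) hcd, ← hsc, ← hA c hc,
    Matrix.rank_mul_eq_left_of_isUnit_det _ (A.map f) hdg, rank_map_ringHom]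

end Cfsg.Agent.Lib.Blocks
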